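import Groth.Prelude.Def_ArtFun5
import Mathlib.RingTheory.HopkinsLevitzki

/-!
# Families over a coefficient ring versus formal elements (helper64)

For `R : CRing Λ k` and `F : Art Λ k ⥤ Type v`:
* `HomSet.exists_kills`: every `φ ∈ h_R(A)` kills some `m_R^(n+1)`;
* `facTrunc φ n h : R.trunc n ⟶ A`: the factorisation of `φ` through the truncation;
* `toFamily u`: the family `h_R → F` attached to a formal element;
* `toFamily_toFormalElt`, `Family.toFormalElt_injective`, `Family.toFormalElt_bijective`.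
-/

set_option autoImplicit false
universe u v

namespace Groth.Agent.Lib.Helper64

open ArtFun ArtFun.Art CategoryTheory

variable {Λ : Type u} {k : Type u} [CommRing Λ] [Field k] [Algebra Λ k]

section

variable (R : CRing Λ k) {A : Art Λ k}

lemma HomSet.map_mem_maximalIdeal (φ : HomSet R.carrier R.res A) (r : R.carrier)
    (hr : r ∈ IsLocalRing.maximalIdeal R.carrier) : φ.1 r ∈ IsLocalRing.maximalIdeal A := by
  rw [Art.mem_maximalIdeal_iff]
  have := AlgHom.congr_fun φ.2 r
  simp only [AlgHom.comp_apply] at this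
  rw [this]
  exact (CRing.mem_maximalIdeal_iff R r).mp hr

lemma HomSet.exists_kills (φ : HomSet R.carrier R.res A) :
    ∃ n : ℕ, ∀ x ∈ CRing.mpow R n, φ.1 x = 0 := by
  obtain ⟨N, hN⟩ := (isArtinianRing_iff_isNilpotent_maximalIdeal A).mp inferInstance
  refine ⟨N, fun x hx => ?_⟩
  have hx' : x ∈ IsLocalRing.maximalIdeal R.carrier ^ N :=
    Ideal.pow_le_pow_right (Nat.le_succ N) hx
  have h1 : φ.1 x ∈ (IsLocalRing.maximalIdeal R.carrier ^ N).map
      (φ.1 : R.carrier →+* A) := Ideal.mem_map_of_mem _ hx'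
  rw [Ideal.map_pow] at h1
  have h2 : (IsLocalRing.maximalIdeal R.carrier).map (φ.1 : R.carrier →+* A) ≤
      IsLocalRing.maximalIdeal A := by
    rw [Ideal.map_le_iff_le_comap]
    exact fun r hr => HomSet.map_mem_maximalIdeal R φ r hr
  have h3 := Ideal.pow_right_mono h2 N h1
  rw [hN] at h3
  exact h3

/-- The factorisation of `φ : R → A` through `R/m^(n+1)` when `φ` kills `m^(n+1)`. -/
noncomputable def facTrunc (φ : HomSet R.carrier R.res A) (n : ℕ)
    (h : ∀ x ∈ CRing.mpow R n, φ.1 x = 0) : R.trunc n ⟶ A :=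
  ⟨Ideal.Quotient.liftₐ (CRing.mpow R n) φ.1 h, by
    apply AlgHom.ext
    intro x
    obtain ⟨a, rfl⟩ := Ideal.Quotient.mk_surjective x
    exact AlgHom.congr_fun φ.2 a⟩

lemma facTrunc_truncHom (φ : HomSet R.carrier R.res A) (n : ℕ)
    (h : ∀ x ∈ CRing.mpow R n, φ.1 x = 0) :
    HomSet.map (facTrunc R φ n h) (R.truncHom n) = φ :=
  Subtype.ext (AlgHom.ext fun _ => rfl)

lemma kills_succ (φ : HomSet R.carrier R.res A) (n : ℕ)
    (h : ∀ x ∈ CRing.mpow R n, φ.1 x = 0) : ∀ x ∈ CRing.mpow R (n + 1), φ.1 x = 0 :=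
  fun x hx => h x (Ideal.pow_le_pow_right (Nat.le_succ _) hx)

lemma kills_add (φ : HomSet R.carrier R.res A) (n d : ℕ)
    (h : ∀ x ∈ CRing.mpow R n, φ.1 x = 0) : ∀ x ∈ CRing.mpow R (n + d), φ.1 x = 0 :=
  fun x hx => h x (Ideal.pow_le_pow_right (by omega) hx)

lemma truncMap_facTrunc (φ : HomSet R.carrier R.res A) (n : ℕ)
    (h : ∀ x ∈ CRing.mpow R n, φ.1 x = 0) :
    R.truncMap n ≫ facTrunc R φ n h = facTrunc R φ (n + 1) (kills_succ R φ n h) := by
  apply Art.hom_ext
  apply AlgHom.ext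
  intro x
  obtain ⟨a, rfl⟩ := Ideal.Quotient.mk_surjective x
  rfl

lemma facTrunc_comp {B : Art Λ k} (g : A ⟶ B) (φ : HomSet R.carrier R.res A) (n : ℕ)
    (h : ∀ x ∈ CRing.mpow R n, φ.1 x = 0) :
    facTrunc R φ n h ≫ g = facTrunc R (HomSet.map g φ) n
      (fun x hx => by show g.toAlgHom (φ.1 x) = 0; rw [h x hx, map_zero]) := by
  apply Art.hom_ext
  apply AlgHom.ext
  intro x
  obtain ⟨a, rfl⟩ := Ideal.Quotient.mk_surjective x
  rfl

lemma facTrunc_truncHom_self (n : ℕ) :
    facTrunc R (R.truncHom n) n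
      (fun x hx => Ideal.Quotient.eq_zero_iff_mem.mpr hx) = 𝟙 (R.trunc n) := by
  apply Art.hom_ext
  apply AlgHom.ext
  intro x
  obtain ⟨a, rfl⟩ := Ideal.Quotient.mk_surjective x
  rfl

end

section Family

variable {R : CRing Λ k} {F : Art Λ k ⥤ Type v}

/-- the value of a formal element along a factorisation does not depend on the level -/
lemma FormalElt.map_facTrunc_le (u : FormalElt F R) {A : Art Λ k}
    (φ : HomSet R.carrier R.res A) (n m : ℕ) (hnm : n ≤ m) (h : ∀ x ∈ CRing.mpow R n, φ.1 x = 0)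
    (hm : ∀ x ∈ CRing.mpow R m, φ.1 x = 0) :
    F.map (facTrunc R φ m hm) (u.elt m) = F.map (facTrunc R φ n h) (u.elt n) := by
  induction m, hnm using Nat.le_induction with
  | base => rfl
  | succ m hnm ih =>
    have hm' : ∀ x ∈ CRing.mpow R m, φ.1 x = 0 :=
      fun x hx => h x (Ideal.pow_le_pow_right (by omega) hx)
    rw [← ih hm']
    have h1 := truncMap_facTrunc R φ m hm'
    have h2 : facTrunc R φ (m + 1) hm = R.truncMap m ≫ facTrunc R φ m hm' := h1.symm
    rw [h2, FunctorToTypes.map_comp_apply, u.compat]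

lemma FormalElt.map_facTrunc_indep (u : FormalElt F R) {A : Art Λ k}
    (φ : HomSet R.carrier R.res A) (n n' : ℕ) (h : ∀ x ∈ CRing.mpow R n, φ.1 x = 0)
    (h' : ∀ x ∈ CRing.mpow R n', φ.1 x = 0) :
    F.map (facTrunc R φ n h) (u.elt n) = F.map (facTrunc R φ n' h') (u.elt n') := by
  have hmax : ∀ x ∈ CRing.mpow R (max n n'), φ.1 x = 0 :=
    fun x hx => h x (Ideal.pow_le_pow_right (by omega) hx)
  rw [← FormalElt.map_facTrunc_le u φ n (max n n') (le_max_left _ _) h hmax,
    ← FormalElt.map_facTrunc_le u φ n' (max n n') (le_max_right _ _) h' hmax]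

/-- The family attached to a formal element. -/
noncomputable def toFamily (u : FormalElt F R) : Family R.carrier R.res F where
  app A φ := F.map (facTrunc R φ (Classical.choose (HomSet.exists_kills R φ))
    (Classical.choose_spec (HomSet.exists_kills R φ))) (u.elt _)
  natural {A B} g φ := by
    have hφ := Classical.choose_spec (HomSet.exists_kills R φ)
    rw [← FunctorToTypes.map_comp_apply, facTrunc_comp R g φ _ hφ]
    exact FormalElt.map_facTrunc_indep u (HomSet.map g φ) _ _ _ _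

lemma toFamily_app (u : FormalElt F R) {A : Art Λ k} (φ : HomSet R.carrier R.res A)
    (n : ℕ) (h : ∀ x ∈ CRing.mpow R n, φ.1 x = 0) :
    (toFamily u).app A φ = F.map (facTrunc R φ n h) (u.elt n) :=
  FormalElt.map_facTrunc_indep u φ _ _ _ _

lemma toFamily_toFormalElt (u : FormalElt F R) : (toFamily u).toFormalElt = u := by
  apply FormalElt.ext'
  intro n
  show (toFamily u).app _ (R.truncHom n) = u.elt n
  rw [toFamily_app u (R.truncHom n) n
    (fun x hx => Ideal.Quotient.eq_zero_iff_mem.mpr hx), facTrunc_truncHom_self,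
    FunctorToTypes.map_id_apply]

lemma Family.app_eq_of_toFormalElt (ξ : Family R.carrier R.res F) {A : Art Λ k}
    (φ : HomSet R.carrier R.res A) (n : ℕ) (h : ∀ x ∈ CRing.mpow R n, φ.1 x = 0) :
    ξ.app A φ = F.map (facTrunc R φ n h) (ξ.toFormalElt.elt n) := by
  show _ = F.map (facTrunc R φ n h) (ξ.app _ (R.truncHom n))
  rw [← ξ.natural, facTrunc_truncHom]

lemma Family.ext' {ξ ξ' : Family R.carrier R.res F} (h : ∀ A φ, ξ.app A φ = ξ'.app A φ) :
    ξ = ξ' := by
  cases ξ; cases ξ'; congr; funext A φ; exact h A φ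

lemma Family.toFormalElt_injective :
    Function.Injective (fun ξ : Family R.carrier R.res F => ξ.toFormalElt) := by
  intro ξ ξ' h
  apply Family.ext'
  intro A φ
  obtain ⟨n, hn⟩ := HomSet.exists_kills R φ
  have h' : ξ.toFormalElt = ξ'.toFormalElt := h
  rw [Family.app_eq_of_toFormalElt ξ φ n hn, Family.app_eq_of_toFormalElt ξ' φ n hn, h']

lemma Family.toFormalElt_bijective :
    Function.Bijective (fun ξ : Family R.carrier R.res F => ξ.toFormalElt) :=
  ⟨Family.toFormalElt_injective, fun u => ⟨toFamily u, toFamily_toFormalElt u⟩⟩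

lemma Family.toFormalElt_toFamily (ξ : Family R.carrier R.res F) :
    toFamily ξ.toFormalElt = ξ :=
  Family.toFormalElt_injective (toFamily_toFormalElt ξ.toFormalElt)

end Family

end Groth.Agent.Lib.Helper64
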