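import Groth.Prelude.Def_ArtFun5
import Groth.Agent.Lib.Helper64.FormalFamily
import Mathlib.RingTheory.AdicCompletion.Noetherian
import Mathlib.RingTheory.AdicCompletion.Basic
import Mathlib.RingTheory.HopkinsLevitzki
import Mathlib.RingTheory.Ideal.Quotient.Noetherian

/-!
# Quotients of coefficient rings, Chevalley's lemma, minimal ideals (helper64)

* `isPrecomplete_of_surjective`: a surjective image of an `I`-adically precomplete module is precomplete.
* `isAdicComplete_quotient`: a quotient of a complete Noetherian local ring is complete.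
* `CRing.quot S J hJ`: the quotient of a coefficient ring by a proper ideal, again a coefficient ring;
  `CRing.quotHom` the quotient map.
* `chevalley`: in a complete Noetherian local ring, for a decreasing sequence of ideals `J q` and every `N` some
  `J q` lies in `(⨅ q, J q) ⊔ m ^ N`.
* `exists_minimal_ideal`: a nonempty family of ideals all containing a fixed ideal `I₀ ⊇ m ^ N` has a minimal element.
* `CRing.exists_kills_of_kills_iInf`: a map to an Artinian object killing `⨅ q, J q` kills some `J q`.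
-/

set_option autoImplicit false
universe u v

namespace Groth.Agent.Lib.Helper64

open ArtFun ArtFun.Art CategoryTheory

section Precomplete

variable {R : Type*} [CommRing R] (I : Ideal R) {M N : Type*} [AddCommGroup M] [Module R M]
  [AddCommGroup N] [Module R N]

lemma isPrecomplete_of_surjective (f : M →ₗ[R] N) (hf : Function.Surjective f)
    [IsPrecomplete I M] : IsPrecomplete I N := by
  classical
  refine ⟨fun g hg => ?_⟩
  -- lifting differences
  have hmap : ∀ n : ℕ, (I ^ n • ⊤ : Submodule R N) = Submodule.map f (I ^ n • ⊤ : Submodule R M) := by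
    intro n
    rw [Submodule.map_smul'', Submodule.map_top, LinearMap.range_eq_top.mpr hf]
  have hd : ∀ n : ℕ, ∃ d : M, d ∈ (I ^ n • ⊤ : Submodule R M) ∧ f d = g (n + 1) - g n := by
    intro n
    have h1 : g (n + 1) - g n ∈ (I ^ n • ⊤ : Submodule R N) := by
      have := (hg (Nat.le_succ n)).symm
      rwa [SModEq.sub_mem] at this
    rw [hmap n] at h1
    obtain ⟨d, hd, hfd⟩ := h1
    exact ⟨d, hd, hfd⟩
  choose d hdmem hdf using hd
  obtain ⟨h0, hh0⟩ := hf (g 0)
  let h : ℕ → M := fun n => Nat.rec h0 (fun n x => x + d n) n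
  have hsucc : ∀ n, h (n + 1) = h n + d n := fun n => rfl
  have hfh : ∀ n, f (h n) = g n := by
    intro n
    induction n with
    | zero => exact hh0
    | succ n ih => rw [hsucc, map_add, ih, hdf]; abel
  have hcauchy : ∀ {m n}, m ≤ n → h m ≡ h n [SMOD (I ^ m • ⊤ : Submodule R M)] := by
    have : AdicCompletion.IsAdicCauchy I M h := by
      rw [AdicCompletion.isAdicCauchy_iff]
      intro n
      apply SModEq.symm
      rw [SModEq.sub_mem, hsucc]
      simpa using hdmem n
    intro m n hmn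
    exact this hmn
  obtain ⟨L, hL⟩ := IsPrecomplete.prec' h hcauchy
  refine ⟨f L, fun n => ?_⟩
  have := hL n
  rw [SModEq.sub_mem] at this ⊢
  rw [hmap n, ← hfh n, ← map_sub]
  exact Submodule.mem_map_of_mem this

end Precomplete

section Quot

variable {S : Type*} [CommRing S] [IsLocalRing S] [IsNoetherianRing S]

lemma isLocalRing_quotient (J : Ideal S) (hJ : J ≠ ⊤) : IsLocalRing (S ⧸ J) :=
  haveI : Nontrivial (S ⧸ J) := Ideal.Quotient.nontrivial_iff.2 hJ
  IsLocalRing.of_surjective' (Ideal.Quotient.mk J) Ideal.Quotient.mk_surjective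

lemma maximalIdeal_quotient (J : Ideal S) (hJ : J ≠ ⊤) :
    haveI := isLocalRing_quotient J hJ
    IsLocalRing.maximalIdeal (S ⧸ J) = (IsLocalRing.maximalIdeal S).map (Ideal.Quotient.mk J) := by
  haveI := isLocalRing_quotient J hJ
  apply le_antisymm
  · intro x hx
    obtain ⟨a, rfl⟩ := Ideal.Quotient.mk_surjective x
    have ha : a ∈ IsLocalRing.maximalIdeal S := by
      rw [IsLocalRing.mem_maximalIdeal] at hx ⊢
      exact fun hu => hx (hu.map (Ideal.Quotient.mk J))
    exact Ideal.mem_map_of_mem _ ha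
  · rw [Ideal.map_le_iff_le_comap]
    intro a ha
    rw [Ideal.mem_comap, IsLocalRing.mem_maximalIdeal, mem_nonunits_iff]
    intro hu
    have hJm : J ≤ IsLocalRing.maximalIdeal S := IsLocalRing.le_maximalIdeal hJ
    obtain ⟨b, hb⟩ := hu.exists_right_inv
    obtain ⟨c, rfl⟩ := Ideal.Quotient.mk_surjective b
    rw [← map_mul, ← map_one (Ideal.Quotient.mk J), Ideal.Quotient.eq] at hb
    have h1 : a * c - 1 ∈ IsLocalRing.maximalIdeal S := hJm hb
    have h2 : a * c ∈ IsLocalRing.maximalIdeal S := Ideal.mul_mem_right _ _ ha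
    have h3 : (1 : S) ∈ IsLocalRing.maximalIdeal S := by
      have := Ideal.sub_mem _ h2 h1
      simpa using this
    exact (Ideal.ne_top_iff_one _).mp (IsLocalRing.maximalIdeal.isMaximal S).ne_top h3

theorem isAdicComplete_quotient [IsAdicComplete (IsLocalRing.maximalIdeal S) S] (J : Ideal S)
    (hJ : J ≠ ⊤) :
    haveI := isLocalRing_quotient J hJ
    IsAdicComplete (IsLocalRing.maximalIdeal (S ⧸ J)) (S ⧸ J) := by
  haveI := isLocalRing_quotient J hJ
  haveI : IsPrecomplete (IsLocalRing.maximalIdeal S) (S ⧸ J) :=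
    isPrecomplete_of_surjective (IsLocalRing.maximalIdeal S) (Submodule.mkQ J)
      (Submodule.mkQ_surjective J)
  haveI : IsPrecomplete (IsLocalRing.maximalIdeal (S ⧸ J)) (S ⧸ J) := by
    rw [maximalIdeal_quotient J hJ]
    exact (IsPrecomplete.map_algebraMap_iff (S := S ⧸ J) (M := S ⧸ J)
      (I := IsLocalRing.maximalIdeal S)).mpr inferInstance
  exact { }

end Quot

section CRingQuot

variable {Λ : Type u} {k : Type u} [CommRing Λ] [Field k] [Algebra Λ k]

/-- The quotient of a coefficient ring by a proper ideal. -/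
noncomputable def CRing.quot (S : CRing Λ k) (J : Ideal S.carrier) (hJ : J ≠ ⊤) : CRing Λ k :=
  haveI : IsAdicComplete (IsLocalRing.maximalIdeal S.carrier) S.carrier := S.isAdicComplete
  { carrier := S.carrier ⧸ J
    isLocalRing := isLocalRing_quotient J hJ
    res := Ideal.Quotient.liftₐ J S.res (fun a ha =>
      (CRing.mem_maximalIdeal_iff S a).1 (IsLocalRing.le_maximalIdeal hJ ha))
    res_surjective := fun c => by
      obtain ⟨a, ha⟩ := S.res_surjective c
      exact ⟨Ideal.Quotient.mk _ a, ha⟩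
    isAdicComplete := isAdicComplete_quotient J hJ }

/-- The quotient map as an augmentation-compatible algebra map. -/
noncomputable def CRing.quotMap (S : CRing Λ k) (J : Ideal S.carrier) (hJ : J ≠ ⊤) :
    S.carrier →ₐ[Λ] (CRing.quot S J hJ).carrier := Ideal.Quotient.mkₐ Λ J

lemma CRing.quotMap_res (S : CRing Λ k) (J : Ideal S.carrier) (hJ : J ≠ ⊤) :
    (CRing.quot S J hJ).res.comp (CRing.quotMap S J hJ) = S.res :=
  AlgHom.ext fun _ => rfl

lemma CRing.quotMap_surjective (S : CRing Λ k) (J : Ideal S.carrier) (hJ : J ≠ ⊤) :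
    Function.Surjective (CRing.quotMap S J hJ) := Ideal.Quotient.mk_surjective

/-- The quotient of a coefficient ring by an ideal containing a power of the maximal ideal is Artinian. -/
lemma isArtinianRing_quotient_of_pow_le {S : Type*} [CommRing S] [IsLocalRing S] [IsNoetherianRing S]
    (J : Ideal S) (hJ : J ≠ ⊤) (N : ℕ) (hN : IsLocalRing.maximalIdeal S ^ N ≤ J) :
    IsArtinianRing (S ⧸ J) := by
  haveI := isLocalRing_quotient J hJ
  rw [isArtinianRing_iff_isNilpotent_maximalIdeal]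
  refine ⟨N, ?_⟩
  rw [Ideal.zero_eq_bot, ← le_bot_iff, maximalIdeal_quotient J hJ, ← Ideal.map_pow]
  calc (IsLocalRing.maximalIdeal S ^ N).map (Ideal.Quotient.mk J)
      ≤ J.map (Ideal.Quotient.mk J) := Ideal.map_mono hN
    _ = ⊥ := Ideal.map_quotient_self _

/-- `S/J` as an object of `Art Λ k` when `m^N ≤ J`. -/
noncomputable def CRing.quotArt (S : CRing Λ k) (J : Ideal S.carrier) (hJ : J ≠ ⊤) (N : ℕ)
    (hN : IsLocalRing.maximalIdeal S.carrier ^ N ≤ J) : Art Λ k :=
  { carrier := S.carrier ⧸ J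
    isLocalRing := isLocalRing_quotient J hJ
    isArtinianRing := isArtinianRing_quotient_of_pow_le J hJ N hN
    res := Ideal.Quotient.liftₐ J S.res (fun a ha =>
      (CRing.mem_maximalIdeal_iff S a).1 (IsLocalRing.le_maximalIdeal hJ ha))
    res_surjective := fun c => by
      obtain ⟨a, ha⟩ := S.res_surjective c
      exact ⟨Ideal.Quotient.mk _ a, ha⟩ }

/-- The quotient map `S → S/J` as an element of `h_S(S/J)`. -/
noncomputable def CRing.quotArtHom (S : CRing Λ k) (J : Ideal S.carrier) (hJ : J ≠ ⊤) (N : ℕ)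
    (hN : IsLocalRing.maximalIdeal S.carrier ^ N ≤ J) :
    HomSet S.carrier S.res (CRing.quotArt S J hJ N hN) :=
  ⟨Ideal.Quotient.mkₐ Λ J, AlgHom.ext fun _ => rfl⟩

/-- The transition map `S/J → S/J'` for `J ≤ J'`. -/
noncomputable def CRing.quotArtMap (S : CRing Λ k) {J J' : Ideal S.carrier} (hJ : J ≠ ⊤)
    (hJ' : J' ≠ ⊤) {N N' : ℕ} (hN : IsLocalRing.maximalIdeal S.carrier ^ N ≤ J)
    (hN' : IsLocalRing.maximalIdeal S.carrier ^ N' ≤ J') (hle : J ≤ J') :
    CRing.quotArt S J hJ N hN ⟶ CRing.quotArt S J' hJ' N' hN' :=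
  ⟨Ideal.Quotient.factorₐ Λ hle, by
    apply AlgHom.ext
    intro x
    obtain ⟨a, rfl⟩ := Ideal.Quotient.mk_surjective x
    rfl⟩

lemma CRing.quotArtMap_quotArtHom (S : CRing Λ k) {J J' : Ideal S.carrier} (hJ : J ≠ ⊤)
    (hJ' : J' ≠ ⊤) {N N' : ℕ} (hN : IsLocalRing.maximalIdeal S.carrier ^ N ≤ J)
    (hN' : IsLocalRing.maximalIdeal S.carrier ^ N' ≤ J') (hle : J ≤ J') :
    HomSet.map (CRing.quotArtMap S hJ hJ' hN hN' hle) (CRing.quotArtHom S J hJ N hN) =
      CRing.quotArtHom S J' hJ' N' hN' :=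
  Subtype.ext (AlgHom.ext fun _ => rfl)

lemma CRing.quotArtMap_surjective (S : CRing Λ k) {J J' : Ideal S.carrier} (hJ : J ≠ ⊤)
    (hJ' : J' ≠ ⊤) {N N' : ℕ} (hN : IsLocalRing.maximalIdeal S.carrier ^ N ≤ J)
    (hN' : IsLocalRing.maximalIdeal S.carrier ^ N' ≤ J') (hle : J ≤ J') :
    Function.Surjective (CRing.quotArtMap S hJ hJ' hN hN' hle) := by
  intro x
  obtain ⟨a, rfl⟩ := Ideal.Quotient.mk_surjective x
  exact ⟨Ideal.Quotient.mk J a, rfl⟩

end CRingQuot

section Chevalley

variable {S : Type*} [CommRing S] [IsLocalRing S] [IsNoetherianRing S]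

/-- Krull: every ideal of a Noetherian local ring is closed. -/
lemma mem_of_forall_mem_sup_pow (I : Ideal S) (x : S)
    (h : ∀ s : ℕ, x ∈ I ⊔ IsLocalRing.maximalIdeal S ^ s) : x ∈ I := by
  have hH : IsHausdorff (IsLocalRing.maximalIdeal S) (S ⧸ I) := inferInstance
  rw [← Ideal.Quotient.eq_zero_iff_mem]
  apply hH.haus
  intro s
  rw [SModEq.zero]
  obtain ⟨i, hi, μ, hμ, rfl⟩ := Submodule.mem_sup.mp (h s)
  have : Ideal.Quotient.mk I (i + μ) = μ • (Ideal.Quotient.mk I 1) := by
    rw [map_add, Ideal.Quotient.eq_zero_iff_mem.mpr hi, zero_add, Algebra.smul_def, map_one,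
      mul_one]
    rfl
  rw [this]
  exact Submodule.smul_mem_smul hμ Submodule.mem_top

lemma maximalIdeal_pow_succ_ne_top (t : ℕ) : IsLocalRing.maximalIdeal S ^ (t + 1) ≠ ⊤ := by
  intro h
  have : IsLocalRing.maximalIdeal S ^ (t + 1) ≤ IsLocalRing.maximalIdeal S :=
    Ideal.pow_le_self (Nat.succ_ne_zero t)
  rw [h, top_le_iff] at this
  exact (IsLocalRing.maximalIdeal.isMaximal S).ne_top this

/-- a decreasing chain of ideals stabilises modulo a power of the maximal ideal -/
lemma exists_stable (J : ℕ → Ideal S) (hJ : Antitone J) (t : ℕ) :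
    ∃ q₀, ∀ q, q₀ ≤ q → J q ⊔ IsLocalRing.maximalIdeal S ^ (t + 1) =
      J q₀ ⊔ IsLocalRing.maximalIdeal S ^ (t + 1) := by
  haveI : IsArtinianRing (S ⧸ IsLocalRing.maximalIdeal S ^ (t + 1)) :=
    isArtinianRing_quotient_of_pow_le _ (maximalIdeal_pow_succ_ne_top t) (t + 1) le_rfl
  let f : ℕ →o (Ideal (S ⧸ IsLocalRing.maximalIdeal S ^ (t + 1)))ᵒᵈ :=
    ⟨fun q => OrderDual.toDual ((J q).map (Ideal.Quotient.mk _)),
      fun a b hab => Ideal.map_mono (hJ hab)⟩
  obtain ⟨q₀, hq₀⟩ := IsArtinian.monotone_stabilizes f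
  refine ⟨q₀, fun q hq => ?_⟩
  have h1 := hq₀ q hq
  have h2 : (J q).map (Ideal.Quotient.mk (IsLocalRing.maximalIdeal S ^ (t + 1))) =
      (J q₀).map (Ideal.Quotient.mk (IsLocalRing.maximalIdeal S ^ (t + 1))) :=
    (congrArg OrderDual.ofDual h1).symm
  have h3 := congrArg (Ideal.comap (Ideal.Quotient.mk (IsLocalRing.maximalIdeal S ^ (t + 1)))) h2
  rw [Ideal.comap_map_of_surjective _ Ideal.Quotient.mk_surjective,
    Ideal.comap_map_of_surjective _ Ideal.Quotient.mk_surjective,
    ← RingHom.ker_eq_comap_bot, Ideal.mk_ker] at h3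
  exact h3

/-- **Chevalley's lemma**: in a complete Noetherian local ring, a decreasing sequence of ideals is eventually
contained in any given neighbourhood of its intersection. -/
theorem chevalley [IsAdicComplete (IsLocalRing.maximalIdeal S) S] (J : ℕ → Ideal S)
    (hJ : Antitone J) (N : ℕ) : ∃ q, J q ≤ (⨅ q, J q) ⊔ IsLocalRing.maximalIdeal S ^ N := by
  classical
  rcases N with _ | t₀
  · exact ⟨0, by simp⟩
  by_contra hcon
  push Not at hcon
  choose Q hQ using exists_stable J hJ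
  let I : ℕ → Ideal S := fun t => J (Q t) ⊔ IsLocalRing.maximalIdeal S ^ (t + 1)
  have P1 : ∀ t q, Q t ≤ q → J q ⊔ IsLocalRing.maximalIdeal S ^ (t + 1) = I t := hQ
  have P3 : ∀ t, ∀ x ∈ I t, ∃ x' ∈ I (t + 1), x' - x ∈ IsLocalRing.maximalIdeal S ^ (t + 1) := by
    intro t x hx
    rw [← P1 t (max (Q t) (Q (t + 1))) (le_max_left _ _)] at hx
    obtain ⟨j, hj, μ, hμ, rfl⟩ := Submodule.mem_sup.mp hx
    refine ⟨j, ?_, ?_⟩
    · rw [← P1 (t + 1) (max (Q t) (Q (t + 1))) (le_max_right _ _)]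
      exact Ideal.mem_sup_left hj
    · have : j - (j + μ) = -μ := by ring
      rw [this]
      exact neg_mem hμ
  have P4 : ∀ q t, I t ≤ J q ⊔ IsLocalRing.maximalIdeal S ^ (t + 1) := by
    intro q t
    rw [← P1 t (max q (Q t)) (le_max_right _ _)]
    exact sup_le_sup_right (hJ (le_max_left _ _)) _
  obtain ⟨x₀, hx₀J, hx₀⟩ := SetLike.not_le_iff_exists.mp (hcon (Q t₀))
  have hx₀I : x₀ ∈ I t₀ := Ideal.mem_sup_left hx₀J
  choose! lift hlift1 hlift2 using P3
  let y : ℕ → S := fun s => Nat.rec x₀ (fun s x => lift (t₀ + s) x) s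
  have hy0 : y 0 = x₀ := rfl
  have hys : ∀ s, y (s + 1) = lift (t₀ + s) (y s) := fun s => rfl
  have hyI : ∀ s, y s ∈ I (t₀ + s) := by
    intro s
    induction s with
    | zero => exact hx₀I
    | succ s ih =>
      rw [hys]
      exact hlift1 (t₀ + s) (y s) ih
  have hyd : ∀ s, y (s + 1) - y s ∈ IsLocalRing.maximalIdeal S ^ (t₀ + s + 1) := fun s => by
    rw [hys]
    exact hlift2 _ _ (hyI s)
  have hc : ∀ {m n}, m ≤ n →
      y m ≡ y n [SMOD (IsLocalRing.maximalIdeal S ^ m • ⊤ : Submodule S S)] := by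
    have : AdicCompletion.IsAdicCauchy (IsLocalRing.maximalIdeal S) S y := by
      rw [AdicCompletion.isAdicCauchy_iff]
      intro n
      apply SModEq.symm
      rw [SModEq.sub_mem, smul_eq_mul, Ideal.mul_top]
      exact Ideal.pow_le_pow_right (by omega) (hyd n)
    intro m n hmn
    exact this hmn
  obtain ⟨L, hL⟩ := IsPrecomplete.prec' y hc
  have hL' : ∀ s, L - y s ∈ IsLocalRing.maximalIdeal S ^ s := by
    intro s
    have := (hL s).symm
    rwa [SModEq.sub_mem, smul_eq_mul, Ideal.mul_top] at this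
  have hy0s : ∀ s, y s - y 0 ∈ IsLocalRing.maximalIdeal S ^ (t₀ + 1) := by
    intro s
    induction s with
    | zero => simp
    | succ s ih =>
      have : y (s + 1) - y 0 = (y (s + 1) - y s) + (y s - y 0) := by ring
      rw [this]
      exact Ideal.add_mem _ (Ideal.pow_le_pow_right (by omega) (hyd s)) ih
  have hF1 : L ∉ (⨅ q, J q) ⊔ IsLocalRing.maximalIdeal S ^ (t₀ + 1) := by
    intro hmem
    apply hx₀
    have h1 : L - x₀ ∈ IsLocalRing.maximalIdeal S ^ (t₀ + 1) := by
      have : L - x₀ = (L - y (t₀ + 1)) + (y (t₀ + 1) - y 0) := by rw [hy0]; ring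
      rw [this]
      exact Ideal.add_mem _ (hL' (t₀ + 1)) (hy0s (t₀ + 1))
    have : x₀ = L - (L - x₀) := by ring
    rw [this]
    exact Ideal.sub_mem _ hmem (Ideal.mem_sup_right h1)
  apply hF1
  apply Ideal.mem_sup_left
  rw [Ideal.mem_iInf]
  intro q
  apply mem_of_forall_mem_sup_pow
  intro s
  have h1 : y s ∈ J q ⊔ IsLocalRing.maximalIdeal S ^ s := by
    have := P4 q (t₀ + s) (hyI s)
    have hle : IsLocalRing.maximalIdeal S ^ (t₀ + s + 1) ≤ IsLocalRing.maximalIdeal S ^ s :=
      Ideal.pow_le_pow_right (by omega)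
    exact (sup_le_sup_left hle (J q)) this
  have : L = (L - y s) + y s := by ring
  rw [this]
  exact Ideal.add_mem _ (Ideal.mem_sup_right (hL' s)) h1

/-- A nonempty family of ideals all containing a fixed ideal `I₀ ⊇ m ^ N` has a minimal element. -/
theorem exists_minimal_ideal (I₀ : Ideal S) (hI₀ : I₀ ≠ ⊤) (N : ℕ)
    (hN : IsLocalRing.maximalIdeal S ^ N ≤ I₀) (T : Set (Ideal S)) (hT : T.Nonempty)
    (hTI : ∀ J ∈ T, I₀ ≤ J) : ∃ J ∈ T, ∀ J' ∈ T, J' ≤ J → J' = J := by
  haveI : IsArtinianRing (S ⧸ I₀) := isArtinianRing_quotient_of_pow_le I₀ hI₀ N hN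
  let T' : Set (Ideal (S ⧸ I₀)) := (fun J => J.map (Ideal.Quotient.mk I₀)) '' T
  have hT' : T'.Nonempty := hT.image _
  obtain ⟨K, hK, hmin⟩ := (wellFounded_lt (α := Ideal (S ⧸ I₀))).has_min T' hT'
  obtain ⟨J, hJT, rfl⟩ := hK
  refine ⟨J, hJT, fun J' hJ' hle => ?_⟩
  have h1 : J'.map (Ideal.Quotient.mk I₀) ≤ J.map (Ideal.Quotient.mk I₀) := Ideal.map_mono hle
  have h2 : ¬ (J'.map (Ideal.Quotient.mk I₀) < J.map (Ideal.Quotient.mk I₀)) :=
    hmin _ ⟨J', hJ', rfl⟩
  have h3 : J'.map (Ideal.Quotient.mk I₀) = J.map (Ideal.Quotient.mk I₀) := by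
    rcases h1.lt_or_eq with h | h
    · exact absurd h h2
    · exact h
  have h4 := congrArg (Ideal.comap (Ideal.Quotient.mk I₀)) h3
  rw [Ideal.comap_map_of_surjective _ Ideal.Quotient.mk_surjective,
    Ideal.comap_map_of_surjective _ Ideal.Quotient.mk_surjective,
    ← RingHom.ker_eq_comap_bot, Ideal.mk_ker, sup_eq_left.mpr (hTI J' hJ'),
    sup_eq_left.mpr (hTI J hJT)] at h4
  exact h4

end Chevalley

section Factor

variable {Λ : Type u} {k : Type u} [CommRing Λ] [Field k] [Algebra Λ k]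

/-- A map `S → A` to an Artinian object killing the intersection of a decreasing sequence of ideals kills one of
them (Chevalley). -/
theorem CRing.exists_kills_of_kills_iInf (S : CRing Λ k) (J : ℕ → Ideal S.carrier) (hJ : Antitone J)
    {A : Art Λ k} (φ : HomSet S.carrier S.res A) (hφ : ∀ x ∈ ⨅ q, J q, φ.1 x = 0) :
    ∃ q, ∀ x ∈ J q, φ.1 x = 0 := by
  haveI : IsAdicComplete (IsLocalRing.maximalIdeal S.carrier) S.carrier := S.isAdicComplete
  obtain ⟨n, hn⟩ := HomSet.exists_kills S φ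
  obtain ⟨q, hq⟩ := chevalley J hJ (n + 1)
  refine ⟨q, fun x hx => ?_⟩
  obtain ⟨a, ha, b, hb, rfl⟩ := Submodule.mem_sup.mp (hq hx)
  rw [map_add, hφ a ha, hn b hb, add_zero]

end Factor

end Groth.Agent.Lib.Helper64
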