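import Mathlib

/-!
# Ideals of the adic completion of a Noetherian ring are closed

`mem_map_of_forall_val`: for a Noetherian ring `B`, ideals `J`, `N` of `B` and
`c ∈ AdicCompletion J B`: if every component `c.val n` is represented by an element of `N`, then
`c ∈ N · (AdicCompletion J B)`.
-/

namespace Groth.Agent.Lib.Helper64.AdicClosed

open AdicCompletion

universe u

variable {B : Type u} [CommRing B]

/-- The completion of the linear form `v ↦ Σ v i * g i` is `y ↦ Σ g i * y_i`. -/
theorem map_linearCombination (J : Ideal B) {r : ℕ} (g : Fin r → B)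
    (y : AdicCompletion J (Fin r → B)) :
    AdicCompletion.map J (Fintype.linearCombination B g) y =
      ∑ i, algebraMap B (AdicCompletion J B) (g i) *
        AdicCompletion.map J (LinearMap.proj (R := B) (φ := fun _ : Fin r => B) i) y := by
  induction y using AdicCompletion.induction_on with
  | _ v =>
    apply AdicCompletion.ext
    intro n
    rw [AdicCompletion.map_mk, AdicCompletion.mk_apply_coe, AdicCompletion.val_sum_apply]
    simp only [AdicCompletion.val_mul, AdicCompletion.map_mk, AdicCompletion.mk_apply_coe,
      AdicCompletion.algebraMap_apply, AdicCompletion.of_apply, AdicCauchySequence.map_apply_coe,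
      Fintype.linearCombination_apply, Algebra.algebraMap_self, RingHom.id_apply,
      Submodule.mkQ_apply, LinearMap.proj_apply]
    change Ideal.Quotient.mk (J ^ n • ⊤ : Ideal B) (∑ i, v n i • g i) =
      ∑ x, Ideal.Quotient.mk (J ^ n • ⊤ : Ideal B) (g x) *
        Ideal.Quotient.mk (J ^ n • ⊤ : Ideal B) (v n x)
    rw [map_sum]
    refine Finset.sum_congr rfl (fun i _ => ?_)
    rw [← map_mul]
    congr 1
    rw [smul_eq_mul, mul_comm]

theorem mem_map_of_forall_val [IsNoetherianRing B] (J N : Ideal B) (c : AdicCompletion J B)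
    (hc : ∀ n : ℕ, ∃ b ∈ N, c.val n = Submodule.Quotient.mk b) :
    c ∈ N.map (algebraMap B (AdicCompletion J B)) := by
  let ι : N →ₗ[B] B := Submodule.subtype N
  let q : B →ₗ[B] (B ⧸ N) := Submodule.mkQ N
  have hex : Function.Exact ι q := LinearMap.exact_subtype_mkQ N
  have hexact := AdicCompletion.map_exact (I := J) (Submodule.subtype_injective N) hex
    (Submodule.mkQ_surjective N)
  have hc0 : AdicCompletion.map J q c = 0 := by
    apply AdicCompletion.ext
    intro n
    obtain ⟨b, hb, hbn⟩ := hc n
    rw [AdicCompletion.map_val_apply, hbn, LinearMap.reduceModIdeal_apply]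
    have : q b = 0 := (Submodule.Quotient.mk_eq_zero N).mpr hb
    rw [this]
    rfl
  obtain ⟨x, hx⟩ := (hexact c).mp hc0
  -- generators of N
  obtain ⟨r, g, hg⟩ := (Submodule.fg_iff_exists_fin_generating_family).mp
    (IsNoetherian.noetherian N)
  have hgN : ∀ i, g i ∈ N := fun i => hg ▸ Submodule.subset_span ⟨i, rfl⟩
  let σ : (Fin r → B) →ₗ[B] N := Fintype.linearCombination B (fun i => (⟨g i, hgN i⟩ : N))
  have hσ : Function.Surjective σ := by
    intro y
    have hy : (y : B) ∈ Submodule.span B (Set.range g) := hg ▸ y.2
    obtain ⟨c, hc⟩ := (Submodule.mem_span_range_iff_exists_fun B).mp hy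
    refine ⟨c, Subtype.ext ?_⟩
    rw [← hc]
    simp [σ, Fintype.linearCombination_apply]
  obtain ⟨y, hy⟩ := AdicCompletion.map_surjective J hσ x
  have hcomp : ι ∘ₗ σ = Fintype.linearCombination B g := by
    apply LinearMap.ext
    intro v
    simp [ι, σ, Fintype.linearCombination_apply]
  have hcy : c = AdicCompletion.map J (Fintype.linearCombination B g) y := by
    rw [← hx, ← hy, ← hcomp, AdicCompletion.map_comp_apply]
  rw [hcy, map_linearCombination]
  refine Ideal.sum_mem _ (fun i _ => ?_)
  exact Ideal.mul_mem_right _ _ (Ideal.mem_map_of_mem _ (hgN i))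

end Groth.Agent.Lib.Helper64.AdicClosed
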