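import Mathlib.RingTheory.Ideal.Cotangent
import Mathlib.Algebra.Module.SpanRankOperations
import Mathlib.RingTheory.Artinian.Ring

/-!
# Surjectivity criteria for maps to local rings with nilpotent maximal ideal (helper64)

* `surjective_of_forall_exists_sub_mem_sq`: if `B` is local with nilpotent maximal ideal and
  `B = g(C) + m_B ^ 2`, then `g : C →+* B` is surjective.
* `ker_le_sq_of_spanFinrank_le`: a surjection `t : R' → R` of Noetherian local rings with
  `spanFinrank m_{R'} ≤ spanFinrank m_R` has `ker t ≤ m_{R'} ^ 2`.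
* `surjective_of_comp_surjective_of_ker_le_sq`: `t ∘ g` surjective and `ker t ≤ m_B ^ 2` imply `g` surjective.
-/

set_option autoImplicit false

namespace Groth.Agent.Lib.Helper64

open IsLocalRing

theorem surjective_of_forall_exists_sub_mem_sq {C B : Type*} [CommRing C] [CommRing B]
    [IsLocalRing B] (hnil : IsNilpotent (maximalIdeal B)) (g : C →+* B)
    (h2 : ∀ b : B, ∃ c : C, b - g c ∈ maximalIdeal B ^ 2) : Function.Surjective g := by
  have key : ∀ j, 2 ≤ j → ∀ b : B, ∃ c : C, b - g c ∈ maximalIdeal B ^ j := by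
    intro j hj
    induction j, hj using Nat.le_induction with
    | base => exact h2
    | succ j hj ih =>
      have step : ∀ y ∈ maximalIdeal B ^ j, ∃ c : C, y - g c ∈ maximalIdeal B ^ (j + 1) := by
        intro y hy
        obtain ⟨j', rfl⟩ : ∃ j', j = j' + 1 := ⟨j - 1, by omega⟩
        rw [pow_succ] at hy
        refine Submodule.mul_induction_on hy ?_ ?_
        · intro a ha b hb
          obtain ⟨ca, hca⟩ := ih a
          obtain ⟨cb, hcb⟩ := ih b
          refine ⟨ca * cb, ?_⟩
          have e : a * b - g (ca * cb) =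
              a * (b - g cb) + (a - g ca) * b - (a - g ca) * (b - g cb) := by
            rw [map_mul]; ring
          rw [e]
          have h1 : a * (b - g cb) ∈ maximalIdeal B ^ (j' + 1 + 1) := by
            have : a * (b - g cb) ∈ maximalIdeal B ^ j' * maximalIdeal B ^ (j' + 1) :=
              Ideal.mul_mem_mul ha hcb
            rw [← pow_add] at this
            exact Ideal.pow_le_pow_right (by omega) this
          have h2' : (a - g ca) * b ∈ maximalIdeal B ^ (j' + 1 + 1) := by
            have : (a - g ca) * b ∈ maximalIdeal B ^ (j' + 1) * maximalIdeal B :=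
              Ideal.mul_mem_mul hca hb
            rwa [← pow_succ] at this
          have h3 : (a - g ca) * (b - g cb) ∈ maximalIdeal B ^ (j' + 1 + 1) := by
            have : (a - g ca) * (b - g cb) ∈
                maximalIdeal B ^ (j' + 1) * maximalIdeal B ^ (j' + 1) :=
              Ideal.mul_mem_mul hca hcb
            rw [← pow_add] at this
            exact Ideal.pow_le_pow_right (by omega) this
          exact Ideal.sub_mem _ (Ideal.add_mem _ h1 h2') h3
        · intro y₁ y₂ ⟨c₁, h₁⟩ ⟨c₂, h₂⟩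
          refine ⟨c₁ + c₂, ?_⟩
          have e : y₁ + y₂ - g (c₁ + c₂) = (y₁ - g c₁) + (y₂ - g c₂) := by
            rw [map_add]; ring
          rw [e]
          exact Ideal.add_mem _ h₁ h₂
      intro b
      obtain ⟨c₀, hc₀⟩ := ih b
      obtain ⟨c₁, hc₁⟩ := step _ hc₀
      refine ⟨c₀ + c₁, ?_⟩
      have e : b - g (c₀ + c₁) = b - g c₀ - g c₁ := by rw [map_add]; ring
      rw [e]
      exact hc₁
  obtain ⟨N, hN⟩ := hnil
  intro b
  obtain ⟨c, hc⟩ := key (max N 2) (le_max_right _ _) b
  refine ⟨c, ?_⟩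
  have h0 : b - g c ∈ maximalIdeal B ^ N := Ideal.pow_le_pow_right (le_max_left _ _) hc
  rw [hN] at h0
  exact (sub_eq_zero.mp ((Ideal.mem_bot).mp h0)).symm

/-- `B = g(C) + (X) + m_B ^ 2` with `X ⊆ g(C) ∩ m_B` forces `g` surjective. -/
theorem surjective_of_forall_exists_sub_mem_span_sup_sq {C B : Type*} [CommRing C] [CommRing B]
    [IsLocalRing B] (hnil : IsNilpotent (maximalIdeal B)) (g : C →+* B) (X : Set B)
    (hXm : X ⊆ maximalIdeal B) (hXg : X ⊆ Set.range g)
    (h : ∀ b : B, ∃ c : C, b - g c ∈ Ideal.span X ⊔ maximalIdeal B ^ 2) :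
    Function.Surjective g := by
  apply surjective_of_forall_exists_sub_mem_sq hnil
  have hXle : Ideal.span X ≤ maximalIdeal B := Ideal.span_le.mpr hXm
  have hT_add : ∀ y₁ y₂ : B, (∃ c, y₁ - g c ∈ maximalIdeal B ^ 2) →
      (∃ c, y₂ - g c ∈ maximalIdeal B ^ 2) → ∃ c, y₁ + y₂ - g c ∈ maximalIdeal B ^ 2 := by
    rintro y₁ y₂ ⟨c₁, h₁⟩ ⟨c₂, h₂⟩
    refine ⟨c₁ + c₂, ?_⟩
    have e : y₁ + y₂ - g (c₁ + c₂) = (y₁ - g c₁) + (y₂ - g c₂) := by rw [map_add]; ring
    rw [e]
    exact Ideal.add_mem _ h₁ h₂
  have hT_mul : ∀ y₁ y₂ : B, (∃ c, y₁ - g c ∈ maximalIdeal B ^ 2) →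
      (∃ c, y₂ - g c ∈ maximalIdeal B ^ 2) → ∃ c, y₁ * y₂ - g c ∈ maximalIdeal B ^ 2 := by
    rintro y₁ y₂ ⟨c₁, h₁⟩ ⟨c₂, h₂⟩
    refine ⟨c₁ * c₂, ?_⟩
    have e : y₁ * y₂ - g (c₁ * c₂) =
        y₁ * (y₂ - g c₂) + (y₁ - g c₁) * y₂ - (y₁ - g c₁) * (y₂ - g c₂) := by
      rw [map_mul]; ring
    rw [e]
    exact Ideal.sub_mem _ (Ideal.add_mem _ (Ideal.mul_mem_left _ _ h₂)
      (Ideal.mul_mem_right _ _ h₁)) (Ideal.mul_mem_left _ _ h₂)
  have hT_sq : ∀ y ∈ maximalIdeal B ^ 2, ∃ c, y - g c ∈ maximalIdeal B ^ 2 := fun y hy =>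
    ⟨0, by simpa using hy⟩
  have hT_g : ∀ c₀ : C, ∃ c, g c₀ - g c ∈ maximalIdeal B ^ 2 := fun c₀ => ⟨c₀, by simp⟩
  have hspan : ∀ y ∈ Ideal.span X, ∃ c, y - g c ∈ maximalIdeal B ^ 2 := by
    intro y hy
    induction hy using Submodule.span_induction with
    | mem x hx =>
      obtain ⟨c, rfl⟩ := hXg hx
      exact hT_g c
    | zero => exact ⟨0, by simp⟩
    | add y₁ y₂ _ _ ih₁ ih₂ => exact hT_add y₁ y₂ ih₁ ih₂
    | smul a y hy ih =>
      obtain ⟨ca, hca⟩ := h a
      obtain ⟨s, hs, w, hw, hsw⟩ := Submodule.mem_sup.mp hca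
      have ea : a • y = g ca * y + (s * y + w * y) := by
        have : a = g ca + (s + w) := by rw [hsw]; ring
        rw [smul_eq_mul]
        conv_lhs => rw [this]
        ring
      rw [ea]
      refine hT_add _ _ (hT_mul _ _ (hT_g ca) ih) (hT_sq _ ?_)
      refine Ideal.add_mem _ ?_ (Ideal.mul_mem_right _ _ hw)
      rw [pow_two]
      exact Ideal.mul_mem_mul (hXle hs) (hXle hy)
  intro b
  obtain ⟨c, hc⟩ := h b
  obtain ⟨s, hs, w, hw, hsw⟩ := Submodule.mem_sup.mp hc
  obtain ⟨c', hc'⟩ := hspan s hs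
  refine ⟨c + c', ?_⟩
  have e : b - g (c + c') = (s - g c') + w := by
    have : b = g c + (s + w) := by rw [hsw]; ring
    rw [map_add]
    conv_lhs => rw [this]
    ring
  rw [e]
  exact Ideal.add_mem _ hc' hw

theorem surjective_of_comp_surjective_of_ker_le_sq {C B A : Type*} [CommRing C] [CommRing B]
    [CommRing A] [IsLocalRing B] (hnil : IsNilpotent (maximalIdeal B)) (g : C →+* B) (t : B →+* A)
    (hker : RingHom.ker t ≤ maximalIdeal B ^ 2) (hsurj : Function.Surjective (t.comp g)) :
    Function.Surjective g := by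
  apply surjective_of_forall_exists_sub_mem_sq hnil
  intro b
  obtain ⟨c, hc⟩ := hsurj (t b)
  refine ⟨c, hker ?_⟩
  rw [RingHom.mem_ker, map_sub, ← hc]
  simp

theorem map_maximalIdeal_of_surjective {R' R : Type*} [CommRing R'] [CommRing R] [IsLocalRing R']
    [IsLocalRing R] (t : R' →+* R) (ht : Function.Surjective t) :
    (maximalIdeal R').map t = maximalIdeal R := by
  haveI : IsLocalHom t := ht.isLocalHom t
  apply le_antisymm
  · rw [Ideal.map_le_iff_le_comap]
    intro x hx
    rw [Ideal.mem_comap, mem_maximalIdeal, mem_nonunits_iff] at *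
    exact fun hu => hx (isUnit_of_map_unit t x hu)
  · intro y hy
    obtain ⟨x, rfl⟩ := ht y
    apply Ideal.mem_map_of_mem
    rw [mem_maximalIdeal, mem_nonunits_iff] at *
    exact fun hu => hy (hu.map t)

theorem spanFinrank_maximalIdeal_le_of_surjective {R' R : Type*} [CommRing R'] [CommRing R]
    [IsLocalRing R'] [IsLocalRing R] [IsNoetherianRing R'] (t : R' →+* R)
    (ht : Function.Surjective t) :
    (maximalIdeal R).spanFinrank ≤ (maximalIdeal R').spanFinrank := by
  rw [← map_maximalIdeal_of_surjective t ht]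
  exact Ideal.spanFinrank_map_le_of_fg t (maximalIdeal R').fg_of_isNoetherianRing

theorem ker_le_sq_of_spanFinrank_le {R' R : Type*} [CommRing R'] [CommRing R] [IsLocalRing R']
    [IsLocalRing R] [IsNoetherianRing R'] (t : R' →+* R) (ht : Function.Surjective t)
    (h : (maximalIdeal R').spanFinrank ≤ (maximalIdeal R).spanFinrank) :
    RingHom.ker t ≤ maximalIdeal R' ^ 2 := by
  classical
  have hfg : (maximalIdeal R').FG := (maximalIdeal R').fg_of_isNoetherianRing
  obtain ⟨s, hs_card, hs_span⟩ := Submodule.FG.exists_span_finset_card_eq_spanFinrank hfg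
  have hmap : (maximalIdeal R').map t = maximalIdeal R := by
    haveI : IsLocalHom t := ht.isLocalHom t
    apply le_antisymm
    · rw [Ideal.map_le_iff_le_comap]
      intro x hx
      rw [Ideal.mem_comap, mem_maximalIdeal, mem_nonunits_iff] at *
      exact fun hu => hx (isUnit_of_map_unit t x hu)
    · intro y hy
      obtain ⟨x, rfl⟩ := ht y
      apply Ideal.mem_map_of_mem
      rw [mem_maximalIdeal, mem_nonunits_iff] at *
      exact fun hu => hy (hu.map t)
  intro x hx
  have hxm : x ∈ maximalIdeal R' := by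
    rw [mem_maximalIdeal, mem_nonunits_iff]
    intro hu
    have := hu.map t
    rw [RingHom.mem_ker.mp hx] at this
    exact not_isUnit_zero this
  rw [← hs_span] at hxm
  obtain ⟨a, ha⟩ := (Submodule.mem_span_finset).mp hxm
  -- all coefficients on `s` are in the maximal ideal
  have hcoef : ∀ z ∈ s, a z ∈ maximalIdeal R' := by
    intro j hj
    by_contra hnot
    have hu : IsUnit (a j) := by
      rw [mem_maximalIdeal, mem_nonunits_iff, not_not] at hnot
      exact hnot
    -- then `t j` is in the span of the images of the others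
    have h0 : ∑ z ∈ s, t (a z) * t z = 0 := by
      have := congrArg t ha.2
      rw [map_sum, RingHom.mem_ker.mp hx] at this
      simpa [smul_eq_mul, map_mul] using this
    have hspan : maximalIdeal R = Ideal.span (t '' ((s.erase j : Finset R') : Set R')) := by
      rw [← hmap, ← hs_span]
      change Ideal.map t (Ideal.span (s : Set R')) = _
      rw [Ideal.map_span]
      apply le_antisymm
      · rw [Ideal.span_le]
        rintro _ ⟨z, hz, rfl⟩
        by_cases hzj : z = j
        · subst hzj
          rw [← Finset.add_sum_erase s _ hj] at h0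
          have hut : IsUnit (t (a z)) := hu.map t
          obtain ⟨u, hu'⟩ := hut
          have e : t z = - (↑u⁻¹ * ∑ y ∈ s.erase z, t (a y) * t y) := by
            have h1 : t (a z) * t z = - ∑ y ∈ s.erase z, t (a y) * t y := eq_neg_of_add_eq_zero_left h0
            rw [← hu'] at h1
            calc t z = ↑u⁻¹ * (↑u * t z) := by rw [← mul_assoc, Units.inv_mul, one_mul]
              _ = _ := by rw [h1]; ring
          rw [e]
          refine neg_mem ?_
          apply Ideal.mul_mem_left
          apply Ideal.sum_mem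
          intro y hy
          apply Ideal.mul_mem_left
          exact Ideal.subset_span ⟨y, hy, rfl⟩
        · exact Ideal.subset_span ⟨z, Finset.mem_erase.mpr ⟨hzj, hz⟩, rfl⟩
      · apply Ideal.span_mono
        apply Set.image_mono
        exact fun z hz => (Finset.mem_erase.mp hz).2
    have hle : (maximalIdeal R).spanFinrank ≤ (s.erase j).card := by
      rw [hspan]
      refine (Submodule.spanFinrank_span_le_ncard_of_finite
        ((s.erase j).finite_toSet.image t)).trans ?_
      refine (Set.ncard_image_le (s.erase j).finite_toSet).trans ?_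
      rw [Set.ncard_coe_finset]
    rw [Finset.card_erase_of_mem hj] at hle
    have hpos : 0 < s.card := Finset.card_pos.mpr ⟨j, hj⟩
    omega
  rw [← ha.2, pow_two]
  apply Ideal.sum_mem
  intro z hz
  rw [smul_eq_mul]
  refine Ideal.mul_mem_mul (hcoef z hz) ?_
  rw [← hs_span]
  exact Submodule.subset_span hz

end Groth.Agent.Lib.Helper64
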