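import Groth.Prelude.Def_ArtFun2

/-!
# The universal property of `ArtFun.Art.IsFibreProd` for algebra maps (helper64)
-/

set_option autoImplicit false
universe u

namespace Groth.Agent.Lib.Helper64

open ArtFun ArtFun.Art CategoryTheory

variable {Λ : Type u} {k : Type u} [CommRing Λ] [Field k] [Algebra Λ k]
variable {B A A' A'' : Art Λ k} {p' : B ⟶ A'} {p'' : B ⟶ A''} {f' : A' ⟶ A} {f'' : A'' ⟶ A}

/-- Lift a compatible pair of algebra maps into a fibre product. -/
theorem IsFibreProd.exists_liftAlgHom (h : IsFibreProd p' p'' f' f'')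
    {T : Type u} [CommRing T] [Algebra Λ T] (g' : T →ₐ[Λ] A') (g'' : T →ₐ[Λ] A'')
    (hg : ∀ t, f' (g' t) = f'' (g'' t)) :
    ∃ ψ : T →ₐ[Λ] B, (∀ t, p' (ψ t) = g' t) ∧ (∀ t, p'' (ψ t) = g'' t) := by
  classical
  have hex : ∀ t, ∃ b : B, p' b = g' t ∧ p'' b = g'' t := fun t => h.surj _ _ (hg t)
  let ψ₀ : T → B := fun t => Classical.choose (hex t)
  have hψ₀ : ∀ t, p' (ψ₀ t) = g' t ∧ p'' (ψ₀ t) = g'' t := fun t => Classical.choose_spec (hex t)
  have huniq : ∀ (t : T) (b : B), p' b = g' t → p'' b = g'' t → ψ₀ t = b := by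
    intro t b h1 h2
    apply h.inj
    · rw [(hψ₀ t).1, h1]
    · rw [(hψ₀ t).2, h2]
  refine ⟨{ toFun := ψ₀
            map_one' := ?_
            map_mul' := ?_
            map_zero' := ?_
            map_add' := ?_
            commutes' := ?_ }, fun t => (hψ₀ t).1, fun t => (hψ₀ t).2⟩
  · apply huniq
    · exact (map_one p'.toAlgHom).trans (map_one g').symm
    · exact (map_one p''.toAlgHom).trans (map_one g'').symm
  · intro x y
    apply huniq
    · calc p'.toAlgHom (ψ₀ x * ψ₀ y) = p'.toAlgHom (ψ₀ x) * p'.toAlgHom (ψ₀ y) := map_mul _ _ _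
        _ = g' x * g' y := by
          rw [show p'.toAlgHom (ψ₀ x) = g' x from (hψ₀ x).1,
            show p'.toAlgHom (ψ₀ y) = g' y from (hψ₀ y).1]
        _ = g' (x * y) := (map_mul g' x y).symm
    · calc p''.toAlgHom (ψ₀ x * ψ₀ y) = p''.toAlgHom (ψ₀ x) * p''.toAlgHom (ψ₀ y) := map_mul _ _ _
        _ = g'' x * g'' y := by
          rw [show p''.toAlgHom (ψ₀ x) = g'' x from (hψ₀ x).2,
            show p''.toAlgHom (ψ₀ y) = g'' y from (hψ₀ y).2]
        _ = g'' (x * y) := (map_mul g'' x y).symm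
  · apply huniq
    · exact (map_zero p'.toAlgHom).trans (map_zero g').symm
    · exact (map_zero p''.toAlgHom).trans (map_zero g'').symm
  · intro x y
    apply huniq
    · calc p'.toAlgHom (ψ₀ x + ψ₀ y) = p'.toAlgHom (ψ₀ x) + p'.toAlgHom (ψ₀ y) := map_add _ _ _
        _ = g' x + g' y := by
          rw [show p'.toAlgHom (ψ₀ x) = g' x from (hψ₀ x).1,
            show p'.toAlgHom (ψ₀ y) = g' y from (hψ₀ y).1]
        _ = g' (x + y) := (map_add g' x y).symm
    · calc p''.toAlgHom (ψ₀ x + ψ₀ y) = p''.toAlgHom (ψ₀ x) + p''.toAlgHom (ψ₀ y) := map_add _ _ _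
        _ = g'' x + g'' y := by
          rw [show p''.toAlgHom (ψ₀ x) = g'' x from (hψ₀ x).2,
            show p''.toAlgHom (ψ₀ y) = g'' y from (hψ₀ y).2]
        _ = g'' (x + y) := (map_add g'' x y).symm
  · intro r
    apply huniq
    · exact (AlgHom.commutes p'.toAlgHom r).trans (AlgHom.commutes g' r).symm
    · exact (AlgHom.commutes p''.toAlgHom r).trans (AlgHom.commutes g'' r).symm

/-- Lift a compatible pair of morphisms of `Art` into a fibre product. -/
theorem IsFibreProd.exists_lift (h : IsFibreProd p' p'' f' f'')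
    {T : Art Λ k} (g' : T ⟶ A') (g'' : T ⟶ A'') (hg : g' ≫ f' = g'' ≫ f'') :
    ∃ ψ : T ⟶ B, ψ ≫ p' = g' ∧ ψ ≫ p'' = g'' := by
  have hg' : ∀ t : T, f' (g' t) = f'' (g'' t) := by
    intro t
    change (g' ≫ f') t = (g'' ≫ f'') t
    rw [hg]
  obtain ⟨ψ, h1, h2⟩ := IsFibreProd.exists_liftAlgHom h g'.toAlgHom g''.toAlgHom hg'
  refine ⟨⟨ψ, ?_⟩, ?_, ?_⟩
  · apply AlgHom.ext
    intro t
    change B.res (ψ t) = T.res t
    rw [← Art.res_app p' (ψ t), h1, Art.res_app g' t]
  · apply Art.hom_ext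
    apply AlgHom.ext
    exact h1
  · apply Art.hom_ext
    apply AlgHom.ext
    exact h2

/-- Lift a compatible pair of elements of `h_R` into a fibre product. -/
theorem IsFibreProd.exists_liftHomSet (h : IsFibreProd p' p'' f' f'')
    {R : Type u} [CommRing R] [Algebra Λ R] {resR : R →ₐ[Λ] k}
    (φ' : HomSet R resR A') (φ'' : HomSet R resR A'')
    (hφ : HomSet.map f' φ' = HomSet.map f'' φ'') :
    ∃ ψ : HomSet R resR B, HomSet.map p' ψ = φ' ∧ HomSet.map p'' ψ = φ'' := by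
  have hg' : ∀ t : R, f' (φ'.1 t) = f'' (φ''.1 t) := by
    intro t
    have := congrArg (fun x : HomSet R resR A => x.1 t) hφ
    exact this
  obtain ⟨ψ, h1, h2⟩ := IsFibreProd.exists_liftAlgHom h φ'.1 φ''.1 hg'
  refine ⟨⟨ψ, ?_⟩, ?_, ?_⟩
  · apply AlgHom.ext
    intro t
    change B.res (ψ t) = resR t
    rw [← Art.res_app p' (ψ t), h1]
    exact AlgHom.congr_fun φ'.2 t
  · apply Subtype.ext
    apply AlgHom.ext
    exact h1
  · apply Subtype.ext
    apply AlgHom.ext
    exact h2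

end Groth.Agent.Lib.Helper64
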