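import Groth.Agent.Lib.Helper64.ArtLength
import Mathlib.RingTheory.Henselian
import Mathlib.RingTheory.AdicCompletion.Noetherian
import Mathlib.Algebra.Polynomial.Lifts
import Mathlib.FieldTheory.Separable

/-!
# Hensel lifting of simple roots in objects of `ArtFun.Art Λ k` (helper64)
-/

set_option autoImplicit false
universe u

namespace Groth.Agent.Lib.Helper64

open ArtFun ArtFun.Art CategoryTheory Polynomial

variable {Λ : Type u} {k : Type u} [CommRing Λ] [Field k] [Algebra Λ k]

lemma res_eval_map (A : Art Λ k) (G : Λ[X]) (a : A) :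
    A.res ((G.map (algebraMap Λ A)).eval a) = (G.map (algebraMap Λ k)).eval (A.res a) := by
  rw [eval_map, eval_map]
  have h := Polynomial.hom_eval₂ G (algebraMap Λ A) (A.res : A →+* k) a
  have h2 : (A.res : A →+* k).comp (algebraMap Λ A) = algebraMap Λ k := A.res.comp_algebraMap
  rw [h2] at h
  exact h

lemma hom_eval_map {A B : Art Λ k} (f : A ⟶ B) (G : Λ[X]) (a : A) :
    f ((G.map (algebraMap Λ A)).eval a) = (G.map (algebraMap Λ B)).eval (f a) := by
  rw [eval_map, eval_map]
  have h := Polynomial.hom_eval₂ G (algebraMap Λ A) (f.toAlgHom : A →+* B) a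
  have h2 : (f.toAlgHom : A →+* B).comp (algebraMap Λ A) = algebraMap Λ B := f.toAlgHom.comp_algebraMap
  rw [h2] at h
  exact h

/-- uniqueness of a lifted simple root -/
lemma root_unique (G : Λ[X]) (c : k)
    (hc' : (G.map (algebraMap Λ k)).derivative.eval c ≠ 0) (A : Art Λ k) (α β : A)
    (hα : (G.map (algebraMap Λ A)).eval α = 0) (hαc : A.res α = c)
    (hβ : (G.map (algebraMap Λ A)).eval β = 0) (hβc : A.res β = c) : α = β := by
  apply IsLocalRing.eq_of_eval_eq_zero_of_not_isUnit_sub hα hβ
  · rw [← mem_nonunits_iff, ← IsLocalRing.mem_maximalIdeal, Art.mem_maximalIdeal_iff, map_sub, hαc, hβc,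
      sub_self]
  · by_contra hnu
    rw [← mem_nonunits_iff, ← IsLocalRing.mem_maximalIdeal, Art.mem_maximalIdeal_iff,
      Polynomial.derivative_map, res_eval_map, hαc, ← Polynomial.derivative_map] at hnu
    exact hc' hnu

/-- existence of a lifted simple root -/
lemma root_exists (G : Λ[X]) (hG : G.Monic) (c : k)
    (hc : (G.map (algebraMap Λ k)).eval c = 0)
    (hc' : (G.map (algebraMap Λ k)).derivative.eval c ≠ 0) (A : Art Λ k) :
    ∃ α : A, (G.map (algebraMap Λ A)).eval α = 0 ∧ A.res α = c := by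
  obtain ⟨a₀, ha₀⟩ := A.res_surjective c
  have hH : HenselianRing A (IsLocalRing.maximalIdeal A) := inferInstance
  have h1 : (G.map (algebraMap Λ A)).eval a₀ ∈ IsLocalRing.maximalIdeal A := by
    rw [Art.mem_maximalIdeal_iff, res_eval_map, ha₀, hc]
  have h2 : IsUnit (Ideal.Quotient.mk (IsLocalRing.maximalIdeal A)
      ((G.map (algebraMap Λ A)).derivative.eval a₀)) := by
    apply IsUnit.map
    by_contra hnu
    rw [← mem_nonunits_iff, ← IsLocalRing.mem_maximalIdeal, Art.mem_maximalIdeal_iff,
      Polynomial.derivative_map, res_eval_map, ha₀, ← Polynomial.derivative_map] at hnu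
    exact hc' hnu
  obtain ⟨α, hα, hαa⟩ := hH.is_henselian (G.map (algebraMap Λ A)) (hG.map _) a₀ h1 h2
  refine ⟨α, hα, ?_⟩
  rw [Art.mem_maximalIdeal_iff, map_sub, ha₀, sub_eq_zero] at hαa
  exact hαa

end Groth.Agent.Lib.Helper64
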