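import Groth.Prelude.Def_ArtFun2
import Groth.Agent.S12708
import Mathlib.RingTheory.Ideal.GoingUp
import Mathlib.RingTheory.LocalRing.Pullback
import Mathlib.RingTheory.HopkinsLevitzki
import Mathlib.RingTheory.FiniteLength
import Mathlib.RingTheory.Length

/-!
# Finite Λ-length of objects of `ArtFun.Art Λ k`, and fibre products as objects (helper64)
-/

set_option autoImplicit false
universe u

namespace Groth.Agent.Lib.Helper64

open ArtFun ArtFun.Art CategoryTheory

variable {Λ : Type u} {k : Type u} [CommRing Λ] [Field k] [Algebra Λ k]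

/-- The kernel of `Λ → k` is maximal when `k` is finite over `Λ`. -/
lemma ker_isMaximal [Module.Finite Λ k] : (RingHom.ker (algebraMap Λ k)).IsMaximal := by
  have : Algebra.IsIntegral Λ k := Algebra.IsIntegral.of_finite Λ k
  have h := Ideal.isMaximal_comap_of_isIntegral_of_isMaximal (R := Λ) (S := k) (⊥ : Ideal k)
  exact h

/-- `k` has finite length over `Λ`. -/
lemma length_k_ne_top [Module.Finite Λ k] : Module.length Λ k ≠ ⊤ := by
  classical
  have hmax : (RingHom.ker (algebraMap Λ k)).IsMaximal := ker_isMaximal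
  letI : Field (Λ ⧸ RingHom.ker (algebraMap Λ k)) := Ideal.Quotient.field _
  letI : Algebra (Λ ⧸ RingHom.ker (algebraMap Λ k)) k :=
    (Ideal.Quotient.lift (RingHom.ker (algebraMap Λ k)) (algebraMap Λ k) (fun a ha => ha)).toAlgebra
  haveI : IsScalarTower Λ (Λ ⧸ RingHom.ker (algebraMap Λ k)) k :=
    IsScalarTower.of_algebraMap_eq (fun x => rfl)
  haveI : Module.Finite (Λ ⧸ RingHom.ker (algebraMap Λ k)) k :=
    Module.Finite.of_restrictScalars_finite Λ _ k
  rw [Module.length_eq_of_surjective (S := Λ) (R := Λ ⧸ RingHom.ker (algebraMap Λ k)) (M := k)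
    Ideal.Quotient.mk_surjective]
  exact Module.length_ne_top

/-- Every object of `Art Λ k` has finite length as a `Λ`-module. -/
lemma length_art_ne_top [IsNoetherianRing Λ] [Module.Finite Λ k] (A : Art Λ k) :
    Module.length Λ A ≠ ⊤ := by
  letI : Algebra A k := A.res.toRingHom.toAlgebra
  haveI : IsScalarTower Λ A k := IsScalarTower.of_algebraMap_eq (fun x => (A.res.commutes x).symm)
  have hres : Function.Surjective (algebraMap A k) := A.res_surjective
  have h := Groth.Agent.S12708.result (Λ := Λ) (k := k) A hres A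
  rw [← h]
  have h1 : Module.length Λ k ≠ ⊤ := length_k_ne_top
  have h2 : Module.length A A ≠ ⊤ := Module.length_ne_top
  exact WithTop.mul_ne_top h1 h2

lemma isArtinian_art [IsNoetherianRing Λ] [Module.Finite Λ k] (A : Art Λ k) : IsArtinian Λ A :=
  ((isFiniteLength_iff_isNoetherian_isArtinian).mp
    (Module.length_ne_top_iff.mp (length_art_ne_top A))).2


section Pullback

variable [IsNoetherianRing Λ] [Module.Finite Λ k] {A A₁ A₂ : Art Λ k} (f₁ : A₁ ⟶ A) (f₂ : A₂ ⟶ A)

lemma isArtinianRing_pullback :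
    IsArtinianRing (AlgHom.pullback f₁.toAlgHom f₂.toAlgHom) := by
  haveI := isArtinian_art (Λ := Λ) (k := k) A₁
  haveI := isArtinian_art (Λ := Λ) (k := k) A₂
  have h1 : IsArtinian Λ (A₁ × A₂) := inferInstance
  have h2 : IsArtinian Λ (AlgHom.pullback f₁.toAlgHom f₂.toAlgHom) :=
    isArtinian_of_injective (Subalgebra.val (AlgHom.pullback f₁.toAlgHom f₂.toAlgHom)).toLinearMap
      Subtype.val_injective
  exact isArtinian_of_tower Λ h2

lemma isLocalRing_pullback :
    IsLocalRing (AlgHom.pullback f₁.toAlgHom f₂.toAlgHom) := by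
  haveI : IsLocalHom f₂.toAlgHom := Art.isLocalHom f₂
  exact AlgHom.isLocalRing_pullback f₁.toAlgHom f₂.toAlgHom

/-- The set-theoretic fibre product as an object of `Art Λ k`, as soon as its augmentation is onto. -/
noncomputable def pullbackArt
    (hres : Function.Surjective (A₁.res.comp (AlgHom.pullbackFst f₁.toAlgHom f₂.toAlgHom))) :
    Art Λ k :=
  haveI := isLocalRing_pullback f₁ f₂
  haveI := isArtinianRing_pullback f₁ f₂
  { carrier := AlgHom.pullback f₁.toAlgHom f₂.toAlgHom
    res := A₁.res.comp (AlgHom.pullbackFst f₁.toAlgHom f₂.toAlgHom)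
    res_surjective := hres }

variable (hres : Function.Surjective (A₁.res.comp (AlgHom.pullbackFst f₁.toAlgHom f₂.toAlgHom)))

/-- first projection -/
noncomputable def pullbackArtFst : pullbackArt f₁ f₂ hres ⟶ A₁ :=
  ⟨AlgHom.pullbackFst f₁.toAlgHom f₂.toAlgHom, rfl⟩

/-- second projection -/
noncomputable def pullbackArtSnd : pullbackArt f₁ f₂ hres ⟶ A₂ :=
  ⟨AlgHom.pullbackSnd f₁.toAlgHom f₂.toAlgHom, by
    apply AlgHom.ext
    rintro ⟨⟨a₁, a₂⟩, h⟩
    have h' : f₁ a₁ = f₂ a₂ := h
    change A₂.res a₂ = A₁.res a₁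
    rw [← Art.res_app f₂ a₂, ← h', Art.res_app f₁ a₁]⟩

lemma isFibreProd_pullbackArt :
    Art.IsFibreProd (pullbackArtFst f₁ f₂ hres) (pullbackArtSnd f₁ f₂ hres) f₁ f₂ where
  w := by
    apply Art.hom_ext
    apply AlgHom.ext
    rintro ⟨⟨a₁, a₂⟩, h⟩
    exact h
  inj := by
    rintro ⟨⟨a₁, a₂⟩, h⟩ ⟨⟨b₁, b₂⟩, h'⟩ e₁ e₂
    have e₁' : a₁ = b₁ := e₁
    have e₂' : a₂ = b₂ := e₂
    subst e₁' e₂'
    rfl
  surj := by
    intro a' a'' h
    exact ⟨⟨(a', a''), h⟩, rfl, rfl⟩

end Pullback

end Groth.Agent.Lib.Helper64
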