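import Groth.Agent.Lib.Helper64.ArtLength
import Mathlib.RingTheory.FiniteType
import Mathlib.RingTheory.Polynomial.Basic
import Mathlib.RingTheory.Nilpotent.Lemmas
import Mathlib.RingTheory.Ideal.Quotient.Noetherian

/-!
# Square-zero thickenings inside `ArtFun.Art Λ k` (helper64)

* `thickenArt`: a Noetherian `Λ`-algebra `C` with a surjection `g : C → B` onto an object `B` of `Art Λ k` whose kernel
  has square zero is again an object of `Art Λ k`.
* `exists_thickening`: for `B ∈ Art Λ k`, an arbitrary `Λ`-algebra `A` with a square-zero ideal `J` and a map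
  `ψ : B → A/J`, there are `C ∈ Art Λ k`, a surjection `μ : C ⟶ B` and `θ : C → A` lifting `ψ ∘ μ`
  (`C = P/I²` for a presentation `B = P/I` by a polynomial ring in finitely many variables).
-/

set_option autoImplicit false
universe u

namespace Groth.Agent.Lib.Helper64

open ArtFun ArtFun.Art CategoryTheory

section Ring

variable {C B : Type*} [CommRing C] [CommRing B] (g : C →+* B)

lemma isUnit_of_isUnit_map_of_ker_sq (hg : Function.Surjective g) (hker : RingHom.ker g ^ 2 = ⊥)
    {a : C} (ha : IsUnit (g a)) : IsUnit a := by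
  obtain ⟨b, hb⟩ := ha.exists_right_inv
  obtain ⟨c, rfl⟩ := hg b
  have h1 : a * c - 1 ∈ RingHom.ker g := by
    rw [RingHom.mem_ker, map_sub, map_mul, hb, map_one, sub_self]
  have h2 : (a * c - 1) ^ 2 = 0 := by
    have : (a * c - 1) ^ 2 ∈ RingHom.ker g ^ 2 := Ideal.pow_mem_pow h1 2
    rwa [hker, Ideal.mem_bot] at this
  have h3 : IsUnit (a * c) := by
    have hn : IsNilpotent (a * c - 1) := ⟨2, h2⟩
    have := hn.isUnit_add_one
    simpa using this
  exact isUnit_of_mul_isUnit_left h3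

lemma isLocalRing_of_surjective_of_ker_sq [IsLocalRing B] (hg : Function.Surjective g)
    (hker : RingHom.ker g ^ 2 = ⊥) : IsLocalRing C := by
  have : Nontrivial C := by
    refine ⟨⟨0, 1, fun h => ?_⟩⟩
    have := congrArg g h
    rw [map_zero, map_one] at this
    exact zero_ne_one this
  refine IsLocalRing.of_isUnit_or_isUnit_one_sub_self fun a => ?_
  rcases IsLocalRing.isUnit_or_isUnit_one_sub_self (g a) with h | h
  · exact Or.inl (isUnit_of_isUnit_map_of_ker_sq g hg hker h)
  · refine Or.inr (isUnit_of_isUnit_map_of_ker_sq g hg hker ?_)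
    rwa [map_sub, map_one]

lemma isNilpotent_maximalIdeal_of_surjective_of_ker_sq [IsLocalRing B] [IsLocalRing C]
    (hg : Function.Surjective g) (hker : RingHom.ker g ^ 2 = ⊥)
    (hB : IsNilpotent (IsLocalRing.maximalIdeal B)) : IsNilpotent (IsLocalRing.maximalIdeal C) := by
  obtain ⟨N, hN⟩ := hB
  have hmap : (IsLocalRing.maximalIdeal C).map g ≤ IsLocalRing.maximalIdeal B := by
    rw [Ideal.map_le_iff_le_comap]
    intro a ha
    rw [Ideal.mem_comap, IsLocalRing.mem_maximalIdeal, mem_nonunits_iff]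
    intro hu
    exact ha (isUnit_of_isUnit_map_of_ker_sq g hg hker hu)
  have h1 : IsLocalRing.maximalIdeal C ^ N ≤ RingHom.ker g := by
    intro x hx
    rw [RingHom.mem_ker]
    have : g x ∈ ((IsLocalRing.maximalIdeal C) ^ N).map g := Ideal.mem_map_of_mem g hx
    rw [Ideal.map_pow] at this
    have h2 := Ideal.pow_right_mono hmap N this
    rw [hN] at h2
    exact h2
  refine ⟨N * 2, ?_⟩
  rw [pow_mul, Ideal.zero_eq_bot, ← le_bot_iff, ← hker]
  exact Ideal.pow_right_mono h1 2

end Ring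

variable {Λ : Type u} {k : Type u} [CommRing Λ] [Field k] [Algebra Λ k]

/-- A Noetherian square-zero thickening of an object of `Art Λ k` is an object of `Art Λ k`. -/
noncomputable def thickenArt (B : Art Λ k) (C : Type u) [CommRing C] [Algebra Λ C] [IsNoetherianRing C]
    (g : C →ₐ[Λ] B) (hg : Function.Surjective g) (hker : RingHom.ker (g : C →+* B) ^ 2 = ⊥) :
    Art Λ k :=
  letI : IsLocalRing C := isLocalRing_of_surjective_of_ker_sq (g : C →+* B) hg hker
  { carrier := C
    isLocalRing := isLocalRing_of_surjective_of_ker_sq (g : C →+* B) hg hker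
    isArtinianRing := by
      rw [isArtinianRing_iff_isNilpotent_maximalIdeal]
      exact isNilpotent_maximalIdeal_of_surjective_of_ker_sq (g : C →+* B) hg hker
        ((isArtinianRing_iff_isNilpotent_maximalIdeal B).mp inferInstance)
    res := B.res.comp g
    res_surjective := B.res_surjective.comp hg }

/-- The structure map of a thickening, as a morphism of `Art Λ k`. -/
noncomputable def thickenArtHom (B : Art Λ k) (C : Type u) [CommRing C] [Algebra Λ C]
    [IsNoetherianRing C] (g : C →ₐ[Λ] B) (hg : Function.Surjective g)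
    (hker : RingHom.ker (g : C →+* B) ^ 2 = ⊥) : thickenArt B C g hg hker ⟶ B :=
  ⟨g, rfl⟩

/-- Finite type of an object of `Art Λ k` over `Λ`. -/
lemma finite_art [IsNoetherianRing Λ] [Module.Finite Λ k] (B : Art Λ k) : Module.Finite Λ B := by
  have h := (isFiniteLength_iff_isNoetherian_isArtinian).mp
    (Module.length_ne_top_iff.mp (length_art_ne_top B))
  have := h.1
  infer_instance

/-- Every map from an object `B` of `Art Λ k` to a quotient `A/J` of an arbitrary `Λ`-algebra by a square-zero ideal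
lifts to `A` after passing to a square-zero thickening `C → B` inside `Art Λ k`. -/
theorem exists_thickening [IsNoetherianRing Λ] [Module.Finite Λ k] (B : Art Λ k)
    (A : Type u) [CommRing A] [Algebra Λ A] (J : Ideal A) (hJ : J ^ 2 = ⊥) (ψ : B →ₐ[Λ] A ⧸ J) :
    ∃ (C : Art Λ k) (μ : C ⟶ B) (θ : C →ₐ[Λ] A), Function.Surjective μ ∧
      (Ideal.Quotient.mkₐ Λ J).comp θ = ψ.comp μ.toAlgHom := by
  classical
  have : Module.Finite Λ B := finite_art B
  obtain ⟨m, π, hπ⟩ := Algebra.FiniteType.iff_quotient_mvPolynomial''.mp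
    (inferInstance : Algebra.FiniteType Λ B)
  let I : Ideal (MvPolynomial (Fin m) Λ) := RingHom.ker (π : MvPolynomial (Fin m) Λ →+* B)
  have hI : ∀ a ∈ I ^ 2, π a = 0 := fun a ha => (Ideal.pow_le_self two_ne_zero ha : a ∈ I)
  let g : (MvPolynomial (Fin m) Λ ⧸ I ^ 2) →ₐ[Λ] B := Ideal.Quotient.liftₐ (I ^ 2) π hI
  have hg : Function.Surjective g := by
    intro b
    obtain ⟨p, rfl⟩ := hπ b
    exact ⟨Ideal.Quotient.mk _ p, rfl⟩
  have hker : RingHom.ker (g : (MvPolynomial (Fin m) Λ ⧸ I ^ 2) →+* B) ^ 2 = ⊥ := by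
    have h1 : RingHom.ker (g : (MvPolynomial (Fin m) Λ ⧸ I ^ 2) →+* B) ≤
        I.map (Ideal.Quotient.mk (I ^ 2)) := by
      intro x hx
      obtain ⟨p, rfl⟩ := Ideal.Quotient.mk_surjective x
      have hp : π p = 0 := hx
      exact Ideal.mem_map_of_mem _ hp
    rw [← le_bot_iff]
    calc RingHom.ker (g : (MvPolynomial (Fin m) Λ ⧸ I ^ 2) →+* B) ^ 2
        ≤ (I.map (Ideal.Quotient.mk (I ^ 2))) ^ 2 := Ideal.pow_right_mono h1 2
      _ = (I ^ 2).map (Ideal.Quotient.mk (I ^ 2)) := by rw [Ideal.map_pow]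
      _ = ⊥ := Ideal.map_quotient_self _
  -- the lift on the polynomial ring
  have hch : ∀ i : Fin m, ∃ a : A, Ideal.Quotient.mk J a = ψ (π (MvPolynomial.X i)) :=
    fun i => Ideal.Quotient.mk_surjective _
  choose a ha using hch
  let θ0 : MvPolynomial (Fin m) Λ →ₐ[Λ] A := MvPolynomial.aeval a
  have hθ0 : (Ideal.Quotient.mkₐ Λ J).comp θ0 = ψ.comp π := by
    apply MvPolynomial.algHom_ext
    intro i
    simp only [AlgHom.comp_apply, θ0, MvPolynomial.aeval_X, Ideal.Quotient.mkₐ_eq_mk]
    exact ha i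
  have hθ0I : I.map (θ0 : MvPolynomial (Fin m) Λ →+* A) ≤ J := by
    rw [Ideal.map_le_iff_le_comap]
    intro p hp
    have hp' : π p = 0 := hp
    rw [Ideal.mem_comap, ← Ideal.Quotient.eq_zero_iff_mem]
    have := AlgHom.congr_fun hθ0 p
    simp only [AlgHom.comp_apply, Ideal.Quotient.mkₐ_eq_mk] at this
    rw [RingHom.coe_coe, this, hp', map_zero]
  have hθ0I2 : ∀ p ∈ I ^ 2, θ0 p = 0 := by
    intro p hp
    have h1 : θ0 p ∈ (I ^ 2).map (θ0 : MvPolynomial (Fin m) Λ →+* A) := Ideal.mem_map_of_mem _ hp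
    rw [Ideal.map_pow] at h1
    have h2 := Ideal.pow_right_mono hθ0I 2 h1
    rwa [hJ, Ideal.mem_bot] at h2
  let θ : (MvPolynomial (Fin m) Λ ⧸ I ^ 2) →ₐ[Λ] A := Ideal.Quotient.liftₐ (I ^ 2) θ0 hθ0I2
  refine ⟨thickenArt B _ g hg hker, thickenArtHom B _ g hg hker, θ, hg, ?_⟩
  apply AlgHom.ext
  intro x
  obtain ⟨p, rfl⟩ := Ideal.Quotient.mk_surjective x
  exact AlgHom.congr_fun hθ0 p

end Groth.Agent.Lib.Helper64
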