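import Mathlib
import Groth.Agent.Lib.Helper73.DimField

/-!
# Two functions cutting out a codimension two component are algebraically independent (helper64)
-/

set_option autoImplicit false
universe u

namespace Groth.Agent.Lib.Helper64.CodimTwo

open Groth.Agent.Lib.Helper73.DimFormula

variable (k : Type u) {A : Type u} [Field k] [CommRing A] [IsDomain A] [Algebra k A]
  [Algebra.FiniteType k A]

include k

lemma not_height_le_one (p : Ideal A) [p.IsPrime]
    (hdim : ringKrullDim (A ⧸ p) + 2 = ringKrullDim A) : ¬ p.height ≤ 1 := by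
  haveI : Algebra.FiniteType k (A ⧸ p) :=
    Algebra.FiniteType.of_surjective (Ideal.Quotient.mkₐ k p) (Ideal.Quotient.mkₐ_surjective k p)
  obtain ⟨n, hn1, hn2, -, -⟩ := exists_trdeg_eq_ringKrullDim k A
  obtain ⟨n', hn'1, hn'2, -, -⟩ := exists_trdeg_eq_ringKrullDim k (A ⧸ p)
  have h := height_add_trdeg_eq_of_field k A p
  rw [hn1, hn'1] at h
  rw [hn2, hn'2] at hdim
  have hnn : n' + 2 = n := by exact_mod_cast hdim
  intro hle
  have h1 : (p.height : Cardinal.{u}) ≤ 1 := by exact_mod_cast hle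
  have h2 : (n : Cardinal.{u}) ≤ 1 + n' := by
    rw [← h]
    exact add_le_add_left h1 _
  have h3 : n ≤ 1 + n' := by exact_mod_cast h2
  omega

lemma height_le_one_of_mem (a b : A) (p : Ideal A)
    (hp : p ∈ (Ideal.span {a, b}).minimalPrimes) (q : Ideal A)
    (hq : q ∈ (Ideal.span {a}).minimalPrimes) (hqp : q ≤ p) (hb : b ∈ q) : p.height ≤ 1 := by
  haveI : IsNoetherianRing A := Algebra.FiniteType.isNoetherianRing k A
  have hqprime : q.IsPrime := hq.1.1
  have ha : a ∈ q := hq.1.2 (Ideal.subset_span (Set.mem_singleton a))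
  have hle : Ideal.span {a, b} ≤ q := by
    rw [Ideal.span_le]
    intro x hx
    rcases hx with rfl | hx
    · exact ha
    · rw [Set.mem_singleton_iff.1 hx]
      exact hb
  have hpq : p ≤ q := hp.2 ⟨hqprime, hle⟩ hqp
  have hpq' : p = q := le_antisymm hpq hqp
  haveI : (Ideal.span {a}).IsPrincipal := ⟨⟨a, rfl⟩⟩
  rw [hpq']
  exact Ideal.height_le_one_of_isPrincipal_of_mem_minimalPrimes (Ideal.span {a}) q hq

lemma exists_min_le (a : A) (p : Ideal A) [p.IsPrime] (ha : a ∈ p) :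
    ∃ q ∈ (Ideal.span {a}).minimalPrimes, q ≤ p :=
  Ideal.exists_minimalPrimes_le (I := Ideal.span {a}) (J := p) (by
    rw [Ideal.span_le]
    intro x hx
    rw [Set.mem_singleton_iff.1 hx]
    exact ha)

theorem transcendental_snd (g₀ g₁ : A) (p : Ideal A)
    (hp : p ∈ (Ideal.span {g₀, g₁}).minimalPrimes)
    (hdim : ringKrullDim (A ⧸ p) + 2 = ringKrullDim A) : Transcendental k g₁ := by
  haveI hpp : p.IsPrime := hp.1.1
  have hnot := not_height_le_one k p hdim
  have hg₀p : g₀ ∈ p := hp.1.2 (Ideal.subset_span (Set.mem_insert _ _))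
  have hg₁p : g₁ ∈ p := hp.1.2 (Ideal.subset_span (Set.mem_insert_of_mem _ rfl))
  intro halg
  have hint : IsIntegral k g₁ := isAlgebraic_iff_isIntegral.1 halg
  by_cases h0 : g₁ = 0
  · obtain ⟨q, hq, hqp⟩ := exists_min_le k g₀ p hg₀p
    exact hnot (height_le_one_of_mem k g₀ g₁ p hp q hq hqp (by rw [h0]; exact q.zero_mem))
  · have hu := hint.isUnit h0
    exact hpp.ne_top (Ideal.eq_top_of_isUnit_mem _ hg₁p hu)

theorem transcendental_fst (g₀ g₁ : A) (p : Ideal A)
    (hp : p ∈ (Ideal.span {g₀, g₁}).minimalPrimes)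
    (hdim : ringKrullDim (A ⧸ p) + 2 = ringKrullDim A) :
    Transcendental (Algebra.adjoin k {g₁}) g₀ := by
  classical
  haveI hpp : p.IsPrime := hp.1.1
  have hnot := not_height_le_one k p hdim
  have hg₀p : g₀ ∈ p := hp.1.2 (Ideal.subset_span (Set.mem_insert _ _))
  have hg₁p : g₁ ∈ p := hp.1.2 (Ideal.subset_span (Set.mem_insert_of_mem _ rfl))
  have hg₀ne : g₀ ≠ 0 := by
    intro h0
    have hp' : p ∈ (Ideal.span {g₁, g₀}).minimalPrimes := by
      rw [Set.pair_comm]
      exact hp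
    obtain ⟨q, hq, hqp⟩ := exists_min_le k g₁ p hg₁p
    exact hnot (height_le_one_of_mem k g₁ g₀ p hp' q hq hqp (by rw [h0]; exact q.zero_mem))
  obtain ⟨q, hq, hqp⟩ := exists_min_le k g₀ p hg₀p
  haveI hqprime : q.IsPrime := hq.1.1
  have hg₀q : g₀ ∈ q := hq.1.2 (Ideal.subset_span rfl)
  intro halg
  apply hnot
  refine height_le_one_of_mem k g₀ g₁ p hp q hq hqp ?_
  by_contra hg₁q
  obtain ⟨P, hP0, hPev⟩ := halg
  have hdvd : Polynomial.X ^ P.natTrailingDegree ∣ P :=
    Polynomial.X_pow_dvd_iff.2 (fun d hd => Polynomial.coeff_eq_zero_of_lt_natTrailingDegree hd)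
  obtain ⟨P₁, hP₁⟩ := hdvd
  have hc : P₁.coeff 0 ≠ 0 := by
    have h1 : P.coeff (0 + P.natTrailingDegree) =
        (Polynomial.X ^ P.natTrailingDegree * P₁).coeff (0 + P.natTrailingDegree) :=
      congrArg (fun Q => Q.coeff (0 + P.natTrailingDegree)) hP₁
    rw [Polynomial.coeff_X_pow_mul, zero_add] at h1
    rw [← h1]
    exact Polynomial.trailingCoeff_nonzero_iff_nonzero.2 hP0
  have hev₁ : Polynomial.aeval g₀ P₁ = 0 := by
    rw [hP₁, map_mul, map_pow, Polynomial.aeval_X] at hPev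
    exact (mul_eq_zero.1 hPev).resolve_left (pow_ne_zero _ hg₀ne)
  have hcq : ((P₁.coeff 0 : Algebra.adjoin k {g₁}) : A) ∈ q := by
    have h1 : Polynomial.aeval g₀ (P₁.divX * Polynomial.X + Polynomial.C (P₁.coeff 0)) = 0 := by
      rw [Polynomial.divX_mul_X_add, hev₁]
    rw [map_add, map_mul, Polynomial.aeval_X, Polynomial.aeval_C] at h1
    have h2 : ((P₁.coeff 0 : Algebra.adjoin k {g₁}) : A) =
        - (Polynomial.aeval g₀ P₁.divX * g₀) := eq_neg_of_add_eq_zero_right h1
    rw [h2]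
    exact q.neg_mem (q.mul_mem_left _ hg₀q)
  have hcmem : ((P₁.coeff 0 : Algebra.adjoin k {g₁}) : A) ∈
      (Polynomial.aeval (R := k) g₁).range := by
    rw [← Algebra.adjoin_singleton_eq_range_aeval]
    exact (P₁.coeff 0).2
  obtain ⟨r, hr⟩ := hcmem
  change Polynomial.aeval g₁ r = _ at hr
  have hr0 : r ≠ 0 := by
    intro h
    rw [h, map_zero] at hr
    exact hc (Subtype.ext hr.symm)
  have halg' : IsAlgebraic k (Ideal.Quotient.mk q g₁) := by
    refine ⟨r, hr0, ?_⟩
    have h3 : Polynomial.aeval (Ideal.Quotient.mk q g₁) r =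
        Ideal.Quotient.mk q (Polynomial.aeval g₁ r) :=
      Polynomial.aeval_algHom_apply (Ideal.Quotient.mkₐ k q) g₁ r
    rw [h3, hr]
    exact Ideal.Quotient.eq_zero_iff_mem.2 hcq
  have hint' : IsIntegral k (Ideal.Quotient.mk q g₁) := isAlgebraic_iff_isIntegral.1 halg'
  have hne' : Ideal.Quotient.mk q g₁ ≠ 0 := fun h => hg₁q (Ideal.Quotient.eq_zero_iff_mem.1 h)
  have hu := hint'.isUnit hne'
  obtain ⟨b, hb⟩ := hu.exists_right_inv
  obtain ⟨b', rfl⟩ := Ideal.Quotient.mk_surjective b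
  have h1 : g₁ * b' - 1 ∈ q := by
    rw [← Ideal.Quotient.eq_zero_iff_mem, map_sub, map_mul, map_one, hb, sub_self]
  have h2 : (1 : A) ∈ p := by
    have h3 : g₁ * b' ∈ p := p.mul_mem_right _ hg₁p
    have h4 := p.sub_mem h3 (hqp h1)
    rwa [sub_sub_cancel] at h4
  exact hpp.ne_top ((Ideal.eq_top_iff_one p).2 h2)

/-- **Key dimension input**: `g₀, g₁` are algebraically independent over `k`. -/
theorem algebraicIndependent_option (g₀ g₁ : A) (p : Ideal A)
    (hp : p ∈ (Ideal.span {g₀, g₁}).minimalPrimes)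
    (hdim : ringKrullDim (A ⧸ p) + 2 = ringKrullDim A) :
    AlgebraicIndependent k (fun o : Option Unit => o.elim g₀ (fun _ => g₁)) := by
  rw [AlgebraicIndependent.option_iff]
  refine ⟨algebraicIndependent_unique_type_iff.2 (transcendental_snd k g₀ g₁ p hp hdim), ?_⟩
  have h1 : Set.range (fun _ : Unit => g₁) = {g₁} := Set.range_const
  rw [h1]
  exact transcendental_fst k g₀ g₁ p hp hdim

end Groth.Agent.Lib.Helper64.CodimTwo
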