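import Mathlib

/-!
# Algebraic independence of `x₀, …, x_{n-1}, Σ gᵢ xᵢ, g₁` from that of `g₀, g₁` (helper64)

The shift automorphism `x₀ ↦ x₀ + 1` sends `ℓ = Σ gᵢ xᵢ` to `ℓ + g₀` and preserves `k[x, g₁]`;
so if `ℓ` were algebraic over `k[x, g₁]`, so would `g₀` be.
-/

set_option autoImplicit false
universe u

open MvPolynomial

namespace Groth.Agent.Lib.Helper64.CodimTwo

section general

variable {k : Type*} [Field k]

lemma isAlgebraic_map_of_stable {W : Type*} [CommRing W] [Algebra k W] (σ : W →ₐ[k] W)
    (hσ : Function.Injective σ) (𝔄 : Subalgebra k W) (hst : ∀ a ∈ 𝔄, σ a ∈ 𝔄) {w : W}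
    (hw : IsAlgebraic 𝔄 w) : IsAlgebraic 𝔄 (σ w) := by
  obtain ⟨Q, hQ0, hQ⟩ := hw
  let σ𝔄 : 𝔄 →+* 𝔄 :=
    (σ.toRingHom.comp (algebraMap 𝔄 W)).codRestrict 𝔄 (fun a => hst a a.2)
  have hinj : Function.Injective σ𝔄 := by
    intro a b hab
    apply Subtype.ext
    apply hσ
    exact congrArg Subtype.val hab
  refine ⟨Q.map σ𝔄, (Polynomial.map_ne_zero_iff hinj).2 hQ0, ?_⟩
  rw [Polynomial.aeval_def, Polynomial.eval₂_map]
  have h1 : (algebraMap 𝔄 W).comp σ𝔄 = σ.toRingHom.comp (algebraMap 𝔄 W) := by
    ext a
    rfl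
  rw [h1]
  have h2 := Polynomial.hom_eval₂ Q (algebraMap 𝔄 W) σ.toRingHom w
  have h3 : Polynomial.eval₂ (algebraMap 𝔄 W) w Q = 0 := by
    rw [← Polynomial.aeval_def]
    exact hQ
  rw [h3, map_zero] at h2
  exact h2.symm

end general

section shift

variable {k A : Type u} [Field k] [CommRing A] [IsDomain A] [Algebra k A] (m : ℕ)

/-- the linear form `Σ gᵢ xᵢ`. -/
noncomputable def ell (g : Fin (m + 2) → A) : MvPolynomial (Fin (m + 2)) A := ∑ i, C (g i) * X i

/-- the shift `x₀ ↦ x₀ + 1`. -/
noncomputable def shift : MvPolynomial (Fin (m + 2)) A →ₐ[A] MvPolynomial (Fin (m + 2)) A :=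
  aeval (fun i => if i = 0 then X 0 + 1 else X i)

/-- the inverse shift. -/
noncomputable def unshift : MvPolynomial (Fin (m + 2)) A →ₐ[A] MvPolynomial (Fin (m + 2)) A :=
  aeval (fun i => if i = 0 then X 0 - 1 else X i)

lemma shift_X (i : Fin (m + 2)) :
    shift (A := A) m (X i) = if i = 0 then X 0 + 1 else X i := by
  unfold shift
  rw [aeval_X]

lemma unshift_X (i : Fin (m + 2)) :
    unshift (A := A) m (X i) = if i = 0 then X 0 - 1 else X i := by
  unfold unshift
  rw [aeval_X]

lemma unshift_shift (a : MvPolynomial (Fin (m + 2)) A) : unshift m (shift m a) = a := by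
  have h : (unshift (A := A) m).comp (shift m) = AlgHom.id A _ := by
    apply MvPolynomial.algHom_ext
    intro i
    rw [AlgHom.comp_apply, shift_X]
    by_cases h : i = 0
    · rw [if_pos h, map_add, map_one, unshift_X, if_pos rfl, sub_add_cancel, h]
      rfl
    · rw [if_neg h, unshift_X, if_neg h]
      rfl
  have h2 := congrArg (fun f => f a) h
  exact h2

lemma shift_injective : Function.Injective (shift (A := A) m) := by
  intro a b hab
  have h := congrArg (unshift m) hab
  rwa [unshift_shift, unshift_shift] at h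

lemma shift_C (a : A) : shift m (C a : MvPolynomial (Fin (m + 2)) A) = C a := by
  unfold shift
  rw [aeval_C]
  rfl

lemma shift_ell (g : Fin (m + 2) → A) : shift m (ell m g) = ell m g + C (g 0) := by
  unfold ell
  rw [map_sum]
  have h : ∀ i : Fin (m + 2), shift m (C (g i) * X i) =
      C (g i) * X i + (if i = 0 then C (g 0) else 0) := by
    intro i
    rw [map_mul, shift_C, shift_X]
    by_cases h : i = 0
    · rw [if_pos h, if_pos h, mul_add, mul_one, h]
    · rw [if_neg h, if_neg h, add_zero]
  rw [Finset.sum_congr rfl (fun i _ => h i), Finset.sum_add_distrib,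
    Finset.sum_ite_eq' Finset.univ (0 : Fin (m + 2)), if_pos (Finset.mem_univ _)]

end shift

section main

variable {k A : Type u} [Field k] [CommRing A] [IsDomain A] [Algebra k A] (m : ℕ)

/-- reindexing `Option (Fin (m+2) ⊕ Unit) → Fin (m+2) ⊕ Option Unit`. -/
def reE : Option (Fin (m + 2) ⊕ Unit) → Fin (m + 2) ⊕ Option Unit
  | none => Sum.inr none
  | some (Sum.inl i) => Sum.inl i
  | some (Sum.inr _) => Sum.inr (some ())

lemma reE_injective : Function.Injective (reE m) := by
  intro a b h
  rcases a with _ | (i | u) <;> rcases b with _ | (j | v) <;> simp [reE] at h ⊢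
  · exact h

/-- reindexing `Fin (m+2) ⊕ Fin 2 → Option (Fin (m+2) ⊕ Unit)`. -/
def reF : Fin (m + 2) ⊕ Fin 2 → Option (Fin (m + 2) ⊕ Unit) :=
  Sum.elim (fun i => some (Sum.inl i)) (fun j => if j = 0 then none else some (Sum.inr ()))

lemma reF_injective : Function.Injective (reF m) := by
  intro a b h
  rcases a with i | j <;> rcases b with i' | j'
  · simp [reF] at h
    rw [h]
  · exfalso
    simp only [reF, Sum.elim_inl, Sum.elim_inr] at h
    split_ifs at h <;> simp at h
  · exfalso
    simp only [reF, Sum.elim_inl, Sum.elim_inr] at h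
    split_ifs at h <;> simp at h
  · simp only [reF, Sum.elim_inr] at h
    congr 1
    fin_cases j <;> fin_cases j' <;> simp_all

theorem algebraicIndependent_W (g : Fin (m + 2) → A)
    (hg : AlgebraicIndependent k (fun o : Option Unit => o.elim (g 0) (fun _ => g 1))) :
    AlgebraicIndependent k
      (Sum.elim (fun i : Fin (m + 2) => (X i : MvPolynomial (Fin (m + 2)) A))
        ![ell m g, C (g 1)]) := by
  classical
  have hfam : AlgebraicIndependent k
      (Sum.elim (fun i : Fin (m + 2) => (X i : MvPolynomial (Fin (m + 2)) A))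
        (algebraMap A (MvPolynomial (Fin (m + 2)) A) ∘
          (fun o : Option Unit => o.elim (g 0) (fun _ => g 1)))) :=
    hg.sumElim_comp (MvPolynomial.algebraicIndependent_X (Fin (m + 2)) A)
  -- the family `x, g₁` and `g₀` over it
  have hopt : AlgebraicIndependent k (fun o : Option (Fin (m + 2) ⊕ Unit) =>
      o.elim (C (g 0) : MvPolynomial (Fin (m + 2)) A)
        (Sum.elim (fun i : Fin (m + 2) => (X i : MvPolynomial (Fin (m + 2)) A))
          (fun _ : Unit => C (g 1)))) := by
    have h1 := hfam.comp (reE m) (reE_injective m)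
    have h2 : (Sum.elim (fun i : Fin (m + 2) => (X i : MvPolynomial (Fin (m + 2)) A))
        (algebraMap A (MvPolynomial (Fin (m + 2)) A) ∘
          (fun o : Option Unit => o.elim (g 0) (fun _ => g 1)))) ∘ reE m =
        (fun o : Option (Fin (m + 2) ⊕ Unit) =>
          o.elim (C (g 0) : MvPolynomial (Fin (m + 2)) A)
            (Sum.elim (fun i : Fin (m + 2) => (X i : MvPolynomial (Fin (m + 2)) A))
              (fun _ : Unit => C (g 1)))) := by
      funext o
      rcases o with _ | (i | u) <;> rfl
    rwa [h2] at h1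
  obtain ⟨hv₁, hT0⟩ := AlgebraicIndependent.option_iff.1 hopt
  -- `ℓ` is transcendental over `k[x, g₁]`
  have hTℓ : Transcendental (Algebra.adjoin k (Set.range
      (Sum.elim (fun i : Fin (m + 2) => (X i : MvPolynomial (Fin (m + 2)) A))
          (fun _ : Unit => C (g 1))))) (ell m g) := by
    intro halg
    apply hT0
    have hst : ∀ a ∈ Algebra.adjoin k (Set.range
        (Sum.elim (fun i : Fin (m + 2) => (X i : MvPolynomial (Fin (m + 2)) A))
          (fun _ : Unit => C (g 1)))),
        ((shift (A := A) m).restrictScalars k) a ∈ Algebra.adjoin k (Set.range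
        (Sum.elim (fun i : Fin (m + 2) => (X i : MvPolynomial (Fin (m + 2)) A))
          (fun _ : Unit => C (g 1)))) := by
      intro a ha
      have hle : Algebra.adjoin k (Set.range
          (Sum.elim (fun i : Fin (m + 2) => (X i : MvPolynomial (Fin (m + 2)) A))
            (fun _ : Unit => C (g 1)))) ≤
          (Algebra.adjoin k (Set.range
          (Sum.elim (fun i : Fin (m + 2) => (X i : MvPolynomial (Fin (m + 2)) A))
            (fun _ : Unit => C (g 1))))).comap ((shift (A := A) m).restrictScalars k) := by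
        apply Algebra.adjoin_le
        rintro _ ⟨(i | u), rfl⟩
        · rw [SetLike.mem_coe, Subalgebra.mem_comap]
          have e : ((shift (A := A) m).restrictScalars k)
              (Sum.elim (fun i : Fin (m + 2) => (X i : MvPolynomial (Fin (m + 2)) A))
                (fun _ : Unit => C (g 1)) (Sum.inl i)) = shift m (X i) := rfl
          rw [e, shift_X]
          split_ifs
          · exact Subalgebra.add_mem _ (Algebra.subset_adjoin ⟨Sum.inl 0, rfl⟩)
              (Subalgebra.one_mem _)
          · exact Algebra.subset_adjoin ⟨Sum.inl i, rfl⟩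
        · rw [SetLike.mem_coe, Subalgebra.mem_comap]
          have e : ((shift (A := A) m).restrictScalars k)
              (Sum.elim (fun i : Fin (m + 2) => (X i : MvPolynomial (Fin (m + 2)) A))
                (fun _ : Unit => C (g 1)) (Sum.inr u)) = shift m (C (g 1)) := rfl
          rw [e, shift_C]
          exact Algebra.subset_adjoin ⟨Sum.inr (), rfl⟩
      exact hle ha
    have h1 := isAlgebraic_map_of_stable ((shift (A := A) m).restrictScalars k)
      (shift_injective m) _ hst halg
    have h2 : ((shift (A := A) m).restrictScalars k) (ell m g) = ell m g + C (g 0) :=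
      shift_ell m g
    rw [h2] at h1
    have h3 := h1.sub halg
    rwa [add_sub_cancel_left] at h3
  have hfin := (hv₁.option_iff_transcendental (ell m g)).2 hTℓ
  have h4 := hfin.comp (reF m) (reF_injective m)
  have h5 : (fun o : Option (Fin (m + 2) ⊕ Unit) =>
      o.elim (ell m g)
        (Sum.elim (fun i : Fin (m + 2) => (X i : MvPolynomial (Fin (m + 2)) A))
          (fun _ : Unit => C (g 1)))) ∘ reF m =
      Sum.elim (fun i : Fin (m + 2) => (X i : MvPolynomial (Fin (m + 2)) A))
        ![ell m g, C (g 1)] := by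
    funext o
    rcases o with i | j
    · rfl
    · fin_cases j <;> rfl
  rwa [h5] at h4

end main

end Groth.Agent.Lib.Helper64.CodimTwo
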