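import Mathlib
import Groth.Agent.Lib.Helper64.CodimTwoA
import Groth.Agent.Lib.Helper64.CodimTwoB

/-!
# S7199: coefficients making `x, Σ gᵢ xᵢ, Σ cᵢ gᵢ` algebraically independent (helper64)
-/

set_option autoImplicit false
universe u

open MvPolynomial

namespace Groth.Agent.Lib.Helper64.CodimTwo

theorem main {k A : Type u} [Field k] [CommRing A] [IsDomain A] [Algebra k A]
    [Algebra.FiniteType k A] (m : ℕ) (g : Fin (m + 2) → A)
    (p : Ideal A) (hp : p ∈ (Ideal.span {g 0, g 1}).minimalPrimes)
    (hdim : ringKrullDim (A ⧸ p) + 2 = ringKrullDim A) :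
    ∃ c : Fin (m + 2) → k,
      AlgebraicIndependent k
        (Sum.elim
          (fun i : Fin (m + 2) => algebraMap (MvPolynomial (Fin (m + 2)) (FractionRing A)) (FractionRing (MvPolynomial (Fin (m + 2)) (FractionRing A))) (MvPolynomial.X i))
          ![∑ i, algebraMap A (FractionRing (MvPolynomial (Fin (m + 2)) (FractionRing A))) (g i) *
              algebraMap (MvPolynomial (Fin (m + 2)) (FractionRing A)) (FractionRing (MvPolynomial (Fin (m + 2)) (FractionRing A))) (MvPolynomial.X i),
            algebraMap A (FractionRing (MvPolynomial (Fin (m + 2)) (FractionRing A))) (∑ i, c i • g i)]) := by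
  classical
  have hg := algebraicIndependent_option k (g 0) (g 1) p hp hdim
  have hW := algebraicIndependent_W (k := k) m g hg
  refine ⟨Pi.single 1 1, ?_⟩
  -- the embedding of `A[x]` into the big field
  let φ : MvPolynomial (Fin (m + 2)) A →ₐ[k]
      FractionRing (MvPolynomial (Fin (m + 2)) (FractionRing A)) :=
    (IsScalarTower.toAlgHom k (MvPolynomial (Fin (m + 2)) (FractionRing A))
      (FractionRing (MvPolynomial (Fin (m + 2)) (FractionRing A)))).comp
      (MvPolynomial.mapAlgHom (IsScalarTower.toAlgHom k A (FractionRing A)))
  have hφ : Function.Injective φ := by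
    have h1 : Function.Injective (MvPolynomial.map (σ := Fin (m + 2))
        (algebraMap A (FractionRing A))) :=
      MvPolynomial.map_injective _ (IsFractionRing.injective A (FractionRing A))
    have h2 : Function.Injective (algebraMap (MvPolynomial (Fin (m + 2)) (FractionRing A))
        (FractionRing (MvPolynomial (Fin (m + 2)) (FractionRing A)))) :=
      IsFractionRing.injective _ _
    exact h2.comp h1
  have hφX : ∀ i, φ (X i) = algebraMap (MvPolynomial (Fin (m + 2)) (FractionRing A))
      (FractionRing (MvPolynomial (Fin (m + 2)) (FractionRing A))) (X i) := by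
    intro i
    show (algebraMap (MvPolynomial (Fin (m + 2)) (FractionRing A))
      (FractionRing (MvPolynomial (Fin (m + 2)) (FractionRing A))))
      (MvPolynomial.map (algebraMap A (FractionRing A)) (X i)) = _
    rw [map_X]
  have hφC : ∀ a : A, φ (C a) =
      algebraMap A (FractionRing (MvPolynomial (Fin (m + 2)) (FractionRing A))) a := by
    intro a
    show (algebraMap (MvPolynomial (Fin (m + 2)) (FractionRing A))
      (FractionRing (MvPolynomial (Fin (m + 2)) (FractionRing A))))
      (MvPolynomial.map (algebraMap A (FractionRing A)) (C a)) = _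
    rw [map_C, IsScalarTower.algebraMap_apply A (MvPolynomial (Fin (m + 2)) (FractionRing A))
      (FractionRing (MvPolynomial (Fin (m + 2)) (FractionRing A)))]
    rfl
  have h3 := hW.map' (f := φ) hφ
  have h4 : (φ ∘ Sum.elim (fun i : Fin (m + 2) => (X i : MvPolynomial (Fin (m + 2)) A))
      ![ell m g, C (g 1)]) =
      (Sum.elim
          (fun i : Fin (m + 2) => algebraMap (MvPolynomial (Fin (m + 2)) (FractionRing A)) (FractionRing (MvPolynomial (Fin (m + 2)) (FractionRing A))) (MvPolynomial.X i))
          ![∑ i, algebraMap A (FractionRing (MvPolynomial (Fin (m + 2)) (FractionRing A))) (g i) *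
              algebraMap (MvPolynomial (Fin (m + 2)) (FractionRing A)) (FractionRing (MvPolynomial (Fin (m + 2)) (FractionRing A))) (MvPolynomial.X i),
            algebraMap A (FractionRing (MvPolynomial (Fin (m + 2)) (FractionRing A))) (∑ i, (Pi.single 1 1 : Fin (m + 2) → k) i • g i)]) := by
    funext o
    rcases o with i | j
    · exact hφX i
    · fin_cases j
      · show φ (ell m g) = ∑ i : Fin (m + 2),
          algebraMap A (FractionRing (MvPolynomial (Fin (m + 2)) (FractionRing A))) (g i) *
            algebraMap (MvPolynomial (Fin (m + 2)) (FractionRing A))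
              (FractionRing (MvPolynomial (Fin (m + 2)) (FractionRing A))) (MvPolynomial.X i)
        unfold ell
        rw [map_sum]
        refine Finset.sum_congr rfl (fun i _ => ?_)
        rw [map_mul, hφC, hφX]
      · show φ (C (g 1)) = _
        rw [hφC]
        congr 1
        rw [Finset.sum_eq_single (1 : Fin (m + 2))]
        · rw [Pi.single_eq_same, one_smul]
        · intro b _ hb
          rw [Pi.single_eq_of_ne hb, zero_smul]
        · intro h
          exact absurd (Finset.mem_univ _) h
  rw [h4] at h3
  exact h3

end Groth.Agent.Lib.Helper64.CodimTwo
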