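import Groth.Prelude.Def_ArtFun5
import Groth.Agent.Lib.Helper83.CompleteNoeth
import Mathlib.RingTheory.AdicCompletion.LocalRing
import Mathlib.RingTheory.AdicCompletion.Completeness
import Mathlib.RingTheory.AdicCompletion.RingHom

/-!
# Completions of augmented `Λ`-algebras as coefficient rings (helper64)

For a `Λ`-algebra `P` with a surjective augmentation `π : P → k` whose kernel is finitely generated, the
completion of `P` at `ker π` is a coefficient ring `gcCRing π hπ hfg : CRing Λ k` with `gcOf : P → P^`.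
Augmentation-compatible maps from it to a coefficient ring `T` are the same as augmentation-compatible
maps `P → T`:
* `gc_exists_extend`: every augmentation-compatible `P → T` extends;
* `gc_extend_unique`: two augmentation-compatible maps `P^ → T` agreeing on `P` are equal.
-/

set_option autoImplicit false
universe u

namespace Groth.Agent.Lib.Helper64

open ArtFun ArtFun.Art CategoryTheory

variable {Λ : Type u} {k : Type u} [CommRing Λ] [Field k] [Algebra Λ k]

section Completion

variable (P : Type u) [CommRing P] [Algebra Λ P] (π : P →ₐ[Λ] k)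

/-- the augmentation ideal -/
abbrev augIdeal : Ideal P := RingHom.ker (π : P →+* k)

variable {P}

lemma augIdeal_isMaximal (hπ : Function.Surjective π) : (augIdeal P π).IsMaximal :=
  RingHom.ker_isMaximal_of_surjective (π : P →+* k) hπ

/-- the maximal ideal of the completion -/
noncomputable abbrev gcMax : Ideal (AdicCompletion (augIdeal P π) P) :=
  (augIdeal P π).map (algebraMap P (AdicCompletion (augIdeal P π) P))

lemma gcMax_isMaximal (hπ : Function.Surjective π) (hfg : (augIdeal P π).FG) :
    (gcMax π).IsMaximal :=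
  haveI := augIdeal_isMaximal π hπ
  AdicCompletion.isMaximal_map_of_le (augIdeal P π) (augIdeal P π) le_rfl hfg

lemma gc_isAdicComplete (hfg : (augIdeal P π).FG) :
    IsAdicComplete (gcMax π) (AdicCompletion (augIdeal P π) P) :=
  AdicCompletion.isAdicComplete_self (augIdeal P π) hfg

lemma gc_isLocalRing (hπ : Function.Surjective π) (hfg : (augIdeal P π).FG) :
    IsLocalRing (AdicCompletion (augIdeal P π) P) :=
  haveI := gcMax_isMaximal π hπ hfg
  haveI := gc_isAdicComplete π hfg
  isLocalRing_of_isAdicComplete_maximal (gcMax π)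

lemma gc_maximalIdeal_eq (hπ : Function.Surjective π) (hfg : (augIdeal P π).FG) :
    haveI := gc_isLocalRing π hπ hfg
    IsLocalRing.maximalIdeal (AdicCompletion (augIdeal P π) P) = gcMax π :=
  haveI := gc_isLocalRing π hπ hfg
  (IsLocalRing.eq_maximalIdeal (gcMax_isMaximal π hπ hfg)).symm

lemma gc_isNoetherianRing (hπ : Function.Surjective π) (hfg : (augIdeal P π).FG) :
    IsNoetherianRing (AdicCompletion (augIdeal P π) P) := by
  haveI := gcMax_isMaximal π hπ hfg
  haveI := gc_isAdicComplete π hfg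
  letI : Field (AdicCompletion (augIdeal P π) P ⧸ gcMax π) := Ideal.Quotient.field _
  exact Groth.Agent.Lib.Helper83.isNoetherianRing_of_isAdicComplete (gcMax π) (hfg.map _)

/-- the augmentation of the completion -/
noncomputable def gcRes : AdicCompletion (augIdeal P π) P →ₐ[Λ] k :=
  (Ideal.Quotient.liftₐ (augIdeal P π) π (fun _ ha => ha)).comp
    ((AdicCompletion.evalOneₐ (augIdeal P π)).restrictScalars Λ)

lemma gcRes_of (p : P) : gcRes π (AdicCompletion.of (augIdeal P π) P p) = π p := rfl

lemma gcRes_surjective (hπ : Function.Surjective π) : Function.Surjective (gcRes π) := by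
  intro c
  obtain ⟨p, rfl⟩ := hπ c
  exact ⟨AdicCompletion.of (augIdeal P π) P p, gcRes_of π p⟩

/-- The completion of `P` at the kernel of `π` as a coefficient ring. -/
noncomputable def gcCRing (hπ : Function.Surjective π) (hfg : (augIdeal P π).FG) : CRing Λ k :=
  letI := gc_isLocalRing π hπ hfg
  letI := gc_isNoetherianRing π hπ hfg
  { carrier := AdicCompletion (augIdeal P π) P
    res := gcRes π
    res_surjective := gcRes_surjective π hπ
    isAdicComplete := by
      rw [gc_maximalIdeal_eq π hπ hfg]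
      exact gc_isAdicComplete π hfg }

/-- the canonical map to the completion -/
noncomputable def gcOf (hπ : Function.Surjective π) (hfg : (augIdeal P π).FG) :
    P →ₐ[Λ] (gcCRing π hπ hfg).carrier :=
  IsScalarTower.toAlgHom Λ P (AdicCompletion (augIdeal P π) P)

lemma gcOf_apply (hπ : Function.Surjective π) (hfg : (augIdeal P π).FG) (p : P) :
    gcOf π hπ hfg p = AdicCompletion.of (augIdeal P π) P p := rfl

lemma gcRes_comp_gcOf (hπ : Function.Surjective π) (hfg : (augIdeal P π).FG) :
    (gcCRing π hπ hfg).res.comp (gcOf π hπ hfg) = π := AlgHom.ext fun _ => rfl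

lemma mem_gcMax_pow_of_evalₐ_eq_zero (hfg : (augIdeal P π).FG) (N : ℕ)
    (x : AdicCompletion (augIdeal P π) P)
    (hx : AdicCompletion.evalₐ (augIdeal P π) N x = 0) : x ∈ gcMax π ^ N := by
  have hx' : x ∈ LinearMap.ker (AdicCompletion.eval (augIdeal P π) P N) := by
    rw [LinearMap.mem_ker]
    have h := AdicCompletion.factor_evalₐ_eq_eval (I := augIdeal P π) x (n := N) (by simp)
    rw [← h, hx, _root_.map_zero]
  rw [← AdicCompletion.pow_smul_top_eq_ker_eval hfg] at hx'
  rw [← Ideal.map_pow, ← Submodule.restrictScalars_mem P, ← Ideal.smul_top_eq_map]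
  exact hx'

lemma gc_exists_of_sub_mem (hfg : (augIdeal P π).FG) (N : ℕ)
    (x : AdicCompletion (augIdeal P π) P) :
    ∃ p : P, AdicCompletion.evalₐ (augIdeal P π) N x = Ideal.Quotient.mk _ p ∧
      x - AdicCompletion.of (augIdeal P π) P p ∈ gcMax π ^ N := by
  obtain ⟨p, hp⟩ := Ideal.Quotient.mk_surjective (AdicCompletion.evalₐ (augIdeal P π) N x)
  refine ⟨p, hp.symm, ?_⟩
  apply mem_gcMax_pow_of_evalₐ_eq_zero π hfg
  rw [map_sub, AdicCompletion.evalₐ_of, hp, sub_self]

end Completion

section Extend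

variable {P : Type u} [CommRing P] [Algebra Λ P] (π : P →ₐ[Λ] k) (hπ : Function.Surjective π)
  (hfg : (augIdeal P π).FG)

include hπ hfg in
/-- Augmentation-compatible maps from `P` to a coefficient ring extend to the completion. -/
theorem gc_exists_extend' (T : CRing Λ k) (g : P →ₐ[Λ] T.carrier) (hg : T.res.comp g = π) :
    ∃ g' : AdicCompletion (augIdeal P π) P →ₐ[Λ] T.carrier,
      T.res.comp g' = gcRes π ∧ ∀ p : P, g' (AdicCompletion.of (augIdeal P π) P p) = g p := by
  have hTc : IsAdicComplete (IsLocalRing.maximalIdeal T.carrier) T.carrier := T.isAdicComplete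
  set J := IsLocalRing.maximalIdeal T.carrier with hJ
  have hgm : ∀ a ∈ augIdeal P π, g a ∈ J := by
    intro a ha
    rw [hJ, CRing.mem_maximalIdeal_iff]
    have : T.res (g a) = π a := congrArg (fun t : P →ₐ[Λ] k => t a) hg
    rw [this]
    exact ha
  have hgpow : ∀ n, ∀ a ∈ augIdeal P π ^ n, g a ∈ J ^ n := by
    intro n a ha
    have hle : augIdeal P π ≤ J.comap (g : P →+* T.carrier) := hgm
    exact (Ideal.pow_right_mono hle n).trans (Ideal.le_comap_pow _ n) ha
  let lft : ∀ n, (P ⧸ augIdeal P π ^ n) →ₐ[Λ] (T.carrier ⧸ J ^ n) := fun n =>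
    Ideal.Quotient.liftₐ (augIdeal P π ^ n) ((Ideal.Quotient.mkₐ Λ (J ^ n)).comp g) (fun a ha => by
      change Ideal.Quotient.mk (J ^ n) (g a) = 0
      rw [Ideal.Quotient.eq_zero_iff_mem]
      exact hgpow n a ha)
  let f : ∀ n, AdicCompletion (augIdeal P π) P →ₐ[Λ] (T.carrier ⧸ J ^ n) := fun n =>
    (lft n).comp ((AdicCompletion.evalₐ (augIdeal P π) n).restrictScalars Λ)
  have hf_mk : ∀ n (a : AdicCompletion.AdicCauchySequence (augIdeal P π) P),
      f n (AdicCompletion.mk (augIdeal P π) P a) = Ideal.Quotient.mk (J ^ n) (g (a.val n)) := by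
    intro n a
    change lft n (AdicCompletion.evalₐ (augIdeal P π) n (AdicCompletion.mk (augIdeal P π) P a)) = _
    rw [AdicCompletion.evalₐ_mk]
    rfl
  have hf : ∀ {m n : ℕ} (hle : m ≤ n),
      (Ideal.Quotient.factorₐ Λ (Ideal.pow_le_pow_right hle)).comp (f n) = f m := by
    intro m n hle
    apply AlgHom.ext
    intro x
    obtain ⟨a, rfl⟩ := AdicCompletion.mk_surjective (augIdeal P π) P x
    rw [AlgHom.comp_apply, hf_mk, hf_mk]
    change Ideal.Quotient.mk (J ^ m) (g (a.val n)) = Ideal.Quotient.mk (J ^ m) (g (a.val m))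
    rw [Ideal.Quotient.eq, ← map_sub]
    apply hgpow m
    rw [← Ideal.Quotient.eq]
    exact AdicCompletion.Ideal.mk_eq_mk (augIdeal P π) hle a
  let g' : AdicCompletion (augIdeal P π) P →ₐ[Λ] T.carrier := IsAdicComplete.liftAlgHom J f hf
  have hg'of : ∀ p : P, g' (AdicCompletion.of (augIdeal P π) P p) = g p := by
    intro p
    have h0 : ∀ n, Ideal.Quotient.mk (J ^ n) (g' (AdicCompletion.of (augIdeal P π) P p) - g p) = 0 := by
      intro n
      rw [map_sub, IsAdicComplete.mk_liftAlgHom J f hf n]
      change lft n (AdicCompletion.evalₐ (augIdeal P π) n (AdicCompletion.of (augIdeal P π) P p)) - _ = 0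
      rw [AdicCompletion.evalₐ_of]
      exact sub_self _
    have hH : IsHausdorff J T.carrier := hTc.toIsHausdorff
    have := hH.haus (g' (AdicCompletion.of (augIdeal P π) P p) - g p) (fun n => by
      rw [SModEq.zero, smul_eq_mul, Ideal.mul_top, ← Ideal.Quotient.eq_zero_iff_mem]
      exact h0 n)
    exact sub_eq_zero.mp this
  refine ⟨g', ?_, hg'of⟩
  apply AlgHom.ext
  intro x
  obtain ⟨p, -, hxp⟩ := gc_exists_of_sub_mem π hfg 1 x
  -- `x = of p + y` with `y` in the maximal ideal
  have hy : gcRes π (x - AdicCompletion.of (augIdeal P π) P p) = 0 := by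
    have hmax := gc_maximalIdeal_eq π hπ hfg
    have : x - AdicCompletion.of (augIdeal P π) P p ∈
        IsLocalRing.maximalIdeal (gcCRing π hπ hfg).carrier := by
      rw [pow_one] at hxp
      exact hmax ▸ hxp
    exact (CRing.mem_maximalIdeal_iff (gcCRing π hπ hfg)
      (x - AdicCompletion.of (augIdeal P π) P p)).1 this
  have hy' : T.res (g' (x - AdicCompletion.of (augIdeal P π) P p)) = 0 := by
    -- `g'` maps the maximal ideal into the maximal ideal
    rw [← CRing.mem_maximalIdeal_iff, ← hJ]
    have h1 : Ideal.Quotient.mk (J ^ 1) (g' (x - AdicCompletion.of (augIdeal P π) P p)) = 0 := by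
      rw [IsAdicComplete.mk_liftAlgHom J f hf 1]
      change lft 1 (AdicCompletion.evalₐ (augIdeal P π) 1 (x - AdicCompletion.of (augIdeal P π) P p)) = 0
      obtain ⟨q, hq, -⟩ := gc_exists_of_sub_mem π hfg 1 (x - AdicCompletion.of (augIdeal P π) P p)
      rw [hq]
      change Ideal.Quotient.mk (J ^ 1) (g q) = 0
      rw [Ideal.Quotient.eq_zero_iff_mem]
      apply hgpow 1
      rw [← Ideal.Quotient.eq_zero_iff_mem, ← hq]
      -- evalₐ 1 of an element of the maximal ideal vanishes
      have hker : gcRes π (x - AdicCompletion.of (augIdeal P π) P p) = 0 := hy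
      change (Ideal.Quotient.liftₐ (augIdeal P π) π (fun _ ha => ha))
        (AdicCompletion.evalOneₐ (augIdeal P π) (x - AdicCompletion.of (augIdeal P π) P p)) = 0 at hker
      have hinj : Function.Injective (Ideal.Quotient.liftₐ (augIdeal P π) π (fun _ ha => ha)) := by
        rw [injective_iff_map_eq_zero]
        intro z hz
        obtain ⟨z', rfl⟩ := Ideal.Quotient.mk_surjective z
        rw [Ideal.Quotient.eq_zero_iff_mem]
        exact hz
      have h2 := hinj (hker.trans (_root_.map_zero _).symm)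
      rw [← AdicCompletion.factorₐ_evalₐ_one] at h2
      obtain ⟨q', hq'⟩ := Ideal.Quotient.mk_surjective
        (AdicCompletion.evalₐ (augIdeal P π) 1 (x - AdicCompletion.of (augIdeal P π) P p))
      rw [← hq'] at h2 ⊢
      rw [Ideal.Quotient.eq_zero_iff_mem, pow_one]
      exact (Ideal.Quotient.eq_zero_iff_mem).1 h2
    rw [pow_one, Ideal.Quotient.eq_zero_iff_mem] at h1
    exact h1
  have e : x = AdicCompletion.of (augIdeal P π) P p + (x - AdicCompletion.of (augIdeal P π) P p) := by
    ring
  change T.res (g' x) = gcRes π x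
  rw [e, map_add, map_add, map_add, hg'of, hy, hy', gcRes_of, add_zero, add_zero]
  exact congrArg (fun t : P →ₐ[Λ] k => t p) hg

include hπ hfg in
/-- Two augmentation-compatible maps out of the completion agreeing on `P` are equal. -/
theorem gc_extend_unique' (T : CRing Λ k) (h₁ h₂ : AdicCompletion (augIdeal P π) P →ₐ[Λ] T.carrier)
    (hr₁ : T.res.comp h₁ = gcRes π) (hr₂ : T.res.comp h₂ = gcRes π)
    (h : ∀ p : P, h₁ (AdicCompletion.of (augIdeal P π) P p) =
      h₂ (AdicCompletion.of (augIdeal P π) P p)) : h₁ = h₂ := by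
  have hTc : IsAdicComplete (IsLocalRing.maximalIdeal T.carrier) T.carrier := T.isAdicComplete
  set J := IsLocalRing.maximalIdeal T.carrier with hJ
  have hmax := gc_maximalIdeal_eq π hπ hfg
  -- both maps send powers of the maximal ideal into powers of `J`
  have hpow : ∀ (t : AdicCompletion (augIdeal P π) P →ₐ[Λ] T.carrier),
      T.res.comp t = gcRes π → ∀ n, ∀ y ∈ gcMax π ^ n, t y ∈ J ^ n := by
    intro t ht n y hy
    have hle : gcMax π ≤ J.comap (t : AdicCompletion (augIdeal P π) P →+* T.carrier) := by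
      intro z hz
      rw [Ideal.mem_comap, hJ, CRing.mem_maximalIdeal_iff]
      have h1 : T.res (t z) = gcRes π z :=
        congrArg (fun s : AdicCompletion (augIdeal P π) P →ₐ[Λ] k => s z) ht
      rw [RingHom.coe_coe, h1]
      have hz' : z ∈ IsLocalRing.maximalIdeal (gcCRing π hπ hfg).carrier := hmax ▸ hz
      exact (CRing.mem_maximalIdeal_iff (gcCRing π hπ hfg) z).1 hz'
    exact (Ideal.pow_right_mono hle n).trans (Ideal.le_comap_pow _ n) hy
  apply IsAdicComplete.algHom_ext J
  intro n
  apply AlgHom.ext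
  intro x
  obtain ⟨p, -, hxp⟩ := gc_exists_of_sub_mem π hfg n x
  have e1 := hpow h₁ hr₁ n _ hxp
  have e2 := hpow h₂ hr₂ n _ hxp
  change Ideal.Quotient.mk (J ^ n) (h₁ x) = Ideal.Quotient.mk (J ^ n) (h₂ x)
  rw [Ideal.Quotient.eq]
  have e : h₁ x - h₂ x = h₁ (x - AdicCompletion.of (augIdeal P π) P p) -
      h₂ (x - AdicCompletion.of (augIdeal P π) P p) := by
    rw [_root_.map_sub, _root_.map_sub, h p]; ring
  rw [e]
  exact Ideal.sub_mem _ e1 e2

include hπ hfg in
theorem gc_exists_extend (T : CRing Λ k) (g : P →ₐ[Λ] T.carrier) (hg : T.res.comp g = π) :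
    ∃ g' : (gcCRing π hπ hfg).carrier →ₐ[Λ] T.carrier,
      T.res.comp g' = (gcCRing π hπ hfg).res ∧ g'.comp (gcOf π hπ hfg) = g := by
  obtain ⟨g', h1, h2⟩ := gc_exists_extend' π hπ hfg T g hg
  exact ⟨g', h1, AlgHom.ext h2⟩

include hπ hfg in
theorem gc_extend_unique (T : CRing Λ k) (h₁ h₂ : (gcCRing π hπ hfg).carrier →ₐ[Λ] T.carrier)
    (hr₁ : T.res.comp h₁ = (gcCRing π hπ hfg).res) (hr₂ : T.res.comp h₂ = (gcCRing π hπ hfg).res)
    (h : h₁.comp (gcOf π hπ hfg) = h₂.comp (gcOf π hπ hfg)) : h₁ = h₂ :=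
  gc_extend_unique' π hπ hfg T h₁ h₂ hr₁ hr₂
    (fun p => congrArg (fun t : P →ₐ[Λ] T.carrier => t p) h)

end Extend

end Groth.Agent.Lib.Helper64
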