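/-
helper64: polynomial model of a curve singularity (S15152).
-/
import Mathlib

set_option autoImplicit false
universe u
open Polynomial

namespace Groth.Agent.Lib.Helper64.CurveModel

section

variable {k : Type u} [Field k] {s : ℕ}

/-- the coercion of tuples of polynomials to tuples of power series. -/
noncomputable def iota (g : Fin s → Polynomial k) : Fin s → PowerSeries k :=
  fun i => ((g i : Polynomial k) : PowerSeries k)

variable (R : Subalgebra k (Fin s → PowerSeries k)) (c : Fin s → ℕ)
  (hc : ∀ f : Fin s → PowerSeries k,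
      (∀ g : Fin s → PowerSeries k, g * f ∈ R) ↔ ∀ i, ((c i : ℕ) : ℕ∞) ≤ (f i).order)
  (A : Subalgebra k (Fin s → Polynomial k))
  (hA : ∀ g : Fin s → Polynomial k, g ∈ A ↔ iota g ∈ R)

/-- the bound on the conductor exponents. -/
def bd (c : Fin s → ℕ) : ℕ := Finset.univ.sup c + 1

theorem le_bd (i : Fin s) : c i ≤ bd c :=
  (Finset.le_sup (f := c) (Finset.mem_univ i)).trans (Nat.le_succ _)

theorem bd_pos : 0 < bd c := Nat.succ_pos _

include hc in
theorem mem_R_of_order (f : Fin s → PowerSeries k)
    (h : ∀ i, ((c i : ℕ) : ℕ∞) ≤ (f i).order) : f ∈ R := by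
  have := (hc f).mpr h 1
  rwa [one_mul] at this

include hc hA in
theorem mem_A_of_dvd (g : Fin s → Polynomial k) (h : ∀ i, (X : Polynomial k) ^ bd c ∣ g i) :
    g ∈ A := by
  rw [hA]
  apply mem_R_of_order R c hc
  intro i
  apply PowerSeries.nat_le_order
  intro d hd
  have h1 : (X : Polynomial k) ^ c i ∣ g i := (pow_dvd_pow X (le_bd c i)).trans (h i)
  rw [Polynomial.X_pow_dvd_iff] at h1
  simp only [iota, Polynomial.coeff_coe]
  exact h1 d hd

/-- Part 2: no nontrivial idempotents. -/
theorem part2 (hloc : ∀ f ∈ R, ∀ i j : Fin s,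
      PowerSeries.constantCoeff (f i) = PowerSeries.constantCoeff (f j))
    (hA : ∀ g : Fin s → Polynomial k, g ∈ A ↔ iota g ∈ R)
    (e : Fin s → Polynomial k) (he : e ∈ A) (hee : e * e = e) : e = 0 ∨ e = 1 := by
  have h1 : ∀ i, e i = 0 ∨ e i = 1 := by
    intro i
    have : e i * e i = e i := congrFun hee i
    exact (IsIdempotentElem.iff_eq_zero_or_one).mp this
  have h2 : ∀ i j, (e i).coeff 0 = (e j).coeff 0 := by
    intro i j
    have := hloc (iota e) ((hA e).mp he) i j
    simpa [iota] using this
  by_cases h : ∀ i, e i = 0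
  · left; funext i; exact h i
  · right
    push_neg at h
    obtain ⟨i₀, hi₀⟩ := h
    have h3 : e i₀ = 1 := (h1 i₀).resolve_left hi₀
    funext j
    rcases h1 j with h4 | h4
    · exfalso
      have := h2 i₀ j
      rw [h3, h4] at this
      simp at this
    · exact h4

include hc hA in
/-- Part 4: products of `bd c` elements with zero constant term multiply everything into `A`. -/
theorem part4 (g : Fin (bd c) → (Fin s → Polynomial k))
    (hg : ∀ n, g n ∈ A ∧ ∀ i, (g n i).coeff 0 = 0) (p : Fin s → Polynomial k) :
    p * ∏ n, g n ∈ A := by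
  apply mem_A_of_dvd R c hc A hA
  intro i
  rw [Pi.mul_apply, Finset.prod_apply]
  apply dvd_mul_of_dvd_right
  have : (X : Polynomial k) ^ bd c = ∏ _n : Fin (bd c), (X : Polynomial k) := by
    simp
  rw [this]
  apply Finset.prod_dvd_prod_of_dvd
  intro n _
  rw [Polynomial.X_dvd_iff]
  exact (hg n).2 i

include hc hA in
/-- Part 5: approximation. -/
theorem part5 (f : Fin s → PowerSeries k) (hf : f ∈ R) (N : ℕ) :
    ∃ g ∈ A, ∀ i : Fin s,
      (N : ℕ∞) ≤ (f i - ((g i : Polynomial k) : PowerSeries k)).order := by
  set M := max N (bd c) with hM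
  let g : Fin s → Polynomial k := fun i => PowerSeries.trunc M (f i)
  have hord : ∀ i, ((M : ℕ) : ℕ∞) ≤ (f i - ((g i : Polynomial k) : PowerSeries k)).order := by
    intro i
    apply PowerSeries.nat_le_order
    intro d hd
    simp only [g, map_sub, Polynomial.coeff_coe, PowerSeries.coeff_trunc, hd, if_true, sub_self]
  refine ⟨g, ?_, fun i => le_trans (by exact_mod_cast le_max_left N (bd c)) (hord i)⟩
  rw [hA]
  have h1 : f - iota g ∈ R := by
    apply mem_R_of_order R c hc
    intro i
    refine le_trans ?_ (hord i)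
    exact_mod_cast (le_bd c i).trans (le_max_right N (bd c))
  have h2 : iota g = f - (f - iota g) := by abel
  rw [h2]
  exact R.sub_mem hf h1

include hc hA in
/-- Part 6: Artin–Rees like statement. -/
theorem part6 (N : ℕ) : ∃ M : ℕ, ∀ g : ↥A,
    (∀ i : Fin s, (X : Polynomial k) ^ M ∣ (g : Fin s → Polynomial k) i) →
      g ∈ (Ideal.span {h : ↥A | ∀ i : Fin s,
        ((h : Fin s → Polynomial k) i).coeff 0 = 0}) ^ N := by
  cases N with
  | zero =>
    refine ⟨0, fun g _ => ?_⟩
    rw [pow_zero, Ideal.one_eq_top]
    trivial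
  | succ N' =>
    refine ⟨N' * bd c + bd c, fun g hg => ?_⟩
    choose q hq using hg
    have hu : (fun _ : Fin s => (X : Polynomial k) ^ bd c) ∈ A :=
      mem_A_of_dvd R c hc A hA _ fun i => dvd_rfl
    have hg' : (fun i : Fin s => (X : Polynomial k) ^ bd c * q i) ∈ A :=
      mem_A_of_dvd R c hc A hA _ fun i => dvd_mul_right _ _
    let u : ↥A := ⟨_, hu⟩
    let g' : ↥A := ⟨_, hg'⟩
    have hgu : g = u ^ N' * g' := by
      apply Subtype.ext
      funext i
      simp only [u, g', MulMemClass.coe_mul, SubmonoidClass.coe_pow, Pi.mul_apply, Pi.pow_apply]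
      rw [hq i]
      ring
    have hum : u ∈ Ideal.span {h : ↥A | ∀ i : Fin s,
        ((h : Fin s → Polynomial k) i).coeff 0 = 0} := by
      apply Ideal.subset_span
      intro i
      simp only [u, Polynomial.coeff_X_pow]
      rw [if_neg (bd_pos c).ne]
    have hgm : g' ∈ Ideal.span {h : ↥A | ∀ i : Fin s,
        ((h : Fin s → Polynomial k) i).coeff 0 = 0} := by
      apply Ideal.subset_span
      intro i
      simp only [g']
      rw [Polynomial.mul_coeff_zero, Polynomial.coeff_X_pow, if_neg (bd_pos c).ne, zero_mul]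
    rw [hgu, pow_succ]
    exact Ideal.mul_mem_mul (Ideal.pow_mem_pow hum N') hgm

include hc hA in
/-- Part 3: the product of polynomial rings is finite over `A`. -/
theorem part3 : Module.Finite ↥A (Fin s → Polynomial k) := by
  classical
  let T : Finset (Fin s → Polynomial k) := Finset.univ.image
    (fun ij : Fin s × Fin (bd c) => Pi.single ij.1 ((X : Polynomial k) ^ (ij.2 : ℕ)))
  refine ⟨⟨T, ?_⟩⟩
  rw [eq_top_iff]
  intro g _
  have hone : (1 : Fin s → Polynomial k) ∈ Submodule.span ↥A (T : Set (Fin s → Polynomial k)) := by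
    have : (1 : Fin s → Polynomial k) =
        ∑ i, Pi.single i ((X : Polynomial k) ^ ((⟨0, bd_pos c⟩ : Fin (bd c)) : ℕ)) := by
      simp only [pow_zero]
      exact (Finset.univ_sum_single (1 : Fin s → Polynomial k)).symm
    rw [this]
    exact Submodule.sum_mem _ fun i _ => Submodule.subset_span
      (Finset.mem_coe.mpr (Finset.mem_image.mpr ⟨(i, ⟨0, bd_pos c⟩), Finset.mem_univ _, rfl⟩))
  have hsingle : ∀ (i : Fin s) (q : Polynomial k),
      Pi.single i q ∈ Submodule.span ↥A (T : Set (Fin s → Polynomial k)) := by
    intro i q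
    induction q using Polynomial.induction_on' with
    | add p q hp hq => rw [Pi.single_add]; exact Submodule.add_mem _ hp hq
    | monomial d a =>
      by_cases hd : d < bd c
      · have : (Pi.single i (Polynomial.monomial d a) : Fin s → Polynomial k) =
            (algebraMap k ↥A a) • (Pi.single i ((X : Polynomial k) ^ d) : Fin s → Polynomial k) := by
          rw [algebraMap_smul, ← Pi.single_smul, Polynomial.smul_eq_C_mul,
            Polynomial.C_mul_X_pow_eq_monomial]
        rw [this]
        exact Submodule.smul_mem _ _ (Submodule.subset_span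
          (Finset.mem_coe.mpr (Finset.mem_image.mpr ⟨(i, ⟨d, hd⟩), Finset.mem_univ _, rfl⟩)))
      · have hmem : (Pi.single i (Polynomial.monomial d a) : Fin s → Polynomial k) ∈ A := by
          apply mem_A_of_dvd R c hc A hA
          intro j
          by_cases hj : j = i
          · subst hj
            rw [Pi.single_eq_same, ← Polynomial.C_mul_X_pow_eq_monomial]
            exact dvd_mul_of_dvd_right (pow_dvd_pow X (not_lt.mp hd)) _
          · rw [Pi.single_eq_of_ne hj]; exact dvd_zero _
        have : (Pi.single i (Polynomial.monomial d a) : Fin s → Polynomial k) =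
            (⟨_, hmem⟩ : ↥A) • (1 : Fin s → Polynomial k) := by
          rw [Subalgebra.smul_def]
          simp
        rw [this]
        exact Submodule.smul_mem _ _ hone
  rw [← Finset.univ_sum_single g]
  exact Submodule.sum_mem _ fun i _ => hsingle i (g i)

theorem fg_top_pi : (⊤ : Subalgebra k (Fin s → Polynomial k)).FG := by
  classical
  let T : Finset (Fin s → Polynomial k) :=
    Finset.univ.image (fun i : Fin s => Pi.single i (1 : Polynomial k)) ∪
      Finset.univ.image (fun i : Fin s => Pi.single i (X : Polynomial k))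
  refine ⟨T, ?_⟩
  rw [eq_top_iff]
  intro g _
  have hsingle : ∀ (i : Fin s) (q : Polynomial k),
      Pi.single i q ∈ Algebra.adjoin k (T : Set (Fin s → Polynomial k)) := by
    intro i q
    have h1 : (Pi.single i (1 : Polynomial k) : Fin s → Polynomial k) ∈
        Algebra.adjoin k (T : Set (Fin s → Polynomial k)) :=
      Algebra.subset_adjoin (by simp [T])
    have hX : (Pi.single i (X : Polynomial k) : Fin s → Polynomial k) ∈
        Algebra.adjoin k (T : Set (Fin s → Polynomial k)) :=
      Algebra.subset_adjoin (by simp [T])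
    induction q using Polynomial.induction_on with
    | C a =>
      have : (Pi.single i (C a) : Fin s → Polynomial k) = a • Pi.single i (1 : Polynomial k) := by
        rw [← Pi.single_smul, Polynomial.smul_eq_C_mul, mul_one]
      rw [this]; exact Subalgebra.smul_mem _ h1 a
    | add p q hp hq => rw [Pi.single_add]; exact Subalgebra.add_mem _ hp hq
    | monomial n a h =>
      have : (Pi.single i (C a * X ^ (n + 1)) : Fin s → Polynomial k) =
          Pi.single i (C a * X ^ n) * Pi.single i X := by
        rw [← Pi.single_mul, pow_succ, mul_assoc]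
      rw [this]; exact Subalgebra.mul_mem _ h hX
  rw [← Finset.univ_sum_single g]
  exact Subalgebra.sum_mem _ fun i _ => hsingle i (g i)

include hc hA in
/-- Part 1: `A` is of finite type (Artin–Tate). -/
theorem part1 : Algebra.FiniteType k ↥A := by
  have h3 := part3 R c hc A hA
  exact ⟨fg_of_fg_of_fg k ↥A (Fin s → Polynomial k) fg_top_pi h3.fg_top
    Subtype.val_injective⟩

end

end Groth.Agent.Lib.Helper64.CurveModel
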