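import Mathlib
import Groth.Prelude.Def_CycDet

/-!
# Determinant of a finite length module: `ℕ`-indexed sequence API

Helper library for the `CycDet` milestones.  Tuples are handled as sequences `ℕ → M`
(only the first `n` values matter), which makes the index bookkeeping tractable with `omega`.
-/

set_option autoImplicit false

namespace Groth.Agent.Lib.Helper64.CycDetA

open IsLocalRing CycDet

universe u v

variable {R : Type u} [CommRing R] [IsLocalRing R] {M : Type v} [AddCommGroup M] [Module R M]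

variable (R) in
/-- Span of the first `i` values of a sequence. -/
def sb (w : ℕ → M) (i : ℕ) : Submodule R M := Submodule.span R (w '' Set.Iio i)

lemma mem_sb {w : ℕ → M} {i j : ℕ} (h : j < i) : w j ∈ sb R w i :=
  Submodule.subset_span ⟨j, h, rfl⟩

lemma sb_le_iff {w : ℕ → M} {i : ℕ} {S : Submodule R M} :
    sb R w i ≤ S ↔ ∀ j < i, w j ∈ S := by
  rw [sb, Submodule.span_le]
  constructor
  · intro h j hj
    exact h ⟨j, hj, rfl⟩
  · rintro h _ ⟨j, hj, rfl⟩
    exact h j hj

lemma sb_mono {w : ℕ → M} {i i' : ℕ} (h : i ≤ i') : sb R w i ≤ sb R w i' :=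
  sb_le_iff.mpr fun _ hj => mem_sb (lt_of_lt_of_le hj h)

lemma sb_zero (w : ℕ → M) : sb R w 0 = ⊥ := by
  rw [eq_bot_iff, sb_le_iff]
  intro j hj
  exact absurd hj (Nat.not_lt_zero j)

lemma sb_succ (w : ℕ → M) (i : ℕ) :
    sb R w (i + 1) = sb R w i ⊔ Submodule.span R {w i} := by
  apply le_antisymm
  · rw [sb_le_iff]
    intro j hj
    rcases Nat.lt_succ_iff_lt_or_eq.mp hj with h | h
    · exact Submodule.mem_sup_left (mem_sb h)
    · rw [h]
      exact Submodule.mem_sup_right (Submodule.mem_span_singleton_self _)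
  · rw [sup_le_iff]
    exact ⟨sb_mono (Nat.le_succ i),
      (Submodule.span_singleton_le_iff_mem _ _).mpr (mem_sb (Nat.lt_succ_self i))⟩

lemma sb_congr {w w' : ℕ → M} {i : ℕ} (h : ∀ j < i, w j = w' j) : sb R w i = sb R w' i := by
  apply le_antisymm <;> rw [sb_le_iff] <;> intro j hj
  · rw [h j hj]; exact mem_sb hj
  · rw [← h j hj]; exact mem_sb hj

lemma map_sb {M' : Type*} [AddCommGroup M'] [Module R M'] (f : M →ₗ[R] M') (w : ℕ → M)
    (i : ℕ) : (sb R w i).map f = sb R (f ∘ w) i := by
  rw [sb, sb, Submodule.map_span, ← Set.image_comp]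

lemma mem_sb_succ_iff {w : ℕ → M} {i : ℕ} {y : M} :
    y ∈ sb R w (i + 1) ↔ ∃ r : R, y - r • w i ∈ sb R w i := by
  rw [sb_succ, Submodule.mem_sup]
  constructor
  · rintro ⟨a, ha, b, hb, rfl⟩
    obtain ⟨r, rfl⟩ := Submodule.mem_span_singleton.mp hb
    exact ⟨r, by rwa [add_sub_cancel_right]⟩
  · rintro ⟨r, hr⟩
    exact ⟨_, hr, r • w i, Submodule.mem_span_singleton.mpr ⟨r, rfl⟩, sub_add_cancel _ _⟩

variable (R) in
/-- Admissibility of the first `n` values of a sequence. -/
def AdmN (n : ℕ) (w : ℕ → M) : Prop :=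
  ∀ i < n, ∀ r ∈ maximalIdeal R, r • w i ∈ sb R w i

lemma adm_unit {n : ℕ} {w : ℕ → M} (hw : AdmN R n w) {i : ℕ} (hi : i < n) {y : M}
    (hy : y ∈ sb R w (i + 1)) (hy' : y ∉ sb R w i) :
    ∃ c : Rˣ, y - (c : R) • w i ∈ sb R w i := by
  obtain ⟨r, hr⟩ := mem_sb_succ_iff.mp hy
  have hru : IsUnit r := by
    rw [← notMem_maximalIdeal]
    intro hrm
    apply hy'
    have := (sb R w i).add_mem hr (hw i hi r hrm)
    rwa [sub_add_cancel] at this
  exact ⟨hru.unit, by rwa [IsUnit.unit_spec]⟩

lemma res_ne_zero (c : Rˣ) : residue R (c : R) ≠ 0 :=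
  (c.isUnit.map (residue R)).ne_zero

/-- Extension by zero of a tuple to a sequence. -/
def ext0 {n : ℕ} (e : Fin n → M) : ℕ → M := fun i => if h : i < n then e ⟨i, h⟩ else 0

/-- Restriction of a sequence to a tuple. -/
def restr (n : ℕ) (w : ℕ → M) : Fin n → M := fun i => w i

lemma ext0_lt {n : ℕ} (e : Fin n → M) {i : ℕ} (h : i < n) : ext0 e i = e ⟨i, h⟩ := by
  unfold ext0; rw [dif_pos h]

lemma ext0_fin {n : ℕ} (e : Fin n → M) (a : Fin n) : ext0 e a.val = e a := by
  rw [ext0_lt e a.isLt]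

lemma restr_ext0 {n : ℕ} (e : Fin n → M) : restr n (ext0 e) = e := by
  funext i; exact ext0_fin e i

lemma ext0_restr {n : ℕ} (w : ℕ → M) {i : ℕ} (h : i < n) : ext0 (restr n w) i = w i := by
  rw [ext0_lt _ h]; rfl

lemma spanBefore_restr (w : ℕ → M) {n i : ℕ} (h : i ≤ n) :
    spanBefore R M (restr n w) i = sb R w i := by
  unfold spanBefore sb
  congr 1
  ext y
  constructor
  · rintro ⟨j, hj, rfl⟩
    exact ⟨j.val, hj, rfl⟩
  · rintro ⟨j, hj, rfl⟩
    exact ⟨⟨j, lt_of_lt_of_le hj h⟩, hj, rfl⟩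

lemma spanBefore_eq_sb {n : ℕ} (e : Fin n → M) {i : ℕ} (h : i ≤ n) :
    spanBefore R M e i = sb R (ext0 e) i := by
  have := spanBefore_restr (R := R) (ext0 e) h
  rwa [restr_ext0] at this

lemma sb_ext0_top {n : ℕ} (e : Fin n → M) : sb R (ext0 e) n = Submodule.span R (Set.range e) := by
  apply le_antisymm
  · rw [sb_le_iff]
    intro j hj
    rw [ext0_lt e hj]
    exact Submodule.subset_span ⟨_, rfl⟩
  · rw [Submodule.span_le]
    rintro _ ⟨i, rfl⟩
    rw [← ext0_fin e i]
    exact mem_sb i.isLt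

lemma isAdmissible_restr_iff {n : ℕ} {w : ℕ → M} :
    IsAdmissible R M (restr n w) ↔ AdmN R n w := by
  constructor
  · intro h i hi r hr
    have h1 : r • w i ∈ spanBefore R M (restr n w) i := h ⟨i, hi⟩ r hr
    rwa [spanBefore_restr w hi.le] at h1
  · intro h i r hr
    rw [spanBefore_restr w i.isLt.le]
    exact h i i.isLt r hr

variable (R) in
/-- Class of the first `n` values of a sequence in the symbol space (zero if not admissible). -/
noncomputable def symN (n : ℕ) (w : ℕ → M) : DetOfLen R M n :=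
  open Classical in
  if h : IsAdmissible R M (restr n w) then Submodule.Quotient.mk (sym R M ⟨restr n w, h⟩) else 0

lemma symN_of_adm {n : ℕ} {w : ℕ → M} (h : AdmN R n w) :
    symN R n w =
      Submodule.Quotient.mk (sym R M ⟨restr n w, isAdmissible_restr_iff.mpr h⟩) := by
  unfold symN
  rw [dif_pos (isAdmissible_restr_iff.mpr h)]

lemma symN_congr {n : ℕ} {w w' : ℕ → M} (h : ∀ i < n, w i = w' i) :
    symN R n w = symN R n w' := by
  have hr : restr n w = restr n w' := funext fun i => h i i.isLt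
  unfold symN
  rw [hr]

lemma admN_ext0 {n : ℕ} (e : Adm R M n) : AdmN R n (ext0 e.1) := by
  apply isAdmissible_restr_iff.mp
  rw [restr_ext0]
  exact e.2

lemma symN_ext0 {n : ℕ} (e : Adm R M n) :
    symN R n (ext0 e.1) = Submodule.Quotient.mk (sym R M e) := by
  rw [symN_of_adm (admN_ext0 e)]
  have : (⟨restr n (ext0 e.1), isAdmissible_restr_iff.mpr (admN_ext0 e)⟩ : Adm R M n) = e :=
    Subtype.ext (restr_ext0 e.1)
  rw [this]

/-- Relation (a) in sequence form. -/
lemma relA {n : ℕ} {w : ℕ → M} (hw : AdmN R n w) {a : ℕ} (ha : a < n)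
    (h : w a ∈ sb R w a) : symN R n w = 0 := by
  rw [symN_of_adm hw, Submodule.Quotient.mk_eq_zero]
  apply Submodule.subset_span
  refine Or.inl (Or.inl ⟨⟨restr n w, isAdmissible_restr_iff.mpr hw⟩, ⟨a, ha⟩, ?_, rfl⟩)
  show w a ∈ spanBefore R M (restr n w) a
  rw [spanBefore_restr w ha.le]
  exact h

/-- Relation (b) in sequence form. -/
lemma relB {n : ℕ} {w w' : ℕ → M} (hw : AdmN R n w) (hw' : AdmN R n w') {a : ℕ} (ha : a < n)
    (c : Rˣ) (hne : ∀ j < n, j ≠ a → w j = w' j) (h : w a - (c : R) • w' a ∈ sb R w a) :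
    symN R n w = residue R (c : R) • symN R n w' := by
  rw [symN_of_adm hw, symN_of_adm hw', ← Submodule.Quotient.mk_smul, ← sub_eq_zero,
    ← Submodule.Quotient.mk_sub, Submodule.Quotient.mk_eq_zero]
  apply Submodule.subset_span
  refine Or.inl (Or.inr ⟨⟨restr n w, isAdmissible_restr_iff.mpr hw⟩,
    ⟨restr n w', isAdmissible_restr_iff.mpr hw'⟩, ⟨a, ha⟩, c, ?_, ?_, rfl⟩)
  · intro j hj
    exact hne j j.isLt (fun h => hj (Fin.ext h))
  · show w a - (c : R) • w' a ∈ spanBefore R M (restr n w) a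
    rw [spanBefore_restr w ha.le]
    exact h

/-- The transposition of `b` and `b + 1` on `ℕ`. -/
def sw (b j : ℕ) : ℕ := if j = b + 1 then b else if j = b then b + 1 else j

lemma sw_sw (b j : ℕ) : sw b (sw b j) = j := by
  unfold sw
  split_ifs <;> omega

lemma sw_lt {b j n : ℕ} (hb : b + 1 < n) (hj : j < n) : sw b j < n := by
  unfold sw
  split_ifs <;> omega

/-- Relation (c) in sequence form. -/
lemma relC {n : ℕ} {w w' : ℕ → M} (hw : AdmN R n w) (hw' : AdmN R n w') {b : ℕ}
    (hb : b + 1 < n) (hm : ∀ r ∈ maximalIdeal R, r • w (b + 1) ∈ sb R w b)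
    (hsw : ∀ j < n, w' j = w (sw b j)) :
    symN R n w + symN R n w' = 0 := by
  have hb' : b < n := by omega
  rw [symN_of_adm hw, symN_of_adm hw', ← Submodule.Quotient.mk_add,
    Submodule.Quotient.mk_eq_zero]
  apply Submodule.subset_span
  refine Or.inr ⟨⟨restr n w, isAdmissible_restr_iff.mpr hw⟩,
    ⟨restr n w', isAdmissible_restr_iff.mpr hw'⟩, ⟨b + 1, hb⟩, ⟨b, hb'⟩, rfl, ?_, ?_, rfl⟩
  · intro r hr
    show r • w (b + 1) ∈ spanBefore R M (restr n w) b
    rw [spanBefore_restr w hb'.le]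
    exact hm r hr
  · funext j
    show w' j = w ((Equiv.swap (⟨b + 1, hb⟩ : Fin n) ⟨b, hb'⟩ j : Fin n) : ℕ)
    rw [hsw j j.isLt]
    congr 1
    rw [Equiv.swap_apply_def]
    unfold sw
    by_cases h1 : j = ⟨b + 1, hb⟩
    · rw [if_pos h1, if_pos (congrArg Fin.val h1)]
    · have h1' : ¬ (j : ℕ) = b + 1 := fun h => h1 (Fin.ext h)
      rw [if_neg h1, if_neg h1']
      by_cases h2 : j = ⟨b, hb'⟩
      · rw [if_pos h2, if_pos (congrArg Fin.val h2)]
      · have h2' : ¬ (j : ℕ) = b := fun h => h2 (Fin.ext h)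
        rw [if_neg h2, if_neg h2']

/-- A function on sequences satisfying the three relations descends to the symbol space. -/
theorem lift_kills {n : ℕ} {V : Type*} [AddCommGroup V] [Module (ResidueField R) V]
    (g : (ℕ → M) → V)
    (hA : ∀ w, AdmN R n w → ∀ a < n, w a ∈ sb R w a → g w = 0)
    (hB : ∀ w w', AdmN R n w → AdmN R n w' → ∀ a < n, ∀ c : Rˣ,
      (∀ j < n, j ≠ a → w j = w' j) → w a - (c : R) • w' a ∈ sb R w a →
      g w = residue R (c : R) • g w')
    (hC : ∀ w w', AdmN R n w → AdmN R n w' → ∀ b, b + 1 < n →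
      (∀ r ∈ maximalIdeal R, r • w (b + 1) ∈ sb R w b) →
      (∀ j < n, w' j = w (sw b j)) → g w + g w' = 0) :
    ∃ F : DetOfLen R M n →ₗ[ResidueField R] V,
      ∀ e : Adm R M n, F (Submodule.Quotient.mk (sym R M e)) = g (ext0 e.1) := by
  classical
  let F0 : Free R M n →ₗ[ResidueField R] V :=
    Finsupp.linearCombination (ResidueField R) (fun e : Adm R M n => g (ext0 e.1))
  have hF0 : ∀ e, F0 (sym R M e) = g (ext0 e.1) := by
    intro e
    show Finsupp.linearCombination _ _ (Finsupp.single e 1) = _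
    rw [Finsupp.linearCombination_single, one_smul]
  have hk : Submodule.span (ResidueField R) (relSet R M n) ≤ LinearMap.ker F0 := by
    rw [Submodule.span_le]
    rintro x ((⟨e, a, h, rfl⟩ | ⟨e, e', a, c, hne, h, rfl⟩) | ⟨e, e', a, b, hab, hm, hsw, rfl⟩)
    · rw [SetLike.mem_coe, LinearMap.mem_ker, hF0]
      refine hA _ (admN_ext0 e) a a.isLt ?_
      rw [ext0_fin, ← spanBefore_eq_sb _ a.isLt.le]
      exact h
    · rw [SetLike.mem_coe, LinearMap.mem_ker, map_sub, map_smul, hF0, hF0, sub_eq_zero]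
      refine hB _ _ (admN_ext0 e) (admN_ext0 e') a a.isLt c ?_ ?_
      · intro j hj hja
        rw [ext0_lt _ hj, ext0_lt _ hj]
        exact hne ⟨j, hj⟩ (fun h => hja (congrArg Fin.val h))
      · rw [ext0_fin, ext0_fin, ← spanBefore_eq_sb _ a.isLt.le]
        exact h
    · rw [SetLike.mem_coe, LinearMap.mem_ker, map_add, hF0, hF0]
      have hbn : (b : ℕ) + 1 < n := by rw [hab]; exact a.isLt
      refine hC _ _ (admN_ext0 e) (admN_ext0 e') b hbn ?_ ?_
      · intro r hr
        have h1 := hm r hr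
        rw [spanBefore_eq_sb _ b.isLt.le] at h1
        have e1 : ext0 e.1 ((b : ℕ) + 1) = e.1 a := by rw [hab, ext0_fin]
        rw [e1]
        exact h1
      · intro j hj
        rw [ext0_lt _ hj, hsw]
        show e.1 (Equiv.swap a b ⟨j, hj⟩) = _
        by_cases h1 : j = (b : ℕ) + 1
        · have h3 : (⟨j, hj⟩ : Fin n) = a := Fin.ext (show j = (a : ℕ) by omega)
          have h4 : sw b j = b := by unfold sw; split_ifs <;> omega
          rw [h3, Equiv.swap_apply_left, h4, ext0_fin]
        · by_cases h2 : j = (b : ℕ)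
          · have h3 : (⟨j, hj⟩ : Fin n) = b := Fin.ext h2
            have h4 : sw b j = a := by unfold sw; split_ifs <;> omega
            rw [h3, Equiv.swap_apply_right, h4, ext0_fin]
          · have ha' : (⟨j, hj⟩ : Fin n) ≠ a := fun h => h1 (by
              have := congrArg Fin.val h
              simp only at this
              omega)
            have hb' : (⟨j, hj⟩ : Fin n) ≠ b := fun h => h2 (congrArg Fin.val h)
            have h4 : sw b j = j := by unfold sw; split_ifs <;> omega
            rw [Equiv.swap_apply_of_ne_of_ne ha' hb', h4, ext0_lt _ hj]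
  exact ⟨Submodule.liftQ _ F0 hk, fun e => by rw [Submodule.liftQ_apply, hF0]⟩

/-! ### Unitriangular changes -/

lemma sb_eq_of_unitri {n : ℕ} {w w' : ℕ → M}
    (h : ∀ j < n, ∃ c : Rˣ, w' j - (c : R) • w j ∈ sb R w j) :
    ∀ i ≤ n, sb R w' i = sb R w i := by
  intro i
  induction i with
  | zero => intro _; rw [sb_zero, sb_zero]
  | succ i ih =>
    intro hi
    have hi' : i < n := hi
    obtain ⟨c, hc⟩ := h i hi'
    rw [sb_succ, sb_succ, ih hi'.le]
    apply le_antisymm
    · rw [sup_le_iff]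
      refine ⟨le_sup_left, ?_⟩
      rw [Submodule.span_singleton_le_iff_mem]
      have hcw : (c : R) • w i ∈ sb R w i ⊔ Submodule.span R {w i} :=
        Submodule.mem_sup_right (Submodule.smul_mem _ _ (Submodule.mem_span_singleton_self _))
      exact (Submodule.sub_mem_iff_left _ hcw).mp (Submodule.mem_sup_left hc)
    · rw [sup_le_iff]
      refine ⟨le_sup_left, ?_⟩
      rw [Submodule.span_singleton_le_iff_mem]
      have hw'i : w' i ∈ sb R w i ⊔ Submodule.span R {w' i} :=
        Submodule.mem_sup_right (Submodule.mem_span_singleton_self _)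
      have hcw : (c : R) • w i ∈ sb R w i ⊔ Submodule.span R {w' i} :=
        (Submodule.sub_mem_iff_right _ hw'i).mp (Submodule.mem_sup_left hc)
      have := Submodule.smul_mem _ ((c⁻¹ : Rˣ) : R) hcw
      rwa [smul_smul, Units.inv_mul, one_smul] at this

lemma admN_of_unitri {n : ℕ} {w w' : ℕ → M} (hw : AdmN R n w)
    (h : ∀ j < n, ∃ c : Rˣ, w' j - (c : R) • w j ∈ sb R w j) : AdmN R n w' := by
  intro i hi r hr
  obtain ⟨c, hc⟩ := h i hi
  rw [sb_eq_of_unitri h i hi.le]
  have h1 : r • (w' i - (c : R) • w i) ∈ sb R w i := Submodule.smul_mem _ _ hc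
  have h2 : (r * c) • w i ∈ sb R w i := hw i hi _ (Ideal.mul_mem_right _ _ hr)
  have e : r • w' i = r • (w' i - (c : R) • w i) + (r * c) • w i := by
    rw [smul_sub, mul_smul]; abel
  rw [e]
  exact Submodule.add_mem _ h1 h2

lemma symN_unitri {n : ℕ} {w w' : ℕ → M} (hw : AdmN R n w)
    (h : ∀ j < n, w' j - w j ∈ sb R w j) : symN R n w' = symN R n w := by
  classical
  let H : ℕ → ℕ → M := fun k j => if j < k then w' j else w j
  have hH : ∀ k, ∀ j < n, ∃ c : Rˣ, H k j - (c : R) • w j ∈ sb R w j := by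
    intro k j hj
    refine ⟨1, ?_⟩
    rw [Units.val_one, one_smul]
    by_cases hjk : j < k
    · have : H k j = w' j := by simp only [H, if_pos hjk]
      rw [this]; exact h j hj
    · have : H k j = w j := by simp only [H, if_neg hjk]
      rw [this, sub_self]; exact Submodule.zero_mem _
  have key : ∀ k ≤ n, symN R n (H k) = symN R n w := by
    intro k
    induction k with
    | zero =>
      intro _
      exact symN_congr (fun i _ => by simp only [H, if_neg (Nat.not_lt_zero i)])
    | succ k ih =>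
      intro hk
      have hk' : k < n := hk
      rw [← ih hk'.le]
      have e1 : ∀ j < n, j ≠ k → H (k + 1) j = H k j := by
        intro j _ hjk
        by_cases hj : j < k
        · have hj' : j < k + 1 := by omega
          simp only [H, if_pos hj, if_pos hj']
        · have hj' : ¬ j < k + 1 := by omega
          simp only [H, if_neg hj, if_neg hj']
      have e2 : H (k + 1) k - ((1 : Rˣ) : R) • H k k ∈ sb R (H (k + 1)) k := by
        rw [sb_eq_of_unitri (hH (k + 1)) k hk'.le]
        have a1 : H (k + 1) k = w' k := by simp only [H, if_pos (Nat.lt_succ_self k)]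
        have a2 : H k k = w k := by simp only [H, if_neg (Nat.lt_irrefl k)]
        rw [a1, a2, Units.val_one, one_smul]
        exact h k hk'
      have := relB (admN_of_unitri hw (hH (k + 1))) (admN_of_unitri hw (hH k)) hk' 1 e1 e2
      rw [this, Units.val_one, map_one, one_smul]
  rw [← key n le_rfl]
  exact symN_congr (fun i hi => by simp only [H, if_pos hi])

/-! ### Insertion, deletion and moving a socle element -/

/-- Insert `x` at position `p`. -/
def ins (p : ℕ) (x : M) (v : ℕ → M) : ℕ → M :=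
  fun q => if q < p then v q else if q = p then x else v (q - 1)

/-- Delete position `a`. -/
def del (a : ℕ) (w : ℕ → M) : ℕ → M := fun q => if q < a then w q else w (q + 1)

lemma ins_zero_zero (x : M) (v : ℕ → M) : ins 0 x v 0 = x := by
  simp [ins]

lemma ins_zero_succ (x : M) (v : ℕ → M) (i : ℕ) : ins 0 x v (i + 1) = v i := by
  simp [ins]

lemma ins_self (p : ℕ) (x : M) (v : ℕ → M) : ins p x v p = x := by
  simp [ins]

lemma ins_del_of_ne (a : ℕ) (x : M) (w : ℕ → M) {j : ℕ} (hj : j ≠ a) :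
    ins a x (del a w) j = w j := by
  unfold ins del
  by_cases h1 : j < a
  · rw [if_pos h1, if_pos h1]
  · have h3 : ¬ (j - 1 < a) := by omega
    have h4 : j - 1 + 1 = j := by omega
    rw [if_neg h1, if_neg hj, if_neg h3, h4]

lemma x_mem_sb_ins (x : M) (v : ℕ → M) (i : ℕ) : x ∈ sb R (ins 0 x v) (i + 1) := by
  have h := mem_sb (R := R) (w := ins 0 x v) (Nat.succ_pos i)
  rwa [ins_zero_zero] at h

lemma sb_swap {n : ℕ} {w w' : ℕ → M} {b : ℕ} (hb : b + 1 < n)
    (hsw : ∀ j < n, w' j = w (sw b j)) {i : ℕ} (hi : i ≤ n) (hib : i ≠ b + 1) :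
    sb R w' i = sb R w i := by
  have hlt : ∀ j < i, sw b j < i := by
    intro j hj
    unfold sw
    split_ifs <;> omega
  apply le_antisymm <;> rw [sb_le_iff] <;> intro j hj
  · rw [hsw j (lt_of_lt_of_le hj hi)]
    exact mem_sb (hlt j hj)
  · have h1 : sw b j < i := hlt j hj
    have h2 := hsw (sw b j) (lt_of_lt_of_le h1 hi)
    rw [sw_sw] at h2
    rw [← h2]
    exact mem_sb h1

lemma admN_swap {n : ℕ} {w w' : ℕ → M} (hw : AdmN R n w) {b : ℕ} (hb : b + 1 < n)
    (hm : ∀ r ∈ maximalIdeal R, r • w (b + 1) ∈ sb R w b)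
    (hsw : ∀ j < n, w' j = w (sw b j)) : AdmN R n w' := by
  intro i hi r hr
  by_cases h1 : i = b + 1
  · have e : w' i = w b := by
      rw [hsw _ hi]; congr 1; unfold sw; split_ifs <;> omega
    rw [e, h1]
    have h3 : r • w b ∈ sb R w' b := by
      rw [sb_swap (i := b) hb hsw (by omega) (by omega)]
      exact hw b (by omega) r hr
    exact sb_mono (Nat.le_succ b) h3
  · by_cases h2 : i = b
    · have e : w' i = w (b + 1) := by
        rw [hsw _ hi]; congr 1; unfold sw; split_ifs <;> omega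
      rw [e, sb_swap hb hsw hi.le h1, h2]
      exact hm r hr
    · have e : w' i = w i := by
        rw [hsw _ hi]; congr 1; unfold sw; split_ifs <;> omega
      rw [e, sb_swap hb hsw hi.le h1]
      exact hw i hi r hr

lemma ins_swap (p : ℕ) (x : M) (v : ℕ → M) (j : ℕ) :
    ins p x v j = ins (p + 1) x v (sw p j) := by
  unfold ins sw
  split_ifs <;> first | rfl | (exfalso; omega) | (congr 1; omega)

lemma move_step {n p : ℕ} {x : M} {v : ℕ → M} (hx : ∀ r ∈ maximalIdeal R, r • x = 0)
    (hp : p + 1 < n) (h : AdmN R n (ins (p + 1) x v)) :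
    AdmN R n (ins p x v) ∧ symN R n (ins (p + 1) x v) + symN R n (ins p x v) = 0 := by
  have hm : ∀ r ∈ maximalIdeal R,
      r • (ins (p + 1) x v) (p + 1) ∈ sb R (ins (p + 1) x v) p := by
    intro r hr
    rw [ins_self, hx r hr]
    exact Submodule.zero_mem _
  have hsw : ∀ j < n, ins p x v j = ins (p + 1) x v (sw p j) := fun j _ => ins_swap p x v j
  have h' := admN_swap h hp hm hsw
  exact ⟨h', relC h h' hp hm hsw⟩

lemma move {n : ℕ} {x : M} {v : ℕ → M} (hx : ∀ r ∈ maximalIdeal R, r • x = 0) :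
    ∀ p, p < n → AdmN R n (ins p x v) →
      AdmN R n (ins 0 x v) ∧
        symN R n (ins p x v) = (-1 : ResidueField R) ^ p • symN R n (ins 0 x v) := by
  intro p
  induction p with
  | zero =>
    intro _ h
    exact ⟨h, by rw [pow_zero, one_smul]⟩
  | succ p ih =>
    intro hp h
    obtain ⟨h1, h2⟩ := move_step hx hp h
    obtain ⟨h3, h4⟩ := ih (by omega) h1
    refine ⟨h3, ?_⟩
    rw [eq_neg_of_add_eq_zero_left h2, h4, pow_succ, mul_neg_one, neg_smul]

lemma replace_step {n : ℕ} {w : ℕ → M} (hw : AdmN R n w) {a : ℕ} (ha : a < n) {x : M}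
    (c : Rˣ) (hc : x - (c : R) • w a ∈ sb R w a) :
    AdmN R n (ins a x (del a w)) ∧
      symN R n (ins a x (del a w)) = residue R (c : R) • symN R n w := by
  have hU : ∀ j < n, ∃ c' : Rˣ, ins a x (del a w) j - (c' : R) • w j ∈ sb R w j := by
    intro j _
    by_cases hja : j = a
    · refine ⟨c, ?_⟩
      rw [hja, ins_self]
      exact hc
    · refine ⟨1, ?_⟩
      rw [ins_del_of_ne a x w hja, Units.val_one, one_smul, sub_self]
      exact Submodule.zero_mem _
  have hadm := admN_of_unitri hw hU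
  refine ⟨hadm, relB hadm hw ha c (fun j _ hj => ins_del_of_ne a x w hj) ?_⟩
  rw [ins_self, sb_eq_of_unitri hU a ha.le]
  exact hc

lemma exists_first {w : ℕ → M} {x : M} (hx0 : x ≠ 0) {n : ℕ} (h : x ∈ sb R w n) :
    ∃ a, a < n ∧ x ∈ sb R w (a + 1) ∧ x ∉ sb R w a := by
  classical
  have hex : ∃ i, x ∈ sb R w i := ⟨n, h⟩
  obtain ⟨i, hi, hmin⟩ : ∃ i, x ∈ sb R w i ∧ ∀ m < i, x ∉ sb R w m :=
    ⟨Nat.find hex, Nat.find_spec hex, fun m hm => Nat.find_min hex hm⟩
  have hle : i ≤ n := by
    by_contra hlt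
    exact hmin n (by omega) h
  cases i with
  | zero =>
    rw [sb_zero] at hi
    exact absurd ((Submodule.mem_bot R).mp hi) hx0
  | succ a => exact ⟨a, by omega, hi, hmin a (Nat.lt_succ_self a)⟩

/-! ### Length arguments -/

lemma exists_dep {n : ℕ} (hlen : Module.length R M = n) {w : ℕ → M}
    (hne : sb R w n ≠ ⊤) : ∃ a < n, w a ∈ sb R w a := by
  by_contra hcon
  push_neg at hcon
  have hfl : IsFiniteLength R M :=
    Module.length_ne_top_iff.mp (by rw [hlen]; exact ENat.coe_ne_top n)
  obtain ⟨_, _⟩ := isFiniteLength_iff_isNoetherian_isArtinian.mp hfl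
  have key : ∀ i ≤ n, (i : ℕ∞) ≤ Order.height (sb R w i) := by
    intro i
    induction i with
    | zero => intro _; simp
    | succ i ih =>
      intro hi
      have hi' : i < n := hi
      have hlt : sb R w i < sb R w (i + 1) := by
        refine lt_of_le_of_ne (sb_mono (Nat.le_succ i)) (fun heq => hcon i hi' ?_)
        rw [heq]
        exact mem_sb (Nat.lt_succ_self i)
      have h3 := Submodule.height_strictMono hlt
      calc ((i + 1 : ℕ) : ℕ∞) = (i : ℕ∞) + 1 := Nat.cast_succ i
        _ ≤ Order.height (sb R w i) + 1 := by gcongr; exact ih hi'.le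
        _ ≤ Order.height (sb R w (i + 1)) := Order.add_one_le_of_lt h3
  have h1 := key n le_rfl
  have h2 : Order.height (sb R w n) < Order.height (⊤ : Submodule R M) :=
    Submodule.height_strictMono (lt_top_iff_ne_top.mpr hne)
  rw [← Module.length_eq_height, hlen] at h2
  exact absurd h1 (not_le.mpr h2)

lemma exists_socle (hfl : IsFiniteLength R M) [Nontrivial M] :
    ∃ x : M, x ≠ 0 ∧ (∀ r ∈ maximalIdeal R, r • x = 0) ∧
      Module.length R (Submodule.span R ({x} : Set M)) = 1 := by
  obtain ⟨_, hA⟩ := isFiniteLength_iff_isNoetherian_isArtinian.mp hfl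
  haveI : IsAtomic (Submodule R M) := isAtomic_of_orderBot_wellFounded_lt wellFounded_lt
  obtain ⟨S, hS⟩ := IsAtomic.exists_atom (Submodule R M)
  obtain ⟨x, hxS, hx0⟩ := S.exists_mem_ne_zero_of_ne_bot hS.1
  have hspan : Submodule.span R ({x} : Set M) = S := by
    have hle : Submodule.span R ({x} : Set M) ≤ S :=
      (Submodule.span_singleton_le_iff_mem _ _).mpr hxS
    rcases hS.le_iff.mp hle with h | h
    · exact absurd (Submodule.span_singleton_eq_bot.mp h) hx0
    · exact h
  refine ⟨x, hx0, ?_, ?_⟩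
  · intro r hr
    by_contra hrx
    have hle : Submodule.span R ({r • x} : Set M) ≤ S :=
      (Submodule.span_singleton_le_iff_mem _ _).mpr (S.smul_mem r hxS)
    rcases hS.le_iff.mp hle with h | h
    · exact hrx (Submodule.span_singleton_eq_bot.mp h)
    · have hx' : x ∈ Submodule.span R ({r • x} : Set M) := by rw [h]; exact hxS
      obtain ⟨s, hs⟩ := Submodule.mem_span_singleton.mp hx'
      have hu : IsUnit (1 - s * r) := by
        have hsr : s * r ∈ maximalIdeal R := Ideal.mul_mem_left _ _ hr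
        exact IsLocalRing.isUnit_one_sub_self_of_mem_nonunits _ ((mem_maximalIdeal _).mp hsr)
      have h0 : (1 - s * r) • x = 0 := by
        rw [sub_smul, one_smul, mul_smul, hs, sub_self]
      exact hx0 (hu.smul_eq_zero.mp h0)
  · rw [hspan]
    exact Module.length_eq_one_iff.mpr (isSimpleModule_iff_isAtom.mpr hS)

lemma length_quot {l : ℕ} (hlen : Module.length R M = ((l + 1 : ℕ) : ℕ∞)) {x : M}
    (h1 : Module.length R (Submodule.span R ({x} : Set M)) = 1) :
    Module.length R (M ⧸ Submodule.span R ({x} : Set M)) = (l : ℕ∞) := by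
  have h := Module.length_eq_add_of_exact (Submodule.span R ({x} : Set M)).subtype
    (Submodule.span R ({x} : Set M)).mkQ
    (Submodule.subtype_injective _) (Submodule.mkQ_surjective _) (LinearMap.exact_subtype_mkQ _)
  rw [hlen, h1] at h
  have hne : Module.length R (M ⧸ Submodule.span R ({x} : Set M)) ≠ ⊤ := by
    intro h'
    rw [h'] at h
    simp at h
  obtain ⟨k, hk⟩ := ENat.ne_top_iff_exists.mp hne
  rw [← hk] at h ⊢
  norm_cast at h ⊢
  omega

end Groth.Agent.Lib.Helper64.CycDetA
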