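import Mathlib
import Groth.Prelude.Def_CycDet
import Groth.Agent.Lib.Helper64.CycDetA

/-!
# Determinant of a finite length module: the map `Ψ` and the rank bound
-/

set_option autoImplicit false

namespace Groth.Agent.Lib.Helper64.CycDetB

open IsLocalRing CycDet Groth.Agent.Lib.Helper64.CycDetA

universe u v

section Quot

variable {R : Type u} [CommRing R] [IsLocalRing R] {M : Type v} [AddCommGroup M] [Module R M]

variable (R) in
/-- The quotient map `M → M / Rx`. -/
abbrev mkx (x : M) : M →ₗ[R] M ⧸ Submodule.span R ({x} : Set M) :=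
  (Submodule.span R ({x} : Set M)).mkQ

lemma mkx_self (x : M) : mkx R x x = 0 := by
  show Submodule.Quotient.mk x = 0
  exact (Submodule.Quotient.mk_eq_zero _).mpr (Submodule.mem_span_singleton_self x)

lemma mkx_eq_zero {x y : M} : mkx R x y = 0 ↔ y ∈ Submodule.span R ({x} : Set M) :=
  Submodule.Quotient.mk_eq_zero _

lemma mkx_eq {x y z : M} : mkx R x y = mkx R x z ↔ y - z ∈ Submodule.span R ({x} : Set M) :=
  Submodule.Quotient.eq _

variable (R) in
/-- A set-theoretic section of the quotient map. -/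
noncomputable def sec (x : M) (y : M ⧸ Submodule.span R ({x} : Set M)) : M :=
  Classical.choose (Submodule.mkQ_surjective (Submodule.span R ({x} : Set M)) y)

lemma mk_sec (x : M) (y : M ⧸ Submodule.span R ({x} : Set M)) : mkx R x (sec R x y) = y :=
  Classical.choose_spec (Submodule.mkQ_surjective (Submodule.span R ({x} : Set M)) y)

variable (R) in
/-- Lift of a sequence in the quotient, with `x` put in front. -/
noncomputable def lft (x : M) (u : ℕ → M ⧸ Submodule.span R ({x} : Set M)) : ℕ → M :=
  ins 0 x (fun i => sec R x (u i))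

lemma lft_zero (x : M) (u : ℕ → M ⧸ Submodule.span R ({x} : Set M)) : lft R x u 0 = x :=
  ins_zero_zero _ _

lemma lft_succ (x : M) (u : ℕ → M ⧸ Submodule.span R ({x} : Set M)) (i : ℕ) :
    lft R x u (i + 1) = sec R x (u i) :=
  ins_zero_succ _ _ _

lemma lift_mem {x : M} {u : ℕ → M ⧸ Submodule.span R ({x} : Set M)} {j : ℕ} {y : M}
    (hy : mkx R x y ∈ sb R u j) : y ∈ sb R (lft R x u) (j + 1) := by
  have h0 : x ∈ sb R (lft R x u) (j + 1) := x_mem_sb_ins x _ j
  have hle : sb R u j ≤ (sb R (lft R x u) (j + 1)).map (mkx R x) := by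
    rw [sb_le_iff]
    intro i hi
    refine ⟨lft R x u (i + 1), mem_sb (Nat.succ_lt_succ hi), ?_⟩
    rw [lft_succ]
    exact mk_sec _ _
  obtain ⟨z, hz, hzy⟩ := hle hy
  have h1 : z - y ∈ Submodule.span R ({x} : Set M) := mkx_eq.mp hzy
  have h2 : z - y ∈ sb R (lft R x u) (j + 1) :=
    (Submodule.span_singleton_le_iff_mem _ _).mpr h0 h1
  have h3 := Submodule.sub_mem _ hz h2
  rwa [sub_sub_cancel] at h3

lemma adm_lft {l : ℕ} {x : M} (hx : ∀ r ∈ maximalIdeal R, r • x = 0)
    {u : ℕ → M ⧸ Submodule.span R ({x} : Set M)} (hu : AdmN R l u) :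
    AdmN R (l + 1) (lft R x u) := by
  intro i hi r hr
  cases i with
  | zero =>
    rw [lft_zero, hx r hr]
    exact Submodule.zero_mem _
  | succ j =>
    rw [lft_succ]
    apply lift_mem
    rw [map_smul, mk_sec]
    exact hu j (by omega) r hr

theorem exists_Psi {l : ℕ} {x : M} (hx : ∀ r ∈ maximalIdeal R, r • x = 0) :
    ∃ Ψ : DetOfLen R (M ⧸ Submodule.span R ({x} : Set M)) l →ₗ[ResidueField R]
        DetOfLen R M (l + 1),
      ∀ e : Adm R (M ⧸ Submodule.span R ({x} : Set M)) l,
        Ψ (Submodule.Quotient.mk (sym R _ e)) = symN R (l + 1) (lft R x (ext0 e.1)) := by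
  refine lift_kills (fun u => symN R (l + 1) (lft R x u)) ?_ ?_ ?_
  · intro u hu a ha h
    refine relA (adm_lft hx hu) (a := a + 1) (by omega) ?_
    rw [lft_succ]
    apply lift_mem
    rw [mk_sec]
    exact h
  · intro u u' hu hu' a ha c hne h
    refine relB (adm_lft hx hu) (adm_lft hx hu') (a := a + 1) (by omega) c ?_ ?_
    · intro j hj hja
      cases j with
      | zero => rw [lft_zero, lft_zero]
      | succ i => rw [lft_succ, lft_succ, hne i (by omega) (by omega)]
    · rw [lft_succ, lft_succ]
      apply lift_mem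
      rw [map_sub, map_smul, mk_sec, mk_sec]
      exact h
  · intro u u' hu hu' b hb hm hsw
    refine relC (adm_lft hx hu) (adm_lft hx hu') (b := b + 1) (by omega) ?_ ?_
    · intro r hr
      rw [lft_succ]
      apply lift_mem
      rw [map_smul, mk_sec]
      exact hm r hr
    · intro j hj
      cases j with
      | zero =>
        have h0 : sw (b + 1) 0 = 0 := by unfold sw; split_ifs <;> omega
        rw [h0, lft_zero, lft_zero]
      | succ i =>
        have h1 : sw (b + 1) (i + 1) = sw b i + 1 := by unfold sw; split_ifs <;> omega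
        rw [h1, lft_succ, lft_succ, hsw i (by omega)]

lemma adm_mk_of_cons {l : ℕ} {x : M} {v : ℕ → M} (h : AdmN R (l + 1) (ins 0 x v)) :
    AdmN R l (fun i => mkx R x (v i)) := by
  intro i hi r hr
  have h1 := h (i + 1) (by omega) r hr
  rw [ins_zero_succ] at h1
  have h2 : mkx R x (r • v i) ∈ (sb R (ins 0 x v) (i + 1)).map (mkx R x) :=
    Submodule.mem_map_of_mem h1
  rw [map_sb, map_smul] at h2
  refine (sb_le_iff.mpr ?_) h2
  intro j hj
  cases j with
  | zero =>
    show mkx R x (ins 0 x v 0) ∈ _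
    rw [ins_zero_zero, mkx_self]
    exact Submodule.zero_mem _
  | succ k =>
    show mkx R x (ins 0 x v (k + 1)) ∈ _
    rw [ins_zero_succ]
    exact mem_sb (w := fun i => mkx R x (v i)) (by omega : k < i)

lemma sym_mem_range {l : ℕ} (hlen : Module.length R M = ((l + 1 : ℕ) : ℕ∞)) {x : M}
    (hx0 : x ≠ 0) (hx : ∀ r ∈ maximalIdeal R, r • x = 0)
    (Ψ : DetOfLen R (M ⧸ Submodule.span R ({x} : Set M)) l →ₗ[ResidueField R]
        DetOfLen R M (l + 1))
    (hΨ : ∀ e : Adm R (M ⧸ Submodule.span R ({x} : Set M)) l,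
        Ψ (Submodule.Quotient.mk (sym R _ e)) = symN R (l + 1) (lft R x (ext0 e.1)))
    (e : Adm R M (l + 1)) :
    (Submodule.Quotient.mk (sym R M e) : DetOfLen R M (l + 1)) ∈ LinearMap.range Ψ := by
  rw [← symN_ext0]
  have hw : AdmN R (l + 1) (ext0 e.1) := admN_ext0 e
  generalize ext0 e.1 = w at hw ⊢
  by_cases htop : sb R w (l + 1) = ⊤
  · have hxmem : x ∈ sb R w (l + 1) := by rw [htop]; exact Submodule.mem_top
    obtain ⟨a, ha, hxa, hxa'⟩ := exists_first hx0 hxmem
    obtain ⟨c, hc⟩ := adm_unit hw ha hxa hxa'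
    obtain ⟨h1, h2⟩ := replace_step hw ha c hc
    obtain ⟨h3, h4⟩ := move hx a ha h1
    have h5 := adm_mk_of_cons h3
    let ū : Adm R (M ⧸ Submodule.span R ({x} : Set M)) l :=
      ⟨restr l (fun i => mkx R x (del a w i)), isAdmissible_restr_iff.mpr h5⟩
    have h6 : symN R (l + 1) (lft R x (ext0 ū.1)) = symN R (l + 1) (ins 0 x (del a w)) := by
      apply symN_unitri h3
      intro j hj
      cases j with
      | zero =>
        rw [lft_zero, ins_zero_zero, sub_self]
        exact Submodule.zero_mem _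
      | succ i =>
        rw [lft_succ, ins_zero_succ]
        have hi : i < l := by omega
        have h7 : mkx R x (sec R x (ext0 ū.1 i) - del a w i) = 0 := by
          rw [map_sub, mk_sec, ext0_restr _ hi, sub_self]
        exact (Submodule.span_singleton_le_iff_mem _ _).mpr (x_mem_sb_ins x _ i)
          (mkx_eq_zero.mp h7)
    have hres : residue R (c : R) ≠ 0 := res_ne_zero c
    have h8 : symN R (l + 1) w = (residue R (c : R))⁻¹ •
        ((-1 : ResidueField R) ^ a • Ψ (Submodule.Quotient.mk (sym R _ ū))) := by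
      rw [hΨ, h6, ← h4, h2, smul_smul, inv_mul_cancel₀ hres, one_smul]
    rw [h8]
    exact Submodule.smul_mem _ _ (Submodule.smul_mem _ _ (LinearMap.mem_range_self _ _))
  · obtain ⟨a, ha, hdep⟩ := exists_dep hlen htop
    rw [relA hw ha hdep]
    exact Submodule.zero_mem _

end Quot

section Main

variable {R : Type u} [CommRing R] [IsLocalRing R]

theorem rank_le_one : ∀ (l : ℕ) (M : Type v) [AddCommGroup M] [Module R M],
    Module.length R M = (l : ℕ∞) → Module.rank (ResidueField R) (DetOfLen R M l) ≤ 1 := by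
  intro l
  induction l with
  | zero =>
    intro M _ _ _
    rw [rank_le_one_iff]
    have hadm : IsAdmissible R M (fun _ : Fin 0 => (0 : M)) := fun i => i.elim0
    let e0 : Adm R M 0 := ⟨fun _ => 0, hadm⟩
    have huniq : ∀ e : Adm R M 0, e = e0 := fun e => Subtype.ext (funext fun i => i.elim0)
    refine ⟨Submodule.Quotient.mk (sym R M e0), fun v => ?_⟩
    obtain ⟨f, rfl⟩ := Submodule.Quotient.mk_surjective _ v
    refine ⟨f e0, ?_⟩
    rw [← Submodule.Quotient.mk_smul]
    congr 1
    ext e
    rw [huniq e]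
    simp [sym]
  | succ l ih =>
    intro M _ _ hlen
    have hfl : IsFiniteLength R M :=
      Module.length_ne_top_iff.mp (by rw [hlen]; exact ENat.coe_ne_top _)
    haveI : Nontrivial M :=
      Module.length_pos_iff.mp (by rw [hlen]; exact_mod_cast Nat.succ_pos l)
    obtain ⟨x, hx0, hx, hx1⟩ := exists_socle hfl
    have hlen' := length_quot hlen hx1
    obtain ⟨Ψ, hΨ⟩ := exists_Psi (l := l) hx
    have hsurj : Function.Surjective Ψ := by
      rw [← LinearMap.range_eq_top, eq_top_iff]
      rintro v -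
      obtain ⟨f, rfl⟩ := Submodule.Quotient.mk_surjective _ v
      refine Finsupp.induction_linear f ?_ ?_ ?_
      · exact Submodule.zero_mem _
      · intro f g hf hg
        rw [Submodule.Quotient.mk_add]
        exact Submodule.add_mem _ hf hg
      · intro e c
        have h1 : (Finsupp.single e c : Free R M (l + 1)) = c • sym R M e := by
          simp [sym]
        rw [h1, Submodule.Quotient.mk_smul]
        exact Submodule.smul_mem _ _ (sym_mem_range hlen hx0 hx Ψ hΨ e)
    exact (LinearMap.rank_le_of_surjective Ψ hsurj).trans (ih _ hlen')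

end Main

end Groth.Agent.Lib.Helper64.CycDetB
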