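import Mathlib
import Groth.Prelude.Def_CycDet
import Groth.Agent.Lib.Helper64.CycDetA
import Groth.Agent.Lib.Helper64.CycDetB

/-!
# Determinant of a finite length module: the map `Θ` and non-vanishing of generating symbols
-/

set_option autoImplicit false

namespace Groth.Agent.Lib.Helper64.CycDetC

open IsLocalRing CycDet Groth.Agent.Lib.Helper64.CycDetA Groth.Agent.Lib.Helper64.CycDetB

universe u v

section Quot

variable {R : Type u} [CommRing R] [IsLocalRing R] {M : Type v} [AddCommGroup M] [Module R M]

variable (R) in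
/-- Delete position `a` and project to `M / Rx`. -/
def dl (x : M) (a : ℕ) (w : ℕ → M) : ℕ → M ⧸ Submodule.span R ({x} : Set M) :=
  fun j => mkx R x (del a w j)

lemma dl_lt {x : M} {a : ℕ} {w : ℕ → M} {j : ℕ} (h : j < a) :
    dl R x a w j = mkx R x (w j) := by
  unfold dl del
  rw [if_pos h]

lemma dl_ge {x : M} {a : ℕ} {w : ℕ → M} {j : ℕ} (h : a ≤ j) :
    dl R x a w j = mkx R x (w (j + 1)) := by
  unfold dl del
  rw [if_neg (not_lt.mpr h)]

lemma mk_mem_of_sub {x z : M} {c : Rˣ} {S : Submodule R M} (h : x - (c : R) • z ∈ S) :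
    mkx R x z ∈ S.map (mkx R x) := by
  have h1 : mkx R x (x - (c : R) • z) ∈ S.map (mkx R x) := Submodule.mem_map_of_mem h
  rw [map_sub, mkx_self, zero_sub, map_smul] at h1
  have h2 := Submodule.smul_mem _ (-((c⁻¹ : Rˣ) : R)) h1
  rwa [smul_neg, neg_smul, neg_neg, smul_smul, Units.inv_mul, one_smul] at h2

lemma sb_del_le {x : M} {w : ℕ → M} {a i : ℕ} (hi : i ≤ a) :
    sb R (dl R x a w) i = (sb R w i).map (mkx R x) := by
  rw [map_sb]
  apply sb_congr
  intro j hj
  rw [dl_lt (by omega : j < a)]
  rfl

lemma sb_del_ge {x : M} {w : ℕ → M} {a : ℕ} {c : Rˣ} (hc : x - (c : R) • w a ∈ sb R w a)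
    {i : ℕ} (hi : a ≤ i) :
    sb R (dl R x a w) i = (sb R w (i + 1)).map (mkx R x) := by
  apply le_antisymm
  · rw [sb_le_iff]
    intro j hj
    by_cases h : j < a
    · rw [dl_lt h]
      exact Submodule.mem_map_of_mem (mem_sb (by omega))
    · rw [dl_ge (not_lt.mp h)]
      exact Submodule.mem_map_of_mem (mem_sb (by omega))
  · rw [Submodule.map_le_iff_le_comap, sb_le_iff]
    intro j hj
    show mkx R x (w j) ∈ sb R (dl R x a w) i
    rcases lt_trichotomy j a with h | h | h
    · rw [← dl_lt (x := x) (w := w) h]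
      exact mem_sb (by omega)
    · rw [h]
      refine sb_mono hi ?_
      rw [sb_del_le (le_refl a)]
      exact mk_mem_of_sub hc
    · have e : w j = w (j - 1 + 1) := by congr 1; omega
      rw [e, ← dl_ge (x := x) (w := w) (by omega : a ≤ j - 1)]
      exact mem_sb (by omega)

lemma adm_del {l : ℕ} {x : M} {w : ℕ → M} (hw : AdmN R (l + 1) w) {a : ℕ} {c : Rˣ}
    (hc : x - (c : R) • w a ∈ sb R w a) : AdmN R l (dl R x a w) := by
  intro i hi r hr
  by_cases h : i < a
  · rw [sb_del_le h.le, dl_lt h, ← map_smul]
    exact Submodule.mem_map_of_mem (hw i (by omega) r hr)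
  · rw [sb_del_ge hc (not_lt.mp h), dl_ge (not_lt.mp h), ← map_smul]
    exact Submodule.mem_map_of_mem (hw (i + 1) (by omega) r hr)

variable (R) in
/-- First index `i` with `x` in the span of `w 0, …, w i`. -/
noncomputable def firstIdx (w : ℕ → M) (x : M) : ℕ := sInf {i | x ∈ sb R w (i + 1)}

variable (R) in
/-- A unit `c` with `x ≡ c • w a` modulo the span of the earlier entries (or `1`). -/
noncomputable def unitAt (w : ℕ → M) (x : M) (a : ℕ) : Rˣ :=
  open Classical in
  if h : ∃ c : Rˣ, x - (c : R) • w a ∈ sb R w a then h.choose else 1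

variable (R) in
/-- The function on sequences inducing `Θ`. -/
noncomputable def gTheta (l : ℕ) (x : M) (w : ℕ → M) :
    DetOfLen R (M ⧸ Submodule.span R ({x} : Set M)) l :=
  open Classical in
  if x ∈ sb R w (l + 1) then
    ((-1 : ResidueField R) ^ (firstIdx R w x)) •
      ((residue R ((unitAt R w x (firstIdx R w x) : Rˣ) : R))⁻¹ •
        symN R l (dl R x (firstIdx R w x) w))
  else 0

lemma gTheta_zero {l : ℕ} {x : M} {w : ℕ → M} (h : x ∉ sb R w (l + 1)) :
    gTheta R l x w = 0 := by
  unfold gTheta
  rw [if_neg h]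

lemma gTheta_eq {l : ℕ} {x : M} {w : ℕ → M} {a : ℕ} (ha : a < l + 1)
    (h1 : x ∈ sb R w (a + 1)) (h2 : x ∉ sb R w a) (c : Rˣ)
    (hc : x - (c : R) • w a ∈ sb R w a) :
    gTheta R l x w = ((-1 : ResidueField R) ^ a) •
      ((residue R (c : R))⁻¹ • symN R l (dl R x a w)) := by
  have hmem : x ∈ sb R w (l + 1) := sb_mono (by omega) h1
  have hA : firstIdx R w x = a := by
    unfold firstIdx
    apply le_antisymm
    · exact Nat.sInf_le h1
    · by_contra hlt
      have hm : x ∈ sb R w (sInf {i | x ∈ sb R w (i + 1)} + 1) :=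
        Nat.sInf_mem (s := {i | x ∈ sb R w (i + 1)}) ⟨a, h1⟩
      exact h2 (sb_mono (by omega) hm)
  have hex : ∃ c : Rˣ, x - (c : R) • w a ∈ sb R w a := ⟨c, hc⟩
  have hC : residue R ((unitAt R w x a : Rˣ) : R) = residue R (c : R) := by
    unfold unitAt
    rw [dif_pos hex]
    have hc' := hex.choose_spec
    by_contra hne
    have hd : ((c : R) - (hex.choose : R)) • w a ∈ sb R w a := by
      have h3 := Submodule.sub_mem _ hc' hc
      have e : (x - (hex.choose : R) • w a) - (x - (c : R) • w a)
          = ((c : R) - (hex.choose : R)) • w a := by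
        rw [sub_smul]; abel
      rwa [e] at h3
    have hu : IsUnit ((c : R) - (hex.choose : R)) := by
      rw [← notMem_maximalIdeal, ← residue_eq_zero_iff, map_sub, sub_eq_zero]
      exact fun h => hne h.symm
    have hwa : w a ∈ sb R w a := by
      have h3 := Submodule.smul_mem _ ((hu.unit⁻¹ : Rˣ) : R) hd
      rwa [smul_smul, IsUnit.val_inv_mul, one_smul] at h3
    apply h2
    have h3 := Submodule.add_mem _ hc (Submodule.smul_mem _ (c : R) hwa)
    rwa [sub_add_cancel] at h3
  unfold gTheta
  rw [if_pos hmem, hA, hC]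

/-! ### `gTheta` respects the three relations -/

lemma theta_A {l : ℕ} {x : M} (hx0 : x ≠ 0) {w : ℕ → M} (hw : AdmN R (l + 1) w) {p : ℕ}
    (hp : p < l + 1) (h : w p ∈ sb R w p) : gTheta R l x w = 0 := by
  by_cases hmem : x ∈ sb R w (l + 1)
  · obtain ⟨a, ha, h1, h2⟩ := exists_first hx0 hmem
    obtain ⟨c, hc⟩ := adm_unit hw ha h1 h2
    rw [gTheta_eq ha h1 h2 c hc]
    have hadm := adm_del hw hc
    have h0 : symN R l (dl R x a w) = 0 := by
      rcases lt_trichotomy p a with hpa | hpa | hpa
      · refine relA hadm (a := p) (by omega) ?_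
        rw [dl_lt hpa, sb_del_le hpa.le]
        exact Submodule.mem_map_of_mem h
      · exfalso
        apply h2
        rw [hpa] at h
        have h3 := Submodule.add_mem _ hc (Submodule.smul_mem _ (c : R) h)
        rwa [sub_add_cancel] at h3
      · have hpa' : a ≤ p - 1 := by omega
        have e : p - 1 + 1 = p := by omega
        refine relA hadm (a := p - 1) (by omega) ?_
        rw [dl_ge hpa', sb_del_ge hc hpa', e]
        exact Submodule.mem_map_of_mem h
    rw [h0, smul_zero, smul_zero]
  · exact gTheta_zero hmem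

lemma theta_B {l : ℕ} {x : M} (hx0 : x ≠ 0) {w w' : ℕ → M} (hw : AdmN R (l + 1) w)
    (hw' : AdmN R (l + 1) w') {p : ℕ} (hp : p < l + 1) (u : Rˣ)
    (hne : ∀ j < l + 1, j ≠ p → w j = w' j) (h : w p - (u : R) • w' p ∈ sb R w p) :
    gTheta R l x w = residue R (u : R) • gTheta R l x w' := by
  have hU : ∀ j < l + 1, ∃ c : Rˣ, w j - (c : R) • w' j ∈ sb R w' j := by
    intro j hj
    by_cases hjp : j = p
    · refine ⟨u, ?_⟩
      rw [hjp, ← sb_congr (fun i hi => hne i (by omega) (by omega))]
      exact h
    · exact ⟨1, by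
        rw [hne j hj hjp, Units.val_one, one_smul, sub_self]; exact Submodule.zero_mem _⟩
  have hsb : ∀ i ≤ l + 1, sb R w i = sb R w' i := sb_eq_of_unitri hU
  by_cases hmem : x ∈ sb R w (l + 1)
  · obtain ⟨a, ha, h1, h2⟩ := exists_first hx0 hmem
    obtain ⟨c, hc⟩ := adm_unit hw ha h1 h2
    have h1' : x ∈ sb R w' (a + 1) := by rw [← hsb _ (by omega)]; exact h1
    have h2' : x ∉ sb R w' a := by rw [← hsb _ (by omega)]; exact h2
    rw [gTheta_eq ha h1 h2 c hc]
    rcases lt_trichotomy p a with hpa | hpa | hpa
    · have hc' : x - (c : R) • w' a ∈ sb R w' a := by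
        rw [← hne a ha (by omega), ← hsb _ (by omega)]; exact hc
      rw [gTheta_eq ha h1' h2' c hc']
      have hrel : symN R l (dl R x a w) = residue R (u : R) • symN R l (dl R x a w') := by
        refine relB (adm_del hw hc) (adm_del hw' hc') (a := p) (by omega) u ?_ ?_
        · intro j hj hjp
          by_cases hja : j < a
          · rw [dl_lt hja, dl_lt hja, hne j (by omega) hjp]
          · rw [dl_ge (not_lt.mp hja), dl_ge (not_lt.mp hja), hne (j + 1) (by omega) (by omega)]
        · rw [dl_lt hpa, dl_lt hpa, sb_del_le hpa.le, ← map_smul, ← map_sub]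
          exact Submodule.mem_map_of_mem h
      rw [hrel, smul_comm ((residue R (c : R))⁻¹) (residue R (u : R)),
        smul_comm ((-1 : ResidueField R) ^ a) (residue R (u : R))]
    · have hc' : x - ((c * u : Rˣ) : R) • w' a ∈ sb R w' a := by
        rw [← hsb _ (by omega)]
        rw [hpa] at h
        have h3 := Submodule.add_mem _ hc (Submodule.smul_mem _ (c : R) h)
        have e : x - (c : R) • w a + (c : R) • (w a - (u : R) • w' a)
            = x - ((c * u : Rˣ) : R) • w' a := by
          rw [Units.val_mul, mul_smul, smul_sub]; abel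
        rwa [e] at h3
      rw [gTheta_eq ha h1' h2' (c * u) hc']
      have hsame : symN R l (dl R x a w) = symN R l (dl R x a w') := by
        apply symN_congr
        intro j hj
        by_cases hja : j < a
        · rw [dl_lt hja, dl_lt hja, hne j (by omega) (by omega)]
        · rw [dl_ge (not_lt.mp hja), dl_ge (not_lt.mp hja), hne (j + 1) (by omega) (by omega)]
      have hcu : residue R (c : R) ≠ 0 := res_ne_zero c
      have huu : residue R (u : R) ≠ 0 := res_ne_zero u
      rw [hsame, Units.val_mul, map_mul]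
      simp only [smul_smul]
      congr 1
      field_simp
    · have hc' : x - (c : R) • w' a ∈ sb R w' a := by
        rw [← hne a ha (by omega), ← hsb _ (by omega)]; exact hc
      rw [gTheta_eq ha h1' h2' c hc']
      have hrel : symN R l (dl R x a w) = residue R (u : R) • symN R l (dl R x a w') := by
        have hpa' : a ≤ p - 1 := by omega
        have e : p - 1 + 1 = p := by omega
        refine relB (adm_del hw hc) (adm_del hw' hc') (a := p - 1) (by omega) u ?_ ?_
        · intro j hj hjp
          by_cases hja : j < a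
          · rw [dl_lt hja, dl_lt hja, hne j (by omega) (by omega)]
          · rw [dl_ge (not_lt.mp hja), dl_ge (not_lt.mp hja), hne (j + 1) (by omega) (by omega)]
        · rw [dl_ge hpa', dl_ge hpa', sb_del_ge hc hpa', e, ← map_smul, ← map_sub]
          exact Submodule.mem_map_of_mem h
      rw [hrel, smul_comm ((residue R (c : R))⁻¹) (residue R (u : R)),
        smul_comm ((-1 : ResidueField R) ^ a) (residue R (u : R))]
  · rw [gTheta_zero hmem, gTheta_zero (by rw [← hsb _ le_rfl]; exact hmem), smul_zero]

lemma theta_C {l : ℕ} {x : M} (hx0 : x ≠ 0) {w w' : ℕ → M} (hw : AdmN R (l + 1) w)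
    (hw' : AdmN R (l + 1) w') {b : ℕ} (hb : b + 1 < l + 1)
    (hm : ∀ r ∈ maximalIdeal R, r • w (b + 1) ∈ sb R w b)
    (hsw : ∀ j < l + 1, w' j = w (sw b j)) :
    gTheta R l x w + gTheta R l x w' = 0 := by
  have hsb : ∀ i ≤ l + 1, i ≠ b + 1 → sb R w' i = sb R w i :=
    fun i hi hib => sb_swap hb hsw hi hib
  have hw'b : w' b = w (b + 1) := by
    rw [hsw b (by omega)]; congr 1; unfold sw; split_ifs <;> omega
  have hw'b1 : w' (b + 1) = w b := by
    rw [hsw (b + 1) (by omega)]; congr 1; unfold sw; split_ifs <;> omega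
  have hw'o : ∀ j < l + 1, j ≠ b → j ≠ b + 1 → w' j = w j := by
    intro j hj h1 h2
    rw [hsw j hj]; congr 1; unfold sw; split_ifs <;> omega
  by_cases hmem : x ∈ sb R w (l + 1)
  swap
  · rw [gTheta_zero hmem, gTheta_zero (by rw [hsb _ le_rfl (by omega)]; exact hmem), add_zero]
  obtain ⟨a, ha, h1, h2⟩ := exists_first hx0 hmem
  obtain ⟨c, hc⟩ := adm_unit hw ha h1 h2
  by_cases hab1 : a < b
  · -- the first index is before the swapped pair
    have h1' : x ∈ sb R w' (a + 1) := by rw [hsb _ (by omega) (by omega)]; exact h1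
    have h2' : x ∉ sb R w' a := by rw [hsb _ (by omega) (by omega)]; exact h2
    have hc' : x - (c : R) • w' a ∈ sb R w' a := by
      rw [hw'o a ha (by omega) (by omega), hsb _ (by omega) (by omega)]; exact hc
    rw [gTheta_eq ha h1 h2 c hc, gTheta_eq ha h1' h2' c hc']
    have hrel : symN R l (dl R x a w) + symN R l (dl R x a w') = 0 := by
      obtain ⟨b', rfl⟩ : ∃ b', b = b' + 1 := ⟨b - 1, by omega⟩
      refine relC (adm_del hw hc) (adm_del hw' hc') (b := b') (by omega) ?_ ?_
      · intro r hr
        rw [dl_ge (by omega : a ≤ b' + 1), sb_del_ge hc (by omega : a ≤ b'), ← map_smul]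
        exact Submodule.mem_map_of_mem (hm r hr)
      · intro j hj
        by_cases hja : j < a
        · have hs : sw b' j = j := by unfold sw; split_ifs <;> omega
          rw [hs, dl_lt hja, dl_lt hja, hw'o j (by omega) (by omega) (by omega)]
        · have hja' : a ≤ j := not_lt.mp hja
          have hs : a ≤ sw b' j := by unfold sw; split_ifs <;> omega
          rw [dl_ge hja', dl_ge hs, hsw (j + 1) (by omega)]
          congr 2
          unfold sw; split_ifs <;> omega
    rw [← smul_add, ← smul_add, hrel, smul_zero, smul_zero]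
  by_cases hab2 : b + 1 < a
  · -- the first index is after the swapped pair
    have h1' : x ∈ sb R w' (a + 1) := by rw [hsb _ (by omega) (by omega)]; exact h1
    have h2' : x ∉ sb R w' a := by rw [hsb _ (by omega) (by omega)]; exact h2
    have hc' : x - (c : R) • w' a ∈ sb R w' a := by
      rw [hw'o a ha (by omega) (by omega), hsb _ (by omega) (by omega)]; exact hc
    rw [gTheta_eq ha h1 h2 c hc, gTheta_eq ha h1' h2' c hc']
    have hrel : symN R l (dl R x a w) + symN R l (dl R x a w') = 0 := by
      refine relC (adm_del hw hc) (adm_del hw' hc') (b := b) (by omega) ?_ ?_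
      · intro r hr
        rw [dl_lt (by omega : b + 1 < a), sb_del_le (by omega : b ≤ a), ← map_smul]
        exact Submodule.mem_map_of_mem (hm r hr)
      · intro j hj
        by_cases hja : j < a
        · have hs : sw b j < a := by unfold sw; split_ifs <;> omega
          rw [dl_lt hja, dl_lt hs, hsw j (by omega)]
        · have hja' : a ≤ j := not_lt.mp hja
          have hs : sw b j = j := by unfold sw; split_ifs <;> omega
          rw [hs, dl_ge hja', dl_ge hja', hw'o (j + 1) (by omega) (by omega) (by omega)]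
    rw [← smul_add, ← smul_add, hrel, smul_zero, smul_zero]
  by_cases hab3 : a = b
  · -- the first index is the first of the swapped pair
    subst hab3
    have h2' : x ∉ sb R w' a := by rw [hsb _ (by omega) (by omega)]; exact h2
    by_cases hx' : x ∈ sb R w' (a + 1)
    · obtain ⟨c', hc'⟩ := adm_unit hw' ha hx' h2'
      rw [gTheta_eq ha h1 h2 c hc, gTheta_eq ha hx' h2' c' hc']
      have z1 : symN R l (dl R x a w) = 0 := by
        refine relA (adm_del hw hc) (a := a) (by omega) ?_
        rw [dl_ge le_rfl, sb_del_le le_rfl]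
        have hc'' := hc'
        rw [hw'b, hsb _ (by omega) (by omega)] at hc''
        exact mk_mem_of_sub hc''
      have z2 : symN R l (dl R x a w') = 0 := by
        refine relA (adm_del hw' hc') (a := a) (by omega) ?_
        rw [dl_ge le_rfl, sb_del_le le_rfl, hw'b1, hsb _ (by omega) (by omega)]
        exact mk_mem_of_sub hc
      rw [z1, z2, smul_zero, smul_zero, smul_zero, smul_zero, add_zero]
    · have h1' : x ∈ sb R w' (a + 1 + 1) := by
        rw [hsb _ (by omega) (by omega)]; exact sb_mono (by omega) h1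
      have hc' : x - (c : R) • w' (a + 1) ∈ sb R w' (a + 1) := by
        rw [hw'b1]
        refine sb_mono (Nat.le_succ a) ?_
        rw [hsb _ (by omega) (by omega)]; exact hc
      rw [gTheta_eq ha h1 h2 c hc, gTheta_eq hb h1' hx' c hc']
      have hsame : symN R l (dl R x (a + 1) w') = symN R l (dl R x a w) := by
        apply symN_congr
        intro j hj
        rcases lt_trichotomy j a with h | h | h
        · rw [dl_lt (by omega : j < a + 1), dl_lt h, hw'o j (by omega) (by omega) (by omega)]
        · rw [h, dl_lt (by omega : a < a + 1), dl_ge le_rfl, hw'b]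
        · rw [dl_ge (by omega : a + 1 ≤ j), dl_ge (by omega : a ≤ j),
            hw'o (j + 1) (by omega) (by omega) (by omega)]
      rw [hsame, pow_succ, mul_neg_one, neg_smul, add_neg_cancel]
  · -- the first index is the second of the swapped pair
    have hab4 : a = b + 1 := by omega
    subst hab4
    by_cases hx' : x ∈ sb R w' (b + 1)
    · have h2' : x ∉ sb R w' b := by
        rw [hsb _ (by omega) (by omega)]
        exact fun h => h2 (sb_mono (Nat.le_succ b) h)
      obtain ⟨c', hc'⟩ := adm_unit hw' (by omega : b < l + 1) hx' h2'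
      have hcw : x - (c' : R) • w (b + 1) ∈ sb R w (b + 1) := by
        have h3 := hc'
        rw [hw'b, hsb _ (by omega) (by omega)] at h3
        exact sb_mono (Nat.le_succ b) h3
      rw [gTheta_eq ha h1 h2 c' hcw, gTheta_eq (by omega : b < l + 1) hx' h2' c' hc']
      have hsame : symN R l (dl R x (b + 1) w) = symN R l (dl R x b w') := by
        apply symN_congr
        intro j hj
        rcases lt_trichotomy j b with h | h | h
        · rw [dl_lt (by omega : j < b + 1), dl_lt h, hw'o j (by omega) (by omega) (by omega)]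
        · rw [h, dl_lt (by omega : b < b + 1), dl_ge le_rfl, hw'b1]
        · rw [dl_ge (by omega : b + 1 ≤ j), dl_ge (by omega : b ≤ j),
            hw'o (j + 1) (by omega) (by omega) (by omega)]
      rw [hsame, pow_succ, mul_neg_one, neg_smul, neg_add_cancel]
    · obtain ⟨t, ht⟩ := mem_sb_succ_iff.mp hc
      have htu : IsUnit t := by
        rw [← notMem_maximalIdeal]
        intro htm
        apply hx'
        have e1 : x - (c : R) • w (b + 1) ∈ sb R w b := by
          have h3 := Submodule.add_mem _ ht (hw b (by omega) t htm)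
          rwa [sub_add_cancel] at h3
        rw [mem_sb_succ_iff]
        refine ⟨(c : R), ?_⟩
        rw [hw'b, hsb _ (by omega) (by omega)]
        exact e1
      obtain ⟨t', rfl⟩ : ∃ t' : Rˣ, (t' : R) = t := ⟨htu.unit, rfl⟩
      have h1' : x ∈ sb R w' (b + 1 + 1) := by rw [hsb _ (by omega) (by omega)]; exact h1
      have hc' : x - (t' : R) • w' (b + 1) ∈ sb R w' (b + 1) := by
        rw [hw'b1, mem_sb_succ_iff]
        refine ⟨(c : R), ?_⟩
        rw [hw'b, hsb _ (by omega) (by omega)]
        have e : x - (t' : R) • w b - (c : R) • w (b + 1)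
            = x - (c : R) • w (b + 1) - (t' : R) • w b := by abel
        rw [e]
        exact ht
      rw [gTheta_eq ha h1 h2 c hc, gTheta_eq ha h1' hx' t' hc']
      have hrel : symN R l (dl R x (b + 1) w)
          = residue R (((-(t'⁻¹ * c) : Rˣ)) : R) • symN R l (dl R x (b + 1) w') := by
        refine relB (adm_del hw hc) (adm_del hw' hc') (a := b) (by omega) _ ?_ ?_
        · intro j hj hjb
          by_cases hjb' : j < b
          · rw [dl_lt (by omega : j < b + 1), dl_lt (by omega : j < b + 1),
              hw'o j (by omega) (by omega) (by omega)]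
          · rw [dl_ge (by omega : b + 1 ≤ j), dl_ge (by omega : b + 1 ≤ j),
              hw'o (j + 1) (by omega) (by omega) (by omega)]
        · rw [dl_lt (by omega : b < b + 1), dl_lt (by omega : b < b + 1),
            sb_del_le (by omega : b ≤ b + 1), hw'b]
          have hy : mkx R x (x - (c : R) • w (b + 1) - (t' : R) • w b)
              ∈ (sb R w b).map (mkx R x) := Submodule.mem_map_of_mem ht
          have h3 := Submodule.smul_mem _ (-((t'⁻¹ : Rˣ) : R)) hy
          have hinv : ((t'⁻¹ : Rˣ) : R) * (t' : R) = 1 := Units.inv_mul t'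
          have e : (-((t'⁻¹ : Rˣ) : R)) • mkx R x (x - (c : R) • w (b + 1) - (t' : R) • w b)
              = mkx R x (w b) - ((-(t'⁻¹ * c) : Rˣ) : R) • mkx R x (w (b + 1)) := by
            rw [map_sub, map_sub, mkx_self, map_smul, map_smul, Units.val_neg, Units.val_mul]
            have e1 : (-((t'⁻¹ : Rˣ) : R)) •
                ((0 : M ⧸ Submodule.span R ({x} : Set M)) - (c : R) • mkx R x (w (b + 1))
                  - (t' : R) • mkx R x (w b))
                = (((t'⁻¹ : Rˣ) : R) * (t' : R)) • mkx R x (w b)
                  - (-(((t'⁻¹ : Rˣ) : R) * (c : R))) • mkx R x (w (b + 1)) := by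
              module
            rw [e1, hinv, one_smul]
          rwa [e] at h3
      have hcu : residue R (c : R) ≠ 0 := res_ne_zero c
      have htu' : residue R (t' : R) ≠ 0 := res_ne_zero t'
      rw [hrel, Units.val_neg, Units.val_mul, map_neg, map_mul, map_units_inv]
      simp only [smul_smul]
      rw [← add_smul]
      apply smul_eq_zero_of_left
      field_simp
      ring

theorem exists_Theta {l : ℕ} {x : M} (hx0 : x ≠ 0) :
    ∃ Θ : DetOfLen R M (l + 1) →ₗ[ResidueField R]
        DetOfLen R (M ⧸ Submodule.span R ({x} : Set M)) l,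
      ∀ e : Adm R M (l + 1),
        Θ (Submodule.Quotient.mk (sym R M e)) = gTheta R l x (ext0 e.1) := by
  refine lift_kills (gTheta R l x) ?_ ?_ ?_
  · intro w hw a ha h
    exact theta_A hx0 hw ha h
  · intro w w' hw hw' a ha c hne h
    exact theta_B hx0 hw hw' ha c hne h
  · intro w w' hw hw' b hb hm hsw
    exact theta_C hx0 hw hw' hb hm hsw

end Quot

section Main

variable {R : Type u} [CommRing R] [IsLocalRing R]

theorem symbol_ne_zero : ∀ (l : ℕ) (M : Type v) [AddCommGroup M] [Module R M],
    Module.length R M = (l : ℕ∞) → ∀ e : Adm R M l, Submodule.span R (Set.range e.1) = ⊤ →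
    (Submodule.Quotient.mk (sym R M e) : DetOfLen R M l) ≠ 0 := by
  intro l
  induction l with
  | zero =>
    intro M _ _ _ e _
    rw [Ne, Submodule.Quotient.mk_eq_zero]
    have hrel : relSet R M 0 = ∅ := by
      ext y
      simp only [Set.mem_empty_iff_false, iff_false]
      rintro ((⟨_, a, _⟩ | ⟨_, _, a, _⟩) | ⟨_, _, a, _⟩) <;> exact a.elim0
    rw [hrel, Submodule.span_empty, Submodule.mem_bot]
    intro h
    have h1 := DFunLike.congr_fun h e
    simp [sym] at h1
  | succ l ih =>
    intro M _ _ hlen e he
    have hfl : IsFiniteLength R M :=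
      Module.length_ne_top_iff.mp (by rw [hlen]; exact ENat.coe_ne_top _)
    haveI : Nontrivial M :=
      Module.length_pos_iff.mp (by rw [hlen]; exact_mod_cast Nat.succ_pos l)
    obtain ⟨x, hx0, hx, hx1⟩ := exists_socle hfl
    have hlen' := length_quot hlen hx1
    obtain ⟨Θ, hΘ⟩ := exists_Theta (R := R) (l := l) hx0
    intro hzero
    have h0 : Θ (Submodule.Quotient.mk (sym R M e)) = 0 := by rw [hzero, map_zero]
    rw [hΘ] at h0
    have hw : AdmN R (l + 1) (ext0 e.1) := admN_ext0 e
    have htop : sb R (ext0 e.1) (l + 1) = ⊤ := by rw [sb_ext0_top, he]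
    generalize ext0 e.1 = w at hw htop h0
    have hmem : x ∈ sb R w (l + 1) := by
      rw [htop]; exact (Submodule.mem_top : x ∈ (⊤ : Submodule R M))
    obtain ⟨a, ha, h1, h2⟩ := exists_first hx0 hmem
    obtain ⟨c, hc⟩ := adm_unit hw ha h1 h2
    rw [gTheta_eq ha h1 h2 c hc] at h0
    have hadm := adm_del hw hc
    have hsym : symN R l (dl R x a w) ≠ 0 := by
      rw [symN_of_adm hadm]
      apply ih _ hlen'
      show Submodule.span R (Set.range (restr l (dl R x a w))) = ⊤
      rw [← sb_ext0_top, sb_congr (fun j hj => ext0_restr _ hj),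
        sb_del_ge hc (by omega : a ≤ l), htop, Submodule.map_top, Submodule.range_mkQ]
    rcases smul_eq_zero.mp h0 with h | h
    · exact pow_ne_zero _ (neg_ne_zero.mpr one_ne_zero) h
    · rcases smul_eq_zero.mp h with h | h
      · exact inv_ne_zero (res_ne_zero c) h
      · exact hsym h

end Main

end Groth.Agent.Lib.Helper64.CycDetC
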