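import Mathlib
import Groth.Prelude.Def_CycDet
import Groth.Agent.Lib.Helper64.CycDetA
import Groth.Agent.Lib.Helper64.CycDetB
import Groth.Agent.Lib.Helper64.CycDetC

/-!
# Determinant of a finite length module: short exact sequences
-/

set_option autoImplicit false

namespace Groth.Agent.Lib.Helper64.CycDetD

open IsLocalRing CycDet TensorProduct
open Groth.Agent.Lib.Helper64.CycDetA Groth.Agent.Lib.Helper64.CycDetB
  Groth.Agent.Lib.Helper64.CycDetC

universe u v

lemma exists_phi {k : Type*} [Field k] {V : Type*} [AddCommGroup V] [Module k V]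
    (hV : Module.rank k V ≤ 1) (v : V) (hv : v ≠ 0) :
    ∃ φ : k ≃ₗ[k] V, ∀ r, φ r = r • v := by
  obtain ⟨v₀, hv₀⟩ := rank_le_one_iff.mp hV
  have hinj : Function.Injective (LinearMap.toSpanSingleton k V v) := by
    rw [injective_iff_map_eq_zero]
    intro r hr
    rw [LinearMap.toSpanSingleton_apply] at hr
    exact (smul_eq_zero.mp hr).resolve_right hv
  have hsurj : Function.Surjective (LinearMap.toSpanSingleton k V v) := by
    obtain ⟨r₀, hr₀⟩ := hv₀ v
    have hr₀' : r₀ ≠ 0 := by
      rintro rfl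
      rw [zero_smul] at hr₀
      exact hv hr₀.symm
    intro y
    obtain ⟨r, hr⟩ := hv₀ y
    refine ⟨r * r₀⁻¹, ?_⟩
    rw [LinearMap.toSpanSingleton_apply, ← hr₀, smul_smul, mul_assoc, inv_mul_cancel₀ hr₀',
      mul_one, hr]
  exact ⟨LinearEquiv.ofBijective _ ⟨hinj, hsurj⟩, fun r => by
    rw [LinearEquiv.ofBijective_apply, LinearMap.toSpanSingleton_apply]⟩

section Gen

variable {R : Type u} [CommRing R] [IsLocalRing R]

theorem exists_gen : ∀ (l : ℕ) (M : Type v) [AddCommGroup M] [Module R M],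
    Module.length R M = (l : ℕ∞) → ∃ e : Adm R M l, sb R (ext0 e.1) l = ⊤ := by
  have key : ∀ (l : ℕ) (M : Type v) [AddCommGroup M] [Module R M],
      Module.length R M = (l : ℕ∞) → ∃ w : ℕ → M, AdmN R l w ∧ sb R w l = ⊤ := by
    intro l
    induction l with
    | zero =>
      intro M _ _ hlen
      have hsub : Subsingleton M := Module.length_eq_zero_iff.mp (by rw [hlen]; rfl)
      refine ⟨fun _ => 0, fun i hi => absurd hi (Nat.not_lt_zero i), ?_⟩
      rw [eq_top_iff]
      intro y _
      rw [Subsingleton.elim y 0]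
      exact Submodule.zero_mem _
    | succ l ih =>
      intro M _ _ hlen
      have hfl : IsFiniteLength R M :=
        Module.length_ne_top_iff.mp (by rw [hlen]; exact ENat.coe_ne_top _)
      haveI : Nontrivial M :=
        Module.length_pos_iff.mp (by rw [hlen]; exact_mod_cast Nat.succ_pos l)
      obtain ⟨x, hx0, hx, hx1⟩ := exists_socle hfl
      have hlen' := length_quot hlen hx1
      obtain ⟨u, hu, hutop⟩ := ih (M ⧸ Submodule.span R ({x} : Set M)) hlen'
      refine ⟨lft R x u, adm_lft hx hu, ?_⟩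
      rw [eq_top_iff]
      intro y _
      exact lift_mem (by rw [hutop]; exact Submodule.mem_top)
  intro l M _ _ hlen
  obtain ⟨w, hw, hwtop⟩ := key l M hlen
  refine ⟨⟨restr l w, isAdmissible_restr_iff.mpr hw⟩, ?_⟩
  rw [sb_congr (fun j hj => ext0_restr w hj)]
  exact hwtop

variable {M : Type v} [AddCommGroup M] [Module R M]

lemma symN_ne_zero {l : ℕ} (hlen : Module.length R M = (l : ℕ∞)) {w : ℕ → M}
    (hw : AdmN R l w) (htop : sb R w l = ⊤) : symN R l w ≠ 0 := by
  rw [symN_of_adm hw]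
  apply symbol_ne_zero l M hlen
  show Submodule.span R (Set.range (restr l w)) = ⊤
  rw [← sb_ext0_top, sb_congr (fun j hj => ext0_restr w hj), htop]

lemma symN_eq_zero_of_not_gen {l : ℕ} (hlen : Module.length R M = (l : ℕ∞)) {w : ℕ → M}
    (hw : AdmN R l w) (htop : sb R w l ≠ ⊤) : symN R l w = 0 := by
  obtain ⟨a, ha, hdep⟩ := exists_dep hlen htop
  exact relA hw ha hdep

end Gen

section SES

variable {R : Type u} [CommRing R] [IsLocalRing R]
variable {K L M : Type v} [AddCommGroup K] [Module R K] [AddCommGroup L] [Module R L]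
  [AddCommGroup M] [Module R M]

/-- Concatenation of sequences: the first `k` values of `a` followed by `b`. -/
def cat (k : ℕ) (a b : ℕ → L) : ℕ → L := fun q => if q < k then a q else b (q - k)

lemma cat_lt {k : ℕ} {a b : ℕ → L} {q : ℕ} (h : q < k) : cat k a b q = a q := by
  unfold cat
  rw [if_pos h]

lemma cat_add {k : ℕ} {a b : ℕ → L} (j : ℕ) : cat k a b (k + j) = b j := by
  unfold cat
  rw [if_neg (by omega), Nat.add_sub_cancel_left]

variable (f : K →ₗ[R] L) (g : L →ₗ[R] M) (s : M → L)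

/-- Images of a sequence of `K` followed by chosen lifts of a sequence of `M`. -/
def W (k : ℕ) (eK : ℕ → K) (u : ℕ → M) : ℕ → L :=
  cat k (fun i => f (eK i)) (fun j => s (u j))

lemma W_lt {k : ℕ} {eK : ℕ → K} {u : ℕ → M} {q : ℕ} (h : q < k) :
    W f s k eK u q = f (eK q) := cat_lt h

lemma W_add {k : ℕ} {eK : ℕ → K} {u : ℕ → M} (j : ℕ) : W f s k eK u (k + j) = s (u j) :=
  cat_add j

lemma sb_W_le {k : ℕ} {eK : ℕ → K} {u : ℕ → M} {i : ℕ} (hi : i ≤ k) :
    sb R (W f s k eK u) i = (sb R eK i).map f := by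
  rw [map_sb]
  exact sb_congr (fun j hj => W_lt f s (by omega))

variable (hfg : LinearMap.range f = LinearMap.ker g) (hs : ∀ y, g (s y) = y)

include hfg in
lemma sb_W_k {k : ℕ} {eK : ℕ → K} {u : ℕ → M} (htop : sb R eK k = ⊤) :
    sb R (W f s k eK u) k = LinearMap.ker g := by
  rw [sb_W_le f s le_rfl, htop, Submodule.map_top, hfg]

include hfg hs in
lemma lift_mem' {k : ℕ} {eK : ℕ → K} {u : ℕ → M} {j : ℕ} {y : L} (htop : sb R eK k = ⊤)
    (hy : g y ∈ sb R u j) : y ∈ sb R (W f s k eK u) (k + j) := by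
  have hle : sb R u j ≤ (sb R (W f s k eK u) (k + j)).map g := by
    rw [sb_le_iff]
    intro i hi
    refine ⟨W f s k eK u (k + i), mem_sb (by omega), ?_⟩
    rw [W_add, hs]
  obtain ⟨z, hz, hzy⟩ := hle hy
  have h1 : z - y ∈ LinearMap.ker g := by
    rw [LinearMap.mem_ker, map_sub, hzy, sub_self]
  rw [← sb_W_k f g s hfg (u := u) htop] at h1
  have h2 := sb_mono (Nat.le_add_right k j) h1
  have h3 := Submodule.sub_mem _ hz h2
  rwa [sub_sub_cancel] at h3

include hfg hs in
lemma adm_W {k m : ℕ} {eK : ℕ → K} {u : ℕ → M} (hK : AdmN R k eK) (htop : sb R eK k = ⊤)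
    (hu : AdmN R m u) : AdmN R (k + m) (W f s k eK u) := by
  intro i hi r hr
  by_cases hik : i < k
  · rw [sb_W_le f s hik.le, W_lt f s hik, ← map_smul]
    exact Submodule.mem_map_of_mem (hK i hik r hr)
  · obtain ⟨j, rfl⟩ : ∃ j, i = k + j := ⟨i - k, by omega⟩
    rw [W_add]
    apply lift_mem' f g s hfg hs htop
    rw [map_smul, hs]
    exact hu j (by omega) r hr

include hfg hs in
lemma gen_W {k m : ℕ} {eK : ℕ → K} {u : ℕ → M} (htop : sb R eK k = ⊤)
    (hutop : sb R u m = ⊤) : sb R (W f s k eK u) (k + m) = ⊤ := by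
  rw [eq_top_iff]
  intro y _
  exact lift_mem' f g s hfg hs htop (by rw [hutop]; exact Submodule.mem_top)

include hfg hs in
theorem exists_T {k m : ℕ} {eK : ℕ → K} (hK : AdmN R k eK) (htop : sb R eK k = ⊤) :
    ∃ T : DetOfLen R M m →ₗ[ResidueField R] DetOfLen R L (k + m), ∀ e : Adm R M m,
      T (Submodule.Quotient.mk (sym R M e)) = symN R (k + m) (W f s k eK (ext0 e.1)) := by
  refine lift_kills (fun u => symN R (k + m) (W f s k eK u)) ?_ ?_ ?_
  · intro u hu a ha h
    refine relA (adm_W f g s hfg hs hK htop hu) (a := k + a) (by omega) ?_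
    rw [W_add]
    apply lift_mem' f g s hfg hs htop
    rw [hs]
    exact h
  · intro u u' hu hu' a ha c hne h
    refine relB (adm_W f g s hfg hs hK htop hu) (adm_W f g s hfg hs hK htop hu')
      (a := k + a) (by omega) c ?_ ?_
    · intro j hj hja
      by_cases hjk : j < k
      · rw [W_lt f s hjk, W_lt f s hjk]
      · obtain ⟨i, rfl⟩ : ∃ i, j = k + i := ⟨j - k, by omega⟩
        rw [W_add, W_add, hne i (by omega) (by omega)]
    · rw [W_add, W_add]
      apply lift_mem' f g s hfg hs htop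
      rw [map_sub, map_smul, hs, hs]
      exact h
  · intro u u' hu hu' b hb hm hsw
    refine relC (adm_W f g s hfg hs hK htop hu) (adm_W f g s hfg hs hK htop hu')
      (b := k + b) (by omega) ?_ ?_
    · intro r hr
      rw [show k + b + 1 = k + (b + 1) by omega, W_add]
      apply lift_mem' f g s hfg hs htop
      rw [map_smul, hs]
      exact hm r hr
    · intro j hj
      by_cases hjk : j < k
      · have h0 : sw (k + b) j = j := by unfold sw; split_ifs <;> omega
        rw [h0, W_lt f s hjk, W_lt f s hjk]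
      · obtain ⟨i, rfl⟩ : ∃ i, j = k + i := ⟨j - k, by omega⟩
        have h1 : sw (k + b) (k + i) = k + sw b i := by unfold sw; split_ifs <;> omega
        rw [h1, W_add, W_add, hsw i (by omega)]

/-- The function on sequences of `K` inducing the map `S`. -/
noncomputable def gS (k m : ℕ) (u : ℕ → M) (e : ℕ → K) : DetOfLen R L (k + m) :=
  open Classical in if sb R e k = ⊤ then symN R (k + m) (W f s k e u) else 0

include hfg hs in
theorem exists_S {k m : ℕ} {u : ℕ → M} (hu : AdmN R m u) :
    ∃ S : DetOfLen R K k →ₗ[ResidueField R] DetOfLen R L (k + m), ∀ e : Adm R K k,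
      S (Submodule.Quotient.mk (sym R K e)) = gS f s k m u (ext0 e.1) := by
  refine lift_kills (gS f s k m u) ?_ ?_ ?_
  · intro e he a ha h
    unfold gS
    by_cases htop : sb R e k = ⊤
    · rw [if_pos htop]
      refine relA (adm_W f g s hfg hs he htop hu) (a := a) (by omega) ?_
      rw [W_lt f s ha, sb_W_le f s ha.le]
      exact Submodule.mem_map_of_mem h
    · rw [if_neg htop]
  · intro e e' he he' a ha c hne h
    have hU : ∀ j < k, ∃ c' : Rˣ, e j - (c' : R) • e' j ∈ sb R e' j := by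
      intro j hj
      by_cases hja : j = a
      · refine ⟨c, ?_⟩
        rw [hja, ← sb_congr (fun i hi => hne i (by omega) (by omega))]
        exact h
      · exact ⟨1, by
          rw [hne j hj hja, Units.val_one, one_smul, sub_self]; exact Submodule.zero_mem _⟩
    have hsb : ∀ i ≤ k, sb R e i = sb R e' i := sb_eq_of_unitri hU
    unfold gS
    by_cases htop : sb R e k = ⊤
    · have htop' : sb R e' k = ⊤ := by rw [← hsb k le_rfl]; exact htop
      rw [if_pos htop, if_pos htop']
      refine relB (adm_W f g s hfg hs he htop hu) (adm_W f g s hfg hs he' htop' hu)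
        (a := a) (by omega) c ?_ ?_
      · intro j hj hja
        by_cases hjk : j < k
        · rw [W_lt f s hjk, W_lt f s hjk, hne j hjk hja]
        · obtain ⟨i, rfl⟩ : ∃ i, j = k + i := ⟨j - k, by omega⟩
          rw [W_add, W_add]
      · rw [W_lt f s ha, W_lt f s ha, sb_W_le f s ha.le, ← map_smul, ← map_sub]
        exact Submodule.mem_map_of_mem h
    · have htop' : ¬ sb R e' k = ⊤ := by rw [← hsb k le_rfl]; exact htop
      rw [if_neg htop, if_neg htop', smul_zero]
  · intro e e' he he' b hb hm hsw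
    have hsb : sb R e' k = sb R e k := sb_swap hb hsw le_rfl (by omega)
    unfold gS
    by_cases htop : sb R e k = ⊤
    · have htop' : sb R e' k = ⊤ := by rw [hsb]; exact htop
      rw [if_pos htop, if_pos htop']
      refine relC (adm_W f g s hfg hs he htop hu) (adm_W f g s hfg hs he' htop' hu)
        (b := b) (by omega) ?_ ?_
      · intro r hr
        rw [W_lt f s hb, sb_W_le f s (by omega : b ≤ k), ← map_smul]
        exact Submodule.mem_map_of_mem (hm r hr)
      · intro j hj
        by_cases hjk : j < k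
        · have h0 : sw b j < k := sw_lt hb hjk
          rw [W_lt f s hjk, W_lt f s h0, hsw j hjk]
        · obtain ⟨i, rfl⟩ : ∃ i, j = k + i := ⟨j - k, by omega⟩
          have h1 : sw b (k + i) = k + i := by unfold sw; split_ifs <;> omega
          rw [h1, W_add, W_add]
    · have htop' : ¬ sb R e' k = ⊤ := by rw [hsb]; exact htop
      rw [if_neg htop, if_neg htop', add_zero]

include hfg hs in
lemma lift_indep {k m : ℕ} {eK : ℕ → K} {eM : ℕ → M} {eL : ℕ → L} (hK : AdmN R k eK)
    (htop : sb R eK k = ⊤) (hM : AdmN R m eM) (h1 : ∀ i < k, eL i = f (eK i))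
    (h2 : ∀ j < m, g (eL (k + j)) = eM j) :
    symN R (k + m) eL = symN R (k + m) (W f s k eK eM) := by
  apply symN_unitri (adm_W f g s hfg hs hK htop hM)
  intro q hq
  by_cases hqk : q < k
  · rw [h1 q hqk, W_lt f s hqk, sub_self]
    exact Submodule.zero_mem _
  · obtain ⟨j, rfl⟩ : ∃ j, q = k + j := ⟨q - k, by omega⟩
    rw [W_add]
    have h3 : eL (k + j) - s (eM j) ∈ LinearMap.ker g := by
      rw [LinearMap.mem_ker, map_sub, h2 j (by omega), hs, sub_self]
    rw [← sb_W_k f g s hfg (u := eM) htop] at h3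
    exact sb_mono (Nat.le_add_right k j) h3

include hfg in
theorem exists_gamma (hg : Function.Surjective g) (k m n : ℕ) (hn : k + m = n)
    (hK : Module.length R K = (k : ℕ∞)) (hM : Module.length R M = (m : ℕ∞))
    (hL : Module.length R L = (n : ℕ∞)) :
    ∃ γ : (DetOfLen R K k ⊗[ResidueField R] DetOfLen R M m) ≃ₗ[ResidueField R] DetOfLen R L n,
      ∀ (eK : Adm R K k) (eM : Adm R M m) (eL : Adm R L n),
        (Submodule.Quotient.mk (sym R K eK) : DetOfLen R K k) ≠ 0 →
        (∀ i : Fin k, eL.1 (Fin.cast hn (Fin.castAdd m i)) = f (eK.1 i)) →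
        (∀ j : Fin m, g (eL.1 (Fin.cast hn (Fin.natAdd k j))) = eM.1 j) →
        γ ((Submodule.Quotient.mk (sym R K eK) : DetOfLen R K k) ⊗ₜ
          (Submodule.Quotient.mk (sym R M eM) : DetOfLen R M m))
          = Submodule.Quotient.mk (sym R L eL) := by
  subst hn
  obtain ⟨s, hs⟩ := hg.hasRightInverse
  obtain ⟨E0, hE0top⟩ := exists_gen (R := R) k K hK
  obtain ⟨F0, hF0top⟩ := exists_gen (R := R) m M hM
  have hE0 : AdmN R k (ext0 E0.1) := admN_ext0 E0
  have hF0 : AdmN R m (ext0 F0.1) := admN_ext0 F0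
  have hvK : (Submodule.Quotient.mk (sym R K E0) : DetOfLen R K k) ≠ 0 := by
    rw [← symN_ext0]; exact symN_ne_zero hK hE0 hE0top
  have hvM : (Submodule.Quotient.mk (sym R M F0) : DetOfLen R M m) ≠ 0 := by
    rw [← symN_ext0]; exact symN_ne_zero hM hF0 hF0top
  have hz : symN R (k + m) (W f s k (ext0 E0.1) (ext0 F0.1)) ≠ 0 :=
    symN_ne_zero hL (adm_W f g s hfg hs hE0 hE0top hF0) (gen_W f g s hfg hs hE0top hF0top)
  obtain ⟨φK, hφK⟩ := exists_phi (rank_le_one k K hK) _ hvK
  obtain ⟨φM, hφM⟩ := exists_phi (rank_le_one m M hM) _ hvM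
  obtain ⟨φL, hφL⟩ := exists_phi (rank_le_one (k + m) L hL) _ hz
  obtain ⟨S, hS⟩ := exists_S f g s hfg hs (k := k) hF0
  refine ⟨(TensorProduct.congr φK.symm φM.symm).trans
    ((TensorProduct.lid (ResidueField R) (ResidueField R)).trans φL), ?_⟩
  intro eK eM eL hne h1 h2
  have hwK : AdmN R k (ext0 eK.1) := admN_ext0 eK
  have hwM : AdmN R m (ext0 eM.1) := admN_ext0 eM
  have hwKtop : sb R (ext0 eK.1) k = ⊤ := by
    by_contra hcon
    apply hne
    rw [← symN_ext0]
    exact symN_eq_zero_of_not_gen hK hwK hcon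
  obtain ⟨T, hT⟩ := exists_T f g s hfg hs (m := m) hwK hwKtop
  have hh1 : ∀ i < k, ext0 eL.1 i = f (ext0 eK.1 i) := by
    intro i hi
    rw [ext0_lt _ hi, ext0_lt _ (by omega : i < k + m), ← h1 ⟨i, hi⟩]
    rfl
  have hh2 : ∀ j < m, g (ext0 eL.1 (k + j)) = ext0 eM.1 j := by
    intro j hj
    rw [ext0_lt _ hj, ext0_lt _ (by omega : k + j < k + m), ← h2 ⟨j, hj⟩]
    rfl
  obtain ⟨α, hα⟩ : ∃ α, φK.symm (Submodule.Quotient.mk (sym R K eK)) = α := ⟨_, rfl⟩
  obtain ⟨β, hβ⟩ : ∃ β, φM.symm (Submodule.Quotient.mk (sym R M eM)) = β := ⟨_, rfl⟩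
  have hα' : (Submodule.Quotient.mk (sym R K eK) : DetOfLen R K k)
      = α • Submodule.Quotient.mk (sym R K E0) := by
    rw [← hφK, ← hα, LinearEquiv.apply_symm_apply]
  have hβ' : (Submodule.Quotient.mk (sym R M eM) : DetOfLen R M m)
      = β • Submodule.Quotient.mk (sym R M F0) := by
    rw [← hφM, ← hβ, LinearEquiv.apply_symm_apply]
  have e1 : gS f s k m (ext0 F0.1) (ext0 eK.1)
      = symN R (k + m) (W f s k (ext0 eK.1) (ext0 F0.1)) := if_pos hwKtop
  have e2 : gS f s k m (ext0 F0.1) (ext0 E0.1)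
      = symN R (k + m) (W f s k (ext0 E0.1) (ext0 F0.1)) := if_pos hE0top
  have hchain : (Submodule.Quotient.mk (sym R L eL) : DetOfLen R L (k + m))
      = β • (α • symN R (k + m) (W f s k (ext0 E0.1) (ext0 F0.1))) := by
    rw [← symN_ext0 eL, lift_indep f g s hfg hs hwK hwKtop hwM hh1 hh2, ← hT eM, hβ', map_smul,
      hT F0, ← e1, ← hS eK, hα', map_smul, hS E0, e2]
  rw [LinearEquiv.trans_apply, LinearEquiv.trans_apply, TensorProduct.congr_tmul, hα, hβ,
    TensorProduct.lid_tmul, hφL, hchain, smul_smul, smul_eq_mul, mul_comm]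

end SES

end Groth.Agent.Lib.Helper64.CycDetD
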