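import Mathlib
import Groth.Prelude.Def_W4c3severiratdpLat

/-!
# The del Pezzo lattice `DP δ`: elementary facts on conic classes (helper library for S15905/S15906)
-/

set_option autoImplicit false

namespace Groth.Agent.Lib.Helper64.DPLat

open W4c3severiratdp

theorem form_self {δ : ℕ} (v : DP δ) : form v v = v 0 ^ 2 - ∑ i : Fin δ, v i.succ ^ 2 := by
  unfold form
  rw [sq]
  congr 1
  exact Finset.sum_congr rfl fun i _ => (sq _).symm

theorem form_canon {δ : ℕ} (v : DP δ) : form (canon δ) v = -3 * v 0 + ∑ i : Fin δ, v i.succ := by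
  unfold form canon
  simp only [Fin.cases_zero, Fin.cases_succ]
  rw [Finset.sum_congr rfl (fun i _ => neg_one_mul (v i.succ)), Finset.sum_neg_distrib]
  ring

theorem isConic_iff {δ : ℕ} (v : DP δ) :
    IsConic v ↔ v 0 ^ 2 = ∑ i : Fin δ, v i.succ ^ 2 ∧ ∑ i : Fin δ, v i.succ = 3 * v 0 - 2 := by
  unfold IsConic
  rw [form_self, form_canon]
  constructor
  · rintro ⟨h1, h2⟩
    exact ⟨by linarith, by linarith⟩
  · rintro ⟨h1, h2⟩
    exact ⟨by linarith, by linarith⟩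

/-- Cauchy–Schwarz with one coordinate removed. -/
theorem cs_erase {δ : ℕ} (b : Fin δ → ℤ) (i : Fin δ) :
    ((∑ k, b k) - b i) ^ 2 ≤ ((δ : ℤ) - 1) * ((∑ k, b k ^ 2) - b i ^ 2) := by
  classical
  have h1 : (∑ k, b k) - b i = ∑ k ∈ Finset.univ.erase i, b k := by
    rw [← Finset.add_sum_erase Finset.univ b (Finset.mem_univ i)]; ring
  have h2 : (∑ k, b k ^ 2) - b i ^ 2 = ∑ k ∈ Finset.univ.erase i, b k ^ 2 := by
    rw [← Finset.add_sum_erase Finset.univ (fun k => b k ^ 2) (Finset.mem_univ i)]; ring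
  rw [h1, h2]
  have h3 := sq_sum_le_card_mul_sum_sq (s := Finset.univ.erase i) (f := b)
  rw [Finset.card_erase_of_mem (Finset.mem_univ i), Finset.card_univ, Fintype.card_fin] at h3
  have hδ : 1 ≤ δ := by
    have := i.2; omega
  have h4 : ((δ - 1 : ℕ) : ℤ) = (δ : ℤ) - 1 := by
    rw [Nat.cast_sub hδ]; simp
  rw [← h4]
  exact h3

/-- Bounds on the coordinates of a conic class for `δ ≤ 8`. -/
theorem conic_bounds {δ : ℕ} (hδ : δ ≤ 8) (v : DP δ) (hv : IsConic v) :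
    1 ≤ v 0 ∧ v 0 ≤ 11 ∧ ∀ i : Fin δ, 0 ≤ v i.succ ∧ v i.succ ≤ 4 := by
  rw [isConic_iff] at hv
  obtain ⟨h1, h2⟩ := hv
  set a := v 0 with ha
  have key : ∀ i : Fin δ, (3 * a - 2 - v i.succ) ^ 2 ≤ 7 * (a ^ 2 - v i.succ ^ 2) := by
    intro i
    have h3 := cs_erase (fun k => v k.succ) i
    rw [h2, ← h1] at h3
    have h4 : 0 ≤ a ^ 2 - v i.succ ^ 2 := by
      rw [h1]
      have : v i.succ ^ 2 ≤ ∑ k : Fin δ, v k.succ ^ 2 :=
        Finset.single_le_sum (f := fun k => v k.succ ^ 2) (fun k _ => sq_nonneg _)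
          (Finset.mem_univ i)
      linarith
    have h5 : ((δ : ℤ) - 1) ≤ 7 := by
      have : (δ : ℤ) ≤ 8 := by exact_mod_cast hδ
      linarith
    calc (3 * a - 2 - v i.succ) ^ 2 ≤ ((δ : ℤ) - 1) * (a ^ 2 - v i.succ ^ 2) := h3
      _ ≤ 7 * (a ^ 2 - v i.succ ^ 2) := mul_le_mul_of_nonneg_right h5 h4
  by_cases hδ0 : δ = 0
  · subst hδ0
    simp at h1 h2
    omega
  obtain ⟨i0⟩ : Nonempty (Fin δ) := ⟨⟨0, Nat.pos_of_ne_zero hδ0⟩⟩
  have ha2 : a ^ 2 - 12 * a + 4 ≤ 0 := by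
    have := key i0
    nlinarith [sq_nonneg (8 * v i0.succ - 3 * a + 2)]
  have ha1 : 1 ≤ a := by
    by_contra h
    have : a ≤ 0 := by omega
    nlinarith
  have ha11 : a ≤ 11 := by
    by_contra h
    have : 12 ≤ a := by omega
    nlinarith
  refine ⟨ha1, ha11, fun i => ?_⟩
  have hk := key i
  set b := v i.succ with hb
  have hk' : (8 * b - 3 * a + 2) ^ 2 ≤ 7 * (-(a ^ 2) + 12 * a - 4) := by nlinarith
  constructor
  · by_contra h
    push_neg at h
    have : b ≤ -1 := by omega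
    interval_cases a <;> nlinarith
  · by_contra h
    push_neg at h
    have : 5 ≤ b := by omega
    interval_cases a <;> nlinarith

end Groth.Agent.Lib.Helper64.DPLat
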