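import Mathlib
import Groth.Agent.Lib.Helper64.DPLat

/-!
# Weyl group elements of the del Pezzo lattices `DP δ` (helper library for S15909 etc.)

Bilinearity of the form, the group structure on Weyl elements, coordinate permutations and
reflections.
-/

set_option autoImplicit false

namespace Groth.Agent.Lib.Helper64.DPWeyl

open W4c3severiratdp Groth.Agent.Lib.Helper64.DPLat

variable {δ : ℕ}

theorem form_add_left (v v' w : DP δ) : form (v + v') w = form v w + form v' w := by
  unfold form
  simp only [Pi.add_apply, add_mul, Finset.sum_add_distrib]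
  ring

theorem form_smul_left (c : ℤ) (v w : DP δ) : form (c • v) w = c * form v w := by
  unfold form
  simp only [Pi.smul_apply, smul_eq_mul, mul_assoc, ← Finset.mul_sum]
  ring

theorem form_comm (v w : DP δ) : form v w = form w v := by
  unfold form
  rw [mul_comm]
  congr 1
  exact Finset.sum_congr rfl fun i _ => mul_comm _ _

theorem form_add_right (v w w' : DP δ) : form v (w + w') = form v w + form v w' := by
  rw [form_comm, form_add_left, form_comm w, form_comm w']

theorem form_smul_right (c : ℤ) (v w : DP δ) : form v (c • w) = c * form v w := by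
  rw [form_comm, form_smul_left, form_comm]

theorem isWeyl_refl : IsWeyl (LinearEquiv.refl ℤ (DP δ)) := ⟨fun _ _ => rfl, rfl⟩

theorem IsWeyl.trans {g h : DP δ ≃ₗ[ℤ] DP δ} (hg : IsWeyl g) (hh : IsWeyl h) :
    IsWeyl (g.trans h) :=
  ⟨fun v w => by rw [LinearEquiv.trans_apply, LinearEquiv.trans_apply, hh.1, hg.1],
    by rw [LinearEquiv.trans_apply, hg.2, hh.2]⟩

theorem IsWeyl.symm {g : DP δ ≃ₗ[ℤ] DP δ} (hg : IsWeyl g) : IsWeyl g.symm :=
  ⟨fun v w => by
    rw [← hg.1 (g.symm v) (g.symm w), LinearEquiv.apply_symm_apply,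
      LinearEquiv.apply_symm_apply],
    by rw [LinearEquiv.symm_apply_eq]; exact hg.2.symm⟩

theorem IsWeyl.isExc {g : DP δ ≃ₗ[ℤ] DP δ} (hg : IsWeyl g) {v : DP δ} (hv : IsExc v) :
    IsExc (g v) := by
  refine ⟨by rw [hg.1]; exact hv.1, ?_⟩
  have := hg.1 (canon δ) v
  rw [hg.2] at this
  rw [this]; exact hv.2

theorem IsWeyl.isConic {g : DP δ ≃ₗ[ℤ] DP δ} (hg : IsWeyl g) {v : DP δ} (hv : IsConic v) :
    IsConic (g v) := by
  refine ⟨by rw [hg.1]; exact hv.1, ?_⟩
  have := hg.1 (canon δ) v
  rw [hg.2] at this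
  rw [this]; exact hv.2

/-- Permutation of the `b`-coordinates. -/
def permL (σ : Equiv.Perm (Fin δ)) : DP δ ≃ₗ[ℤ] DP δ where
  toFun v := Fin.cons (v 0) (fun i => v (σ i).succ)
  invFun v := Fin.cons (v 0) (fun i => v (σ.symm i).succ)
  map_add' v w := by
    funext j
    refine Fin.cases ?_ (fun i => ?_) j <;> simp
  map_smul' c v := by
    funext j
    refine Fin.cases ?_ (fun i => ?_) j <;> simp
  left_inv v := by
    funext j
    refine Fin.cases ?_ (fun i => ?_) j <;> simp
  right_inv v := by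
    funext j
    refine Fin.cases ?_ (fun i => ?_) j <;> simp

@[simp] theorem permL_zero (σ : Equiv.Perm (Fin δ)) (v : DP δ) : permL σ v 0 = v 0 := rfl

@[simp] theorem permL_succ (σ : Equiv.Perm (Fin δ)) (v : DP δ) (i : Fin δ) :
    permL σ v i.succ = v (σ i).succ := by
  show (Fin.cons (v 0) (fun i => v (σ i).succ) : DP δ) i.succ = _
  rw [Fin.cons_succ]

theorem isWeyl_permL (σ : Equiv.Perm (Fin δ)) : IsWeyl (permL σ) := by
  constructor
  · intro v w
    unfold form
    simp only [permL_zero, permL_succ]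
    rw [Equiv.sum_comp σ (fun i => v i.succ * w i.succ)]
  · funext j
    refine Fin.cases ?_ (fun i => ?_) j
    · rfl
    · rw [permL_succ]
      simp [canon]

/-- The reflection in a root `r` (`r · r = -2`). -/
def reflL (r : DP δ) (hr : form r r = -2) : DP δ ≃ₗ[ℤ] DP δ where
  toFun v := v + form v r • r
  invFun v := v + form v r • r
  map_add' v w := by
    rw [form_add_left, add_smul]; abel
  map_smul' c v := by
    rw [form_smul_left, RingHom.id_apply, smul_add, smul_smul]
  left_inv v := by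
    show v + form v r • r + form (v + form v r • r) r • r = v
    rw [form_add_left, form_smul_left, hr, add_assoc, ← add_smul]
    have : form v r + (form v r + form v r * -2) = 0 := by ring
    rw [this, zero_smul, add_zero]
  right_inv v := by
    show v + form v r • r + form (v + form v r • r) r • r = v
    rw [form_add_left, form_smul_left, hr, add_assoc, ← add_smul]
    have : form v r + (form v r + form v r * -2) = 0 := by ring
    rw [this, zero_smul, add_zero]

theorem reflL_apply (r : DP δ) (hr : form r r = -2) (v : DP δ) :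
    reflL r hr v = v + form v r • r := rfl

theorem isWeyl_reflL (r : DP δ) (hr : form r r = -2) (hK : form (canon δ) r = 0) :
    IsWeyl (reflL r hr) := by
  constructor
  · intro v w
    rw [reflL_apply, reflL_apply, form_add_left, form_add_right, form_add_right, form_smul_left,
      form_smul_left, form_smul_right, form_smul_right, hr, form_comm r w]
    ring
  · rw [reflL_apply, hK, zero_smul, add_zero]

theorem isExc_iff (v : DP δ) :
    IsExc v ↔ v 0 ^ 2 + 1 = ∑ i : Fin δ, v i.succ ^ 2 ∧ ∑ i : Fin δ, v i.succ = 3 * v 0 - 1 := by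
  unfold IsExc
  rw [form_self, form_canon]
  constructor
  · rintro ⟨h1, h2⟩
    exact ⟨by linarith, by linarith⟩
  · rintro ⟨h1, h2⟩
    exact ⟨by linarith, by linarith⟩

/-- Bounds on the coordinates of an exceptional class for `δ ≤ 8`. -/
theorem exc_bounds (hδ : δ ≤ 8) (v : DP δ) (hv : IsExc v) :
    0 ≤ v 0 ∧ v 0 ≤ 6 ∧ ∀ i : Fin δ, -1 ≤ v i.succ ∧ v i.succ ≤ 3 := by
  rw [isExc_iff] at hv
  obtain ⟨h1, h2⟩ := hv
  set a := v 0 with ha
  have key : ∀ i : Fin δ, (3 * a - 1 - v i.succ) ^ 2 ≤ 7 * (a ^ 2 + 1 - v i.succ ^ 2) := by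
    intro i
    have h3 := cs_erase (fun k => v k.succ) i
    rw [h2, ← h1] at h3
    have h4 : 0 ≤ a ^ 2 + 1 - v i.succ ^ 2 := by
      rw [h1]
      have : v i.succ ^ 2 ≤ ∑ k : Fin δ, v k.succ ^ 2 :=
        Finset.single_le_sum (f := fun k => v k.succ ^ 2) (fun k _ => sq_nonneg _)
          (Finset.mem_univ i)
      linarith
    have h5 : ((δ : ℤ) - 1) ≤ 7 := by
      have : (δ : ℤ) ≤ 8 := by exact_mod_cast hδ
      linarith
    calc (3 * a - 1 - v i.succ) ^ 2 ≤ ((δ : ℤ) - 1) * (a ^ 2 + 1 - v i.succ ^ 2) := h3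
      _ ≤ 7 * (a ^ 2 + 1 - v i.succ ^ 2) := mul_le_mul_of_nonneg_right h5 h4
  by_cases hδ0 : δ = 0
  · subst hδ0
    simp at h1 h2
    nlinarith
  obtain ⟨i0⟩ : Nonempty (Fin δ) := ⟨⟨0, Nat.pos_of_ne_zero hδ0⟩⟩
  have hk' : ∀ i : Fin δ, (8 * v i.succ - 3 * a + 1) ^ 2 ≤ 7 * (-(a ^ 2) + 6 * a + 7) := by
    intro i
    have := key i
    nlinarith
  have ha0 : 0 ≤ a := by
    by_contra h
    have h' : a ≤ -1 := by omega
    have := hk' i0
    have h2 : -(a ^ 2) + 6 * a + 7 ≤ 0 := by nlinarith
    have h3 : (8 * v i0.succ - 3 * a + 1) ^ 2 ≤ 0 := by nlinarith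
    have h4 : 8 * v i0.succ - 3 * a + 1 = 0 := by nlinarith [sq_nonneg (8 * v i0.succ - 3 * a + 1)]
    have h5 : a = -1 := by nlinarith
    omega
  have ha6 : a ≤ 6 := by
    by_contra h
    have h' : 7 ≤ a := by omega
    have := hk' i0
    have h2 : -(a ^ 2) + 6 * a + 7 ≤ 0 := by nlinarith
    have h3 : (8 * v i0.succ - 3 * a + 1) ^ 2 ≤ 0 := by nlinarith
    have h4 : 8 * v i0.succ - 3 * a + 1 = 0 := by nlinarith [sq_nonneg (8 * v i0.succ - 3 * a + 1)]
    have h5 : a = 7 := by nlinarith
    omega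
  refine ⟨ha0, ha6, fun i => ?_⟩
  have hk := hk' i
  set b := v i.succ with hb
  constructor
  · by_contra h
    have : b ≤ -2 := by omega
    interval_cases a <;> nlinarith
  · by_contra h
    have : 4 ≤ b := by omega
    interval_cases a <;> nlinarith

end Groth.Agent.Lib.Helper64.DPWeyl
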