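import Mathlib
import Groth.Agent.Lib.Helper64.DPWeyl

/-!
# Exceptional classes of `DP 8`: the stabiliser of an exceptional class (helper library for S15909)
-/

set_option autoImplicit false

namespace Groth.Agent.Lib.Helper64.DPExc8

open W4c3severiratdp Groth.Agent.Lib.Helper64.DPLat Groth.Agent.Lib.Helper64.DPWeyl

/-- The exceptional class `e_8`. -/
def E0 : DP 8 := ![0, 0, 0, 0, 0, 0, 0, 0, -1]

def M0 : DP 8 := ![0, 0, 0, 0, 0, 0, 0, -1, 0]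
def M1 : DP 8 := ![1, 1, 0, 0, 0, 0, 0, 0, 1]
def M2 : DP 8 := ![3, 1, 1, 1, 1, 1, 1, 0, 2]
def M3 : DP 8 := ![6, 2, 2, 2, 2, 2, 2, 2, 3]

/-- Normal forms of exceptional classes under the stabiliser of `E0`, by the last coordinate. -/
def Mk (k : ℤ) : DP 8 :=
  if k = -1 then E0 else if k = 0 then M0 else if k = 1 then M1 else if k = 2 then M2 else M3

def r012 : DP 8 := ![1, 1, 1, 1, 0, 0, 0, 0, 0]

/-- The standard Cremona reflection. -/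
def crem : DP 8 ≃ₗ[ℤ] DP 8 := reflL r012 (by decide)

theorem isWeyl_crem : IsWeyl crem := isWeyl_reflL _ _ (by decide)

theorem form_r012 (v : DP 8) : form v r012 = v 0 - v 1 - v 2 - v 3 := by
  unfold form r012
  rw [Fin.sum_univ_eight]
  simp
  ring

theorem crem_apply (v : DP 8) (j : Fin 9) :
    crem v j = v j + (v 0 - v 1 - v 2 - v 3) * r012 j := by
  show (v + form v r012 • r012) j = _
  rw [form_r012]
  rfl

theorem crem_zero (v : DP 8) : crem v 0 = 2 * v 0 - v 1 - v 2 - v 3 := by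
  rw [crem_apply]
  show v 0 + (v 0 - v 1 - v 2 - v 3) * 1 = _
  ring

theorem crem_eight (v : DP 8) : crem v 8 = v 8 := by
  rw [crem_apply]
  show v 8 + (v 0 - v 1 - v 2 - v 3) * 0 = _
  ring

theorem crem_E0 : crem E0 = E0 := by decide

theorem E0_succ (i : Fin 8) : E0 i.succ = if i = 7 then -1 else 0 := by
  fin_cases i <;> rfl

theorem permL_E0 (σ : Equiv.Perm (Fin 8)) (hσ : σ 7 = 7) : permL σ E0 = E0 := by
  funext j
  refine Fin.cases ?_ (fun i => ?_) j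
  · rfl
  · rw [permL_succ, E0_succ, E0_succ]
    have : σ i = 7 ↔ i = 7 := by
      constructor
      · intro h
        rw [← hσ] at h
        exact σ.injective h
      · rintro rfl
        exact hσ
    simp only [this]

/-- Sorting the first seven `b`-coordinates in decreasing order. -/
theorem exists_sort7 (v : DP 8) (hb : ∀ i : Fin 8, -1 ≤ v i.succ ∧ v i.succ ≤ 3) :
    ∃ σ : Equiv.Perm (Fin 8), σ 7 = 7 ∧
      ∀ i j : Fin 8, i ≤ j → j < 7 → v (σ j).succ ≤ v (σ i).succ := by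
  let f : Fin 8 → ℤ := fun i => if i = 7 then 100 else - v i.succ
  let σ : Equiv.Perm (Fin 8) := Tuple.sort f
  have hmono : Monotone (f ∘ σ) := Tuple.monotone_sort f
  have hf7 : ∀ i : Fin 8, i ≠ 7 → f i ≤ 1 := by
    intro i hi
    show (if i = 7 then (100 : ℤ) else - v i.succ) ≤ 1
    rw [if_neg hi]
    have := (hb i).1
    omega
  have hσ7 : σ 7 = 7 := by
    by_contra h
    have h1 : f (σ (σ.symm 7)) ≤ f (σ 7) := hmono (Fin.le_last _)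
    rw [Equiv.apply_symm_apply] at h1
    have h2 : f 7 = 100 := by
      show (if (7 : Fin 8) = 7 then (100 : ℤ) else _) = 100
      rw [if_pos rfl]
    have h3 := hf7 _ h
    omega
  refine ⟨σ, hσ7, fun i j hij hj => ?_⟩
  have hne : ∀ t : Fin 8, t < 7 → σ t ≠ 7 := by
    intro t ht h
    rw [← hσ7] at h
    have := σ.injective h
    rw [this] at ht
    exact lt_irrefl _ ht
  have h1 : f (σ i) ≤ f (σ j) := hmono hij
  have hi7 : i < 7 := lt_of_le_of_lt hij hj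
  have e1 : f (σ i) = - v (σ i).succ := by
    show (if σ i = 7 then (100 : ℤ) else _) = _
    rw [if_neg (hne i hi7)]
  have e2 : f (σ j) = - v (σ j).succ := by
    show (if σ j = 7 then (100 : ℤ) else _) = _
    rw [if_neg (hne j hj)]
  rw [e1, e2] at h1
  omega

set_option maxRecDepth 1000000 in
set_option synthInstance.maxSize 100000 in
set_option synthInstance.maxHeartbeats 2000000 in
set_option maxHeartbeats 4000000 in
/-- The arithmetic core, as a bounded statement checked by the kernel. -/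
theorem enum7_dec : ∀ a ∈ Finset.Icc (0:ℤ) 6, ∀ k ∈ Finset.Icc (-1:ℤ) 3,
    ∀ w0 ∈ Finset.Icc (-1:ℤ) 3, ∀ w1 ∈ Finset.Icc (-1:ℤ) w0, ∀ w2 ∈ Finset.Icc (-1:ℤ) w1,
    ∀ w3 ∈ Finset.Icc (-1:ℤ) w2, ∀ w4 ∈ Finset.Icc (-1:ℤ) w3, ∀ w5 ∈ Finset.Icc (-1:ℤ) w4,
    ∀ w6 ∈ Finset.Icc (-1:ℤ) w5,
    a ^ 2 + 1 = w0 ^ 2 + w1 ^ 2 + w2 ^ 2 + w3 ^ 2 + w4 ^ 2 + w5 ^ 2 + w6 ^ 2 + k ^ 2 →
    w0 + w1 + w2 + w3 + w4 + w5 + w6 + k = 3 * a - 1 →
    w0 + w1 + w2 ≤ a →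
    (a = 0 ∧ k = -1 ∧ w0 = 0 ∧ w1 = 0 ∧ w2 = 0 ∧ w3 = 0 ∧ w4 = 0 ∧ w5 = 0 ∧ w6 = 0) ∨
    (a = 0 ∧ k = 0 ∧ w0 = 0 ∧ w1 = 0 ∧ w2 = 0 ∧ w3 = 0 ∧ w4 = 0 ∧ w5 = 0 ∧ w6 = -1) ∨
    (a = 1 ∧ k = 1 ∧ w0 = 1 ∧ w1 = 0 ∧ w2 = 0 ∧ w3 = 0 ∧ w4 = 0 ∧ w5 = 0 ∧ w6 = 0) ∨
    (a = 3 ∧ k = 2 ∧ w0 = 1 ∧ w1 = 1 ∧ w2 = 1 ∧ w3 = 1 ∧ w4 = 1 ∧ w5 = 1 ∧ w6 = 0) ∨
    (a = 6 ∧ k = 3 ∧ w0 = 2 ∧ w1 = 2 ∧ w2 = 2 ∧ w3 = 2 ∧ w4 = 2 ∧ w5 = 2 ∧ w6 = 2) := by
  decide +kernel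

/-- The arithmetic core: minimal exceptional vectors with sorted first seven coordinates. -/
theorem enum7 (a k w0 w1 w2 w3 w4 w5 w6 : ℤ) (ha0 : 0 ≤ a) (ha6 : a ≤ 6)
    (hk0 : -1 ≤ k) (hk3 : k ≤ 3) (l6 : -1 ≤ w6) (u0 : w0 ≤ 3)
    (m01 : w1 ≤ w0) (m12 : w2 ≤ w1) (m23 : w3 ≤ w2) (m34 : w4 ≤ w3) (m45 : w5 ≤ w4)
    (m56 : w6 ≤ w5)
    (h1 : a ^ 2 + 1 = w0 ^ 2 + w1 ^ 2 + w2 ^ 2 + w3 ^ 2 + w4 ^ 2 + w5 ^ 2 + w6 ^ 2 + k ^ 2)
    (h2 : w0 + w1 + w2 + w3 + w4 + w5 + w6 + k = 3 * a - 1)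
    (hmin : w0 + w1 + w2 ≤ a) :
    (a = 0 ∧ k = -1 ∧ w0 = 0 ∧ w1 = 0 ∧ w2 = 0 ∧ w3 = 0 ∧ w4 = 0 ∧ w5 = 0 ∧ w6 = 0) ∨
    (a = 0 ∧ k = 0 ∧ w0 = 0 ∧ w1 = 0 ∧ w2 = 0 ∧ w3 = 0 ∧ w4 = 0 ∧ w5 = 0 ∧ w6 = -1) ∨
    (a = 1 ∧ k = 1 ∧ w0 = 1 ∧ w1 = 0 ∧ w2 = 0 ∧ w3 = 0 ∧ w4 = 0 ∧ w5 = 0 ∧ w6 = 0) ∨
    (a = 3 ∧ k = 2 ∧ w0 = 1 ∧ w1 = 1 ∧ w2 = 1 ∧ w3 = 1 ∧ w4 = 1 ∧ w5 = 1 ∧ w6 = 0) ∨
    (a = 6 ∧ k = 3 ∧ w0 = 2 ∧ w1 = 2 ∧ w2 = 2 ∧ w3 = 2 ∧ w4 = 2 ∧ w5 = 2 ∧ w6 = 2) :=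
  enum7_dec a (Finset.mem_Icc.mpr ⟨ha0, ha6⟩) k (Finset.mem_Icc.mpr ⟨hk0, hk3⟩)
    w0 (Finset.mem_Icc.mpr ⟨by omega, u0⟩) w1 (Finset.mem_Icc.mpr ⟨by omega, m01⟩)
    w2 (Finset.mem_Icc.mpr ⟨by omega, m12⟩) w3 (Finset.mem_Icc.mpr ⟨by omega, m23⟩)
    w4 (Finset.mem_Icc.mpr ⟨by omega, m34⟩) w5 (Finset.mem_Icc.mpr ⟨by omega, m45⟩)
    w6 (Finset.mem_Icc.mpr ⟨l6, m56⟩) h1 h2 hmin

theorem form_E0 (v : DP 8) : form v E0 = v 8 := by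
  unfold form E0
  rw [Fin.sum_univ_eight]
  simp

theorem eq_vec (v : DP 8) : v = ![v 0, v 1, v 2, v 3, v 4, v 5, v 6, v 7, v 8] := by
  funext j
  fin_cases j <;> rfl

/-- Descent: every exceptional class is moved by the stabiliser of `E0` to a normal form. -/
theorem descent7 : ∀ (n : ℕ) (v : DP 8), IsExc v → v 0 = (n : ℤ) →
    ∃ g : DP 8 ≃ₗ[ℤ] DP 8, IsWeyl g ∧ g E0 = E0 ∧ g v = Mk (v 8) := by
  intro n
  induction n using Nat.strong_induction_on with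
  | _ n ih =>
    intro v hv hn
    obtain ⟨ha0, ha6, hb⟩ := exc_bounds (le_refl 8) v hv
    obtain ⟨σ, hσ7, hsort⟩ := exists_sort7 v hb
    obtain ⟨v', hv'⟩ : ∃ v', v' = permL σ v := ⟨_, rfl⟩
    have hv'exc : IsExc v' := by rw [hv']; exact IsWeyl.isExc (isWeyl_permL σ) hv
    have hw : ∀ i : Fin 8, v' i.succ = v (σ i).succ := fun i => by rw [hv']; exact permL_succ σ v i
    have h0 : v' 0 = v 0 := by rw [hv']; rfl
    have h8 : v' 8 = v 8 := by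
      have := hw 7
      rw [hσ7] at this
      exact this
    by_cases hlt : v' 0 < v' 1 + v' 2 + v' 3
    · have hexc'' : IsExc (crem v') := IsWeyl.isExc isWeyl_crem hv'exc
      obtain ⟨ha0'', -, -⟩ := exc_bounds (le_refl 8) (crem v') hexc''
      have h0'' : crem v' 0 = 2 * v' 0 - v' 1 - v' 2 - v' 3 := crem_zero v'
      have hlt'' : (crem v' 0).toNat < n := by omega
      obtain ⟨g, hg, hgE, hgv⟩ := ih (crem v' 0).toNat hlt'' (crem v') hexc'' (by omega)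
      refine ⟨(permL σ).trans (crem.trans g),
        IsWeyl.trans (isWeyl_permL σ) (IsWeyl.trans isWeyl_crem hg), ?_, ?_⟩
      · rw [LinearEquiv.trans_apply, LinearEquiv.trans_apply, permL_E0 σ hσ7, crem_E0, hgE]
      · rw [LinearEquiv.trans_apply, LinearEquiv.trans_apply, ← hv', hgv, crem_eight, h8]
    · obtain ⟨ha0', ha6', hb'⟩ := exc_bounds (le_refl 8) v' hv'exc
      have hexc2 := (isExc_iff v').mp hv'exc
      obtain ⟨h1, h2⟩ := hexc2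
      rw [Fin.sum_univ_eight] at h1 h2
      have s01 : v' 2 ≤ v' 1 := by
        have h := hsort 0 1 (by decide) (by decide); rw [← hw, ← hw] at h; exact h
      have s12 : v' 3 ≤ v' 2 := by
        have h := hsort 1 2 (by decide) (by decide); rw [← hw, ← hw] at h; exact h
      have s23 : v' 4 ≤ v' 3 := by
        have h := hsort 2 3 (by decide) (by decide); rw [← hw, ← hw] at h; exact h
      have s34 : v' 5 ≤ v' 4 := by
        have h := hsort 3 4 (by decide) (by decide); rw [← hw, ← hw] at h; exact h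
      have s45 : v' 6 ≤ v' 5 := by
        have h := hsort 4 5 (by decide) (by decide); rw [← hw, ← hw] at h; exact h
      have s56 : v' 7 ≤ v' 6 := by
        have h := hsort 5 6 (by decide) (by decide); rw [← hw, ← hw] at h; exact h
      have hmin : v' 1 + v' 2 + v' 3 ≤ v' 0 := by omega
      have hfin := enum7 (v' 0) (v' 8) (v' 1) (v' 2) (v' 3) (v' 4) (v' 5) (v' 6) (v' 7)
        ha0' ha6' (hb' 7).1 (hb' 7).2 (hb' 6).1 (hb' 0).2 s01 s12 s23 s34 s45 s56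
        h1 h2 hmin
      refine ⟨permL σ, isWeyl_permL σ, permL_E0 σ hσ7, ?_⟩
      rw [← hv', ← h8, eq_vec v']
      rcases hfin with ⟨e0, e8, e1, e2, e3, e4, e5, e6, e7⟩ | ⟨e0, e8, e1, e2, e3, e4, e5, e6, e7⟩ |
        ⟨e0, e8, e1, e2, e3, e4, e5, e6, e7⟩ | ⟨e0, e8, e1, e2, e3, e4, e5, e6, e7⟩ |
        ⟨e0, e8, e1, e2, e3, e4, e5, e6, e7⟩ <;>
      · rw [e0, e1, e2, e3, e4, e5, e6, e7, e8]
        decide

def rA : DP 8 := ![1, 1, 1, 0, 0, 0, 0, 0, 1]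
def rB : DP 8 := ![1, 0, 0, 1, 1, 1, 0, 0, 0]
def rC : DP 8 := ![1, 1, 0, 0, 0, 0, 1, 0, 1]
def rD : DP 8 := ![1, 0, 0, 0, 0, 0, 1, 1, 1]
def rE : DP 8 := ![1, 0, 0, 0, 1, 1, 1, 0, 0]

def sA : DP 8 ≃ₗ[ℤ] DP 8 := reflL rA (by decide)
def sB : DP 8 ≃ₗ[ℤ] DP 8 := reflL rB (by decide)
def sC : DP 8 ≃ₗ[ℤ] DP 8 := reflL rC (by decide)
def sD : DP 8 ≃ₗ[ℤ] DP 8 := reflL rD (by decide)
def sE : DP 8 ≃ₗ[ℤ] DP 8 := reflL rE (by decide)

theorem isWeyl_sA : IsWeyl sA := isWeyl_reflL _ _ (by decide)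
theorem isWeyl_sB : IsWeyl sB := isWeyl_reflL _ _ (by decide)
theorem isWeyl_sC : IsWeyl sC := isWeyl_reflL _ _ (by decide)
theorem isWeyl_sD : IsWeyl sD := isWeyl_reflL _ _ (by decide)
theorem isWeyl_sE : IsWeyl sE := isWeyl_reflL _ _ (by decide)

theorem chain0 : permL (Equiv.swap 6 7) M0 = E0 := by decide
theorem chain1 : permL (Equiv.swap 1 7) (sA M1) = E0 := by decide
theorem chain2 : permL (Equiv.swap 0 7) (sC (sB (sA M2))) = E0 := by decide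
theorem chain3 : permL (Equiv.swap 5 7) (sE (crem (sD (sB (sA M3))))) = E0 := by decide

/-- The Weyl group is transitive on exceptional classes of `DP 8`. -/
theorem exists_E0 (L : DP 8) (hL : IsExc L) : ∃ g : DP 8 ≃ₗ[ℤ] DP 8, IsWeyl g ∧ g L = E0 := by
  obtain ⟨ha0, -, hb⟩ := exc_bounds (le_refl 8) L hL
  obtain ⟨g1, hg1, -, hg1L⟩ := descent7 (L 0).toNat L hL (by omega)
  obtain ⟨k, hk⟩ : ∃ k, k = L 8 := ⟨_, rfl⟩
  have hk1 : -1 ≤ k := by rw [hk]; exact (hb 7).1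
  have hk3 : k ≤ 3 := by rw [hk]; exact (hb 7).2
  rw [← hk] at hg1L
  interval_cases k
  · exact ⟨g1, hg1, hg1L⟩
  · refine ⟨g1.trans (permL (Equiv.swap 6 7)), IsWeyl.trans hg1 (isWeyl_permL _), ?_⟩
    rw [LinearEquiv.trans_apply, hg1L]
    exact chain0
  · refine ⟨g1.trans (sA.trans (permL (Equiv.swap 1 7))),
      IsWeyl.trans hg1 (IsWeyl.trans isWeyl_sA (isWeyl_permL _)), ?_⟩
    rw [LinearEquiv.trans_apply, LinearEquiv.trans_apply, hg1L]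
    exact chain1
  · refine ⟨g1.trans (sA.trans (sB.trans (sC.trans (permL (Equiv.swap 0 7))))),
      IsWeyl.trans hg1 (IsWeyl.trans isWeyl_sA (IsWeyl.trans isWeyl_sB
        (IsWeyl.trans isWeyl_sC (isWeyl_permL _)))), ?_⟩
    simp only [LinearEquiv.trans_apply]
    rw [hg1L]
    exact chain2
  · refine ⟨g1.trans (sA.trans (sB.trans (sD.trans (crem.trans (sE.trans
        (permL (Equiv.swap 5 7))))))),
      IsWeyl.trans hg1 (IsWeyl.trans isWeyl_sA (IsWeyl.trans isWeyl_sB (IsWeyl.trans isWeyl_sD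
        (IsWeyl.trans isWeyl_crem (IsWeyl.trans isWeyl_sE (isWeyl_permL _)))))), ?_⟩
    simp only [LinearEquiv.trans_apply]
    rw [hg1L]
    exact chain3

/-- The stabiliser of an exceptional class `L` is transitive on the exceptional classes with a
given intersection number with `L`. -/
theorem stab_transitive (L L₁ L₂ : DP 8) (hL : IsExc L) (hL₁ : IsExc L₁) (hL₂ : IsExc L₂)
    (h : form L₁ L = form L₂ L) :
    ∃ g : DP 8 ≃ₗ[ℤ] DP 8, IsWeyl g ∧ g L = L ∧ g L₁ = L₂ := by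
  obtain ⟨g0, hg0, hg0L⟩ := exists_E0 L hL
  have e1 : g0 L₁ 8 = g0 L₂ 8 := by
    rw [← form_E0 (g0 L₁), ← form_E0 (g0 L₂), ← hg0L, hg0.1, hg0.1, h]
  have hx1 : IsExc (g0 L₁) := IsWeyl.isExc hg0 hL₁
  have hx2 : IsExc (g0 L₂) := IsWeyl.isExc hg0 hL₂
  obtain ⟨ha1, -, -⟩ := exc_bounds (le_refl 8) _ hx1
  obtain ⟨ha2, -, -⟩ := exc_bounds (le_refl 8) _ hx2
  obtain ⟨h1, hh1, hh1E, hh1v⟩ := descent7 (g0 L₁ 0).toNat _ hx1 (by omega)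
  obtain ⟨h2, hh2, hh2E, hh2v⟩ := descent7 (g0 L₂ 0).toNat _ hx2 (by omega)
  refine ⟨g0.trans (h1.trans (h2.symm.trans g0.symm)),
    IsWeyl.trans hg0 (IsWeyl.trans hh1 (IsWeyl.trans (IsWeyl.symm hh2) (IsWeyl.symm hg0))), ?_, ?_⟩
  · simp only [LinearEquiv.trans_apply]
    rw [hg0L, hh1E, (LinearEquiv.symm_apply_eq h2).mpr hh2E.symm,
      (LinearEquiv.symm_apply_eq g0).mpr hg0L.symm]
  · simp only [LinearEquiv.trans_apply]
    rw [hh1v, e1, ← hh2v, LinearEquiv.symm_apply_apply, LinearEquiv.symm_apply_apply]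

end Groth.Agent.Lib.Helper64.DPExc8
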