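import Mathlib
import Groth.Agent.Lib.Helper64.DPExc8

/-!
# Exceptional classes of `DP 8`: second descent and orbits of triples (helper library for S15910)
-/

set_option autoImplicit false

namespace Groth.Agent.Lib.Helper64.DPExc8

open W4c3severiratdp Groth.Agent.Lib.Helper64.DPLat Groth.Agent.Lib.Helper64.DPWeyl

/-- Sorting the first block of coordinates in decreasing order, fixing the second block. -/
theorem exists_sort_left (m n : ℕ) (b : Fin (m + n) → ℤ) :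
    ∃ σ : Equiv.Perm (Fin (m + n)), (∀ j : Fin n, σ (Fin.natAdd m j) = Fin.natAdd m j) ∧
      ∀ i j : Fin m, i ≤ j → b (σ (Fin.castAdd n j)) ≤ b (σ (Fin.castAdd n i)) := by
  let f : Fin m → ℤ := fun i => - b (Fin.castAdd n i)
  let τ : Equiv.Perm (Fin m) := Tuple.sort f
  have hmono : Monotone (f ∘ τ) := Tuple.monotone_sort f
  refine ⟨finSumFinEquiv.permCongr (Equiv.sumCongr τ (Equiv.refl (Fin n))), ?_, ?_⟩
  · intro j
    rw [Equiv.permCongr_apply, finSumFinEquiv_symm_apply_natAdd]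
    rfl
  · intro i j hij
    rw [Equiv.permCongr_apply, Equiv.permCongr_apply, finSumFinEquiv_symm_apply_castAdd,
      finSumFinEquiv_symm_apply_castAdd]
    show b (Fin.castAdd n (τ j)) ≤ b (Fin.castAdd n (τ i))
    have := hmono hij
    simp only [Function.comp, f] at this
    omega

/-- Sorting the second block of coordinates in decreasing order, fixing the first block. -/
theorem exists_sort_right (m n : ℕ) (b : Fin (m + n) → ℤ) :
    ∃ σ : Equiv.Perm (Fin (m + n)), (∀ j : Fin m, σ (Fin.castAdd n j) = Fin.castAdd n j) ∧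
      ∀ i j : Fin n, i ≤ j → b (σ (Fin.natAdd m j)) ≤ b (σ (Fin.natAdd m i)) := by
  let f : Fin n → ℤ := fun i => - b (Fin.natAdd m i)
  let τ : Equiv.Perm (Fin n) := Tuple.sort f
  have hmono : Monotone (f ∘ τ) := Tuple.monotone_sort f
  refine ⟨finSumFinEquiv.permCongr (Equiv.sumCongr (Equiv.refl (Fin m)) τ), ?_, ?_⟩
  · intro j
    rw [Equiv.permCongr_apply, finSumFinEquiv_symm_apply_castAdd]
    rfl
  · intro i j hij
    rw [Equiv.permCongr_apply, Equiv.permCongr_apply, finSumFinEquiv_symm_apply_natAdd,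
      finSumFinEquiv_symm_apply_natAdd]
    show b (Fin.natAdd m (τ j)) ≤ b (Fin.natAdd m (τ i))
    have := hmono hij
    simp only [Function.comp, f] at this
    omega

theorem exists_sort6 (v : DP 8) :
    ∃ σ : Equiv.Perm (Fin 8), σ 6 = 6 ∧ σ 7 = 7 ∧
      ∀ i j : Fin 8, i ≤ j → j < 6 → v (σ j).succ ≤ v (σ i).succ := by
  obtain ⟨σ, h1, h2⟩ := exists_sort_left 6 2 (fun i : Fin 8 => v i.succ)
  refine ⟨σ, h1 0, h1 1, fun i j hij hj => ?_⟩
  have hi : i < 6 := lt_of_le_of_lt hij hj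
  have ei : Fin.castAdd 2 (⟨i.val, hi⟩ : Fin 6) = i := Fin.ext rfl
  have ej : Fin.castAdd 2 (⟨j.val, hj⟩ : Fin 6) = j := Fin.ext rfl
  have := h2 ⟨i.val, hi⟩ ⟨j.val, hj⟩ hij
  rw [ei, ej] at this
  exact this

def N6 : DP 8 := ![1, 1, 0, 0, 0, 0, 0, 1, 0]

theorem crem_M0 : crem M0 = M0 := by decide

theorem crem_seven (v : DP 8) : crem v 7 = v 7 := by
  rw [crem_apply]
  show v 7 + (v 0 - v 1 - v 2 - v 3) * 0 = _
  ring

theorem M0_succ (i : Fin 8) : M0 i.succ = if i = 6 then -1 else 0 := by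
  fin_cases i <;> rfl

theorem permL_M0 (σ : Equiv.Perm (Fin 8)) (hσ : σ 6 = 6) : permL σ M0 = M0 := by
  funext j
  refine Fin.cases ?_ (fun i => ?_) j
  · rfl
  · rw [permL_succ, M0_succ, M0_succ]
    have : σ i = 6 ↔ i = 6 := by
      constructor
      · intro h
        rw [← hσ] at h
        exact σ.injective h
      · rintro rfl
        exact hσ
    simp only [this]

theorem form_M0 (v : DP 8) : form v M0 = v 7 := by
  unfold form M0
  rw [Fin.sum_univ_eight]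
  simp

set_option maxRecDepth 1000000 in
set_option synthInstance.maxSize 100000 in
set_option synthInstance.maxHeartbeats 2000000 in
set_option maxHeartbeats 4000000 in
theorem enum6_dec : ∀ a ∈ Finset.Icc (0:ℤ) 6,
    ∀ w0 ∈ Finset.Icc (-1:ℤ) 3, ∀ w1 ∈ Finset.Icc (-1:ℤ) w0, ∀ w2 ∈ Finset.Icc (-1:ℤ) w1,
    ∀ w3 ∈ Finset.Icc (-1:ℤ) w2, ∀ w4 ∈ Finset.Icc (-1:ℤ) w3, ∀ w5 ∈ Finset.Icc (-1:ℤ) w4,
    a ^ 2 + 1 = w0 ^ 2 + w1 ^ 2 + w2 ^ 2 + w3 ^ 2 + w4 ^ 2 + w5 ^ 2 + 1 →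
    w0 + w1 + w2 + w3 + w4 + w5 + 1 = 3 * a - 1 →
    w0 + w1 + w2 ≤ a →
    (a = 1 ∧ w0 = 1 ∧ w1 = 0 ∧ w2 = 0 ∧ w3 = 0 ∧ w4 = 0 ∧ w5 = 0) := by
  decide +kernel

theorem enum6 (a w0 w1 w2 w3 w4 w5 p q : ℤ) (ha0 : 0 ≤ a) (ha6 : a ≤ 6)
    (l5 : -1 ≤ w5) (u0 : w0 ≤ 3)
    (m01 : w1 ≤ w0) (m12 : w2 ≤ w1) (m23 : w3 ≤ w2) (m34 : w4 ≤ w3) (m45 : w5 ≤ w4)
    (hp : p = 1) (hq : q = 0)
    (h1 : a ^ 2 + 1 = w0 ^ 2 + w1 ^ 2 + w2 ^ 2 + w3 ^ 2 + w4 ^ 2 + w5 ^ 2 + p ^ 2 + q ^ 2)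
    (h2 : w0 + w1 + w2 + w3 + w4 + w5 + p + q = 3 * a - 1)
    (hmin : w0 + w1 + w2 ≤ a) :
    (a = 1 ∧ w0 = 1 ∧ w1 = 0 ∧ w2 = 0 ∧ w3 = 0 ∧ w4 = 0 ∧ w5 = 0) := by
  subst hp hq
  exact enum6_dec a (Finset.mem_Icc.mpr ⟨ha0, ha6⟩)
    w0 (Finset.mem_Icc.mpr ⟨by omega, u0⟩) w1 (Finset.mem_Icc.mpr ⟨by omega, m01⟩)
    w2 (Finset.mem_Icc.mpr ⟨by omega, m12⟩) w3 (Finset.mem_Icc.mpr ⟨by omega, m23⟩)
    w4 (Finset.mem_Icc.mpr ⟨by omega, m34⟩) w5 (Finset.mem_Icc.mpr ⟨l5, m45⟩)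
    (by rw [h1]; ring) (by rw [← h2]; ring) hmin

/-- Second descent: the common stabiliser of `E0` and `M0` moves every exceptional class with last
two coordinates `(1, 0)` to `N6`. -/
theorem descent6 : ∀ (n : ℕ) (v : DP 8), IsExc v → v 7 = 1 → v 8 = 0 → v 0 = (n : ℤ) →
    ∃ g : DP 8 ≃ₗ[ℤ] DP 8, IsWeyl g ∧ g E0 = E0 ∧ g M0 = M0 ∧ g v = N6 := by
  intro n
  induction n using Nat.strong_induction_on with
  | _ n ih =>
    intro v hv h7 h8 hn
    obtain ⟨σ, hσ6, hσ7, hsort⟩ := exists_sort6 v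
    obtain ⟨v', hv'⟩ : ∃ v', v' = permL σ v := ⟨_, rfl⟩
    have hv'exc : IsExc v' := by rw [hv']; exact IsWeyl.isExc (isWeyl_permL σ) hv
    have hw : ∀ i : Fin 8, v' i.succ = v (σ i).succ := fun i => by rw [hv']; exact permL_succ σ v i
    have h0 : v' 0 = v 0 := by rw [hv']; rfl
    have h7' : v' 7 = 1 := by
      have := hw 6
      rw [hσ6] at this
      rw [← h7]; exact this
    have h8' : v' 8 = 0 := by
      have := hw 7
      rw [hσ7] at this
      rw [← h8]; exact this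
    by_cases hlt : v' 0 < v' 1 + v' 2 + v' 3
    · have hexc'' : IsExc (crem v') := IsWeyl.isExc isWeyl_crem hv'exc
      obtain ⟨ha0'', -, -⟩ := exc_bounds (le_refl 8) (crem v') hexc''
      have h0'' : crem v' 0 = 2 * v' 0 - v' 1 - v' 2 - v' 3 := crem_zero v'
      have hlt'' : (crem v' 0).toNat < n := by omega
      obtain ⟨g, hg, hgE, hgM, hgv⟩ := ih (crem v' 0).toNat hlt'' (crem v') hexc''
        (by rw [crem_seven]; exact h7') (by rw [crem_eight]; exact h8') (by omega)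
      refine ⟨(permL σ).trans (crem.trans g),
        IsWeyl.trans (isWeyl_permL σ) (IsWeyl.trans isWeyl_crem hg), ?_, ?_, ?_⟩
      · rw [LinearEquiv.trans_apply, LinearEquiv.trans_apply, permL_E0 σ hσ7, crem_E0, hgE]
      · rw [LinearEquiv.trans_apply, LinearEquiv.trans_apply, permL_M0 σ hσ6, crem_M0, hgM]
      · rw [LinearEquiv.trans_apply, LinearEquiv.trans_apply, ← hv', hgv]
    · obtain ⟨ha0', ha6', hb'⟩ := exc_bounds (le_refl 8) v' hv'exc
      have hexc2 := (isExc_iff v').mp hv'exc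
      obtain ⟨h1, h2⟩ := hexc2
      rw [Fin.sum_univ_eight] at h1 h2
      have s01 : v' 2 ≤ v' 1 := by
        have h := hsort 0 1 (by decide) (by decide); rw [← hw, ← hw] at h; exact h
      have s12 : v' 3 ≤ v' 2 := by
        have h := hsort 1 2 (by decide) (by decide); rw [← hw, ← hw] at h; exact h
      have s23 : v' 4 ≤ v' 3 := by
        have h := hsort 2 3 (by decide) (by decide); rw [← hw, ← hw] at h; exact h
      have s34 : v' 5 ≤ v' 4 := by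
        have h := hsort 3 4 (by decide) (by decide); rw [← hw, ← hw] at h; exact h
      have s45 : v' 6 ≤ v' 5 := by
        have h := hsort 4 5 (by decide) (by decide); rw [← hw, ← hw] at h; exact h
      have hmin : v' 1 + v' 2 + v' 3 ≤ v' 0 := by omega
      obtain ⟨e0, e1, e2, e3, e4, e5, e6⟩ :=
        enum6 (v' 0) (v' 1) (v' 2) (v' 3) (v' 4) (v' 5) (v' 6) (v' 7) (v' 8)
        ha0' ha6' (hb' 5).1 (hb' 0).2 s01 s12 s23 s34 s45 h7' h8' h1 h2 hmin
      refine ⟨permL σ, isWeyl_permL σ, permL_E0 σ hσ7, permL_M0 σ hσ6, ?_⟩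
      rw [← hv', eq_vec v', e0, e1, e2, e3, e4, e5, e6, h7', h8']
      rfl

end Groth.Agent.Lib.Helper64.DPExc8
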