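import Mathlib
import Groth.Agent.Lib.Helper64.DPExc8b

/-!
# Conic classes of `DP 8`: descents with a free block of coordinates
(helper library for S15908 / S15907)
-/

set_option autoImplicit false

namespace Groth.Agent.Lib.Helper64.DPConic8

open W4c3severiratdp Groth.Agent.Lib.Helper64.DPLat Groth.Agent.Lib.Helper64.DPWeyl
open Groth.Agent.Lib.Helper64.DPExc8

/-- Sorting the coordinates `< m` in decreasing order, fixing the coordinates `≥ m`. -/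
theorem exists_sort_lt (m : ℕ) (hm : m ≤ 8) (b : Fin 8 → ℤ) :
    ∃ σ : Equiv.Perm (Fin 8), (∀ j : Fin 8, m ≤ j.val → σ j = j) ∧
      ∀ i j : Fin 8, i ≤ j → j.val < m → b (σ j) ≤ b (σ i) := by
  have h : m + (8 - m) = 8 := by omega
  let e : Fin (m + (8 - m)) ≃ Fin 8 := finCongr h
  obtain ⟨σ', h1, h2⟩ := exists_sort_left m (8 - m) (fun x => b (e x))
  refine ⟨e.permCongr σ', ?_, ?_⟩
  · intro j hj
    rw [Equiv.permCongr_apply]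
    have : e.symm j = Fin.natAdd m ⟨j.val - m, by omega⟩ := by
      apply Fin.ext
      simp [e]
      omega
    rw [this, h1]
    apply Fin.ext
    simp [e]
    omega
  · intro i j hij hj
    have hi : i.val < m := lt_of_le_of_lt hij hj
    rw [Equiv.permCongr_apply, Equiv.permCongr_apply]
    have ei : e.symm i = Fin.castAdd (8 - m) ⟨i.val, hi⟩ := Fin.ext (by simp [e])
    have ej : e.symm j = Fin.castAdd (8 - m) ⟨j.val, hj⟩ := Fin.ext (by simp [e])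
    rw [ei, ej]
    exact h2 ⟨i.val, hi⟩ ⟨j.val, hj⟩ hij

/-- Sorting the coordinates in `[1, m)` in decreasing order, fixing `0` and the coordinates
`≥ m`. -/
theorem exists_sort_mid (m : ℕ) (hm : m ≤ 8) (b : Fin 8 → ℤ) (hb : ∀ i, b i ≤ 4) :
    ∃ σ : Equiv.Perm (Fin 8), σ 0 = 0 ∧ (∀ j : Fin 8, m ≤ j.val → σ j = j) ∧
      ∀ i j : Fin 8, 1 ≤ i.val → i ≤ j → j.val < m → b (σ j) ≤ b (σ i) := by
  let b' : Fin 8 → ℤ := fun i => if i = 0 then 100 else b i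
  obtain ⟨σ, h1, h2⟩ := exists_sort_lt m hm b'
  have hσ0 : σ 0 = 0 := by
    by_contra h
    have hlt : (σ.symm 0).val < m := by
      by_contra hge
      have h3 := h1 (σ.symm 0) (by omega)
      rw [Equiv.apply_symm_apply] at h3
      rw [← h3] at hge
      have : σ 0 = 0 := by
        have h4 := h1 0 (by simpa using hge)
        exact h4
      exact h this
    have h3 := h2 0 (σ.symm 0) (Fin.zero_le _) hlt
    rw [Equiv.apply_symm_apply] at h3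
    have e1 : b' 0 = 100 := if_pos rfl
    have e2 : b' (σ 0) = b (σ 0) := if_neg h
    rw [e1, e2] at h3
    have := hb (σ 0)
    omega
  refine ⟨σ, hσ0, h1, fun i j hi hij hj => ?_⟩
  have hne : ∀ t : Fin 8, 1 ≤ t.val → σ t ≠ 0 := by
    intro t ht h
    rw [← hσ0] at h
    have := σ.injective h
    rw [this] at ht
    simp at ht
  have hj1 : 1 ≤ j.val := le_trans hi hij
  have h3 := h2 i j hij hj
  have e1 : b' (σ i) = b (σ i) := if_neg (hne i hi)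
  have e2 : b' (σ j) = b (σ j) := if_neg (hne j hj1)
  rw [e1, e2] at h3
  exact h3

/-- The class `e_{j+1}` (with `b_j = -1`). -/
def eV (j : Fin 8) : DP 8 := Pi.single j.succ (-1)

theorem form_eV (v : DP 8) (j : Fin 8) : form v (eV j) = v j.succ := by
  unfold form eV
  have h0 : (Pi.single j.succ (-1) : DP 8) 0 = 0 :=
    Pi.single_eq_of_ne (Fin.succ_ne_zero j).symm _
  rw [h0, mul_zero, zero_sub]
  rw [Finset.sum_eq_single j]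
  · rw [Pi.single_eq_same]; ring
  · intro i _ hij
    rw [Pi.single_eq_of_ne (fun h => hij (Fin.succ_injective _ h)), mul_zero]
  · intro h; exact absurd (Finset.mem_univ j) h

/-- `g` fixes the classes `e_{j+1}`, `j ≥ m`. -/
def FixTail (m : ℕ) (g : DP 8 ≃ₗ[ℤ] DP 8) : Prop := ∀ j : Fin 8, m ≤ j.val → g (eV j) = eV j

/-- The coordinates `b_j`, `j ≥ m`, vanish. -/
def InC (m : ℕ) (v : DP 8) : Prop := ∀ j : Fin 8, m ≤ j.val → v j.succ = 0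

theorem fixTail_refl (m : ℕ) : FixTail m (LinearEquiv.refl ℤ (DP 8)) := fun _ _ => rfl

theorem FixTail.trans {m : ℕ} {g h : DP 8 ≃ₗ[ℤ] DP 8} (hg : FixTail m g) (hh : FixTail m h) :
    FixTail m (g.trans h) := fun j hj => by
  rw [LinearEquiv.trans_apply, hg j hj, hh j hj]

theorem FixTail.symm {m : ℕ} {g : DP 8 ≃ₗ[ℤ] DP 8} (hg : FixTail m g) : FixTail m g.symm :=
  fun j hj => (LinearEquiv.symm_apply_eq g).mpr (hg j hj).symm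

theorem InC.map {m : ℕ} {g : DP 8 ≃ₗ[ℤ] DP 8} (hg : IsWeyl g) (hf : FixTail m g) {v : DP 8}
    (hv : InC m v) : InC m (g v) := fun j hj => by
  rw [← form_eV (g v) j]
  conv_lhs => rw [← hf j hj]
  rw [hg.1, form_eV, hv j hj]

theorem eV_succ (j i : Fin 8) : eV j i.succ = if i = j then -1 else 0 := by
  unfold eV
  by_cases h : i = j
  · rw [if_pos h, h, Pi.single_eq_same]
  · rw [if_neg h, Pi.single_eq_of_ne (fun h' => h (Fin.succ_injective _ h'))]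

theorem permL_eV (σ : Equiv.Perm (Fin 8)) (j : Fin 8) (hσ : σ j = j) : permL σ (eV j) = eV j := by
  funext t
  refine Fin.cases ?_ (fun i => ?_) t
  · rfl
  · rw [permL_succ, eV_succ, eV_succ]
    have : σ i = j ↔ i = j := by
      constructor
      · intro h
        rw [← hσ] at h
        exact σ.injective h
      · rintro rfl
        exact hσ
    simp only [this]

theorem fixTail_permL {m : ℕ} (σ : Equiv.Perm (Fin 8)) (hσ : ∀ j : Fin 8, m ≤ j.val → σ j = j) :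
    FixTail m (permL σ) := fun j hj => permL_eV σ j (hσ j hj)

theorem crem_eV : ∀ j : Fin 8, 3 ≤ j.val → crem (eV j) = eV j := by decide

theorem fixTail_crem {m : ℕ} (hm : 3 ≤ m) : FixTail m crem := fun j hj =>
  crem_eV j (le_trans hm hj)

/-- The conic class `ℓ - e_1`. -/
def F : DP 8 := ![1, 1, 0, 0, 0, 0, 0, 0, 0]

theorem crem_F : crem F = F := by decide

theorem F_succ (i : Fin 8) : F i.succ = if i = 0 then 1 else 0 := by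
  fin_cases i <;> rfl

theorem permL_F (σ : Equiv.Perm (Fin 8)) (hσ : σ 0 = 0) : permL σ F = F := by
  funext t
  refine Fin.cases ?_ (fun i => ?_) t
  · rfl
  · rw [permL_succ, F_succ, F_succ]
    have : σ i = 0 ↔ i = 0 := by
      constructor
      · intro h
        rw [← hσ] at h
        exact σ.injective h
      · rintro rfl
        exact hσ
    simp only [this]

theorem form_F (v : DP 8) : form F v = v 0 - v 1 := by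
  unfold form F
  rw [Fin.sum_univ_eight]
  simp

set_option maxRecDepth 1000000 in
set_option synthInstance.maxSize 100000 in
set_option synthInstance.maxHeartbeats 2000000 in
set_option maxHeartbeats 4000000 in
theorem enumC_dec : ∀ a ∈ Finset.Icc (1:ℤ) 11,
    ∀ w0 ∈ Finset.Icc (0:ℤ) 4, ∀ w1 ∈ Finset.Icc (0:ℤ) w0, ∀ w2 ∈ Finset.Icc (0:ℤ) w1,
    ∀ w3 ∈ Finset.Icc (0:ℤ) w2, ∀ w4 ∈ Finset.Icc (0:ℤ) w3, ∀ w5 ∈ Finset.Icc (0:ℤ) w4,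
    ∀ w6 ∈ Finset.Icc (0:ℤ) w5, ∀ w7 ∈ Finset.Icc (0:ℤ) w6,
    a ^ 2 = w0 ^ 2 + w1 ^ 2 + w2 ^ 2 + w3 ^ 2 + w4 ^ 2 + w5 ^ 2 + w6 ^ 2 + w7 ^ 2 →
    w0 + w1 + w2 + w3 + w4 + w5 + w6 + w7 = 3 * a - 2 →
    w0 + w1 + w2 ≤ a →
    (a = 1 ∧ w0 = 1 ∧ w1 = 0 ∧ w2 = 0 ∧ w3 = 0 ∧ w4 = 0 ∧ w5 = 0 ∧ w6 = 0 ∧ w7 = 0) := by
  decide +kernel

set_option maxRecDepth 1000000 in
set_option synthInstance.maxSize 100000 in
set_option synthInstance.maxHeartbeats 2000000 in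
set_option maxHeartbeats 4000000 in
theorem enumCF_dec : ∀ a ∈ Finset.Icc (1:ℤ) 11, ∀ w0 ∈ Finset.Icc (0:ℤ) 4,
    ∀ w1 ∈ Finset.Icc (0:ℤ) 4, ∀ w2 ∈ Finset.Icc (0:ℤ) w1,
    ∀ w3 ∈ Finset.Icc (0:ℤ) w2, ∀ w4 ∈ Finset.Icc (0:ℤ) w3, ∀ w5 ∈ Finset.Icc (0:ℤ) w4,
    ∀ w6 ∈ Finset.Icc (0:ℤ) w5, ∀ w7 ∈ Finset.Icc (0:ℤ) w6,
    a ^ 2 = w0 ^ 2 + w1 ^ 2 + w2 ^ 2 + w3 ^ 2 + w4 ^ 2 + w5 ^ 2 + w6 ^ 2 + w7 ^ 2 →
    w0 + w1 + w2 + w3 + w4 + w5 + w6 + w7 = 3 * a - 2 →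
    w0 + w1 + w2 ≤ a →
    (a = 1 ∧ w0 = 1 ∧ w1 = 0 ∧ w2 = 0 ∧ w3 = 0 ∧ w4 = 0 ∧ w5 = 0 ∧ w6 = 0 ∧ w7 = 0) ∨
    (a = 1 ∧ w0 = 0 ∧ w1 = 1 ∧ w2 = 0 ∧ w3 = 0 ∧ w4 = 0 ∧ w5 = 0 ∧ w6 = 0 ∧ w7 = 0) ∨
    (a = 2 ∧ w0 = 0 ∧ w1 = 1 ∧ w2 = 1 ∧ w3 = 1 ∧ w4 = 1 ∧ w5 = 0 ∧ w6 = 0 ∧ w7 = 0) ∨
    (a = 3 ∧ w0 = 0 ∧ w1 = 2 ∧ w2 = 1 ∧ w3 = 1 ∧ w4 = 1 ∧ w5 = 1 ∧ w6 = 1 ∧ w7 = 0) ∨
    (a = 4 ∧ w0 = 0 ∧ w1 = 2 ∧ w2 = 2 ∧ w3 = 2 ∧ w4 = 1 ∧ w5 = 1 ∧ w6 = 1 ∧ w7 = 1) ∨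
    (a = 5 ∧ w0 = 1 ∧ w1 = 2 ∧ w2 = 2 ∧ w3 = 2 ∧ w4 = 2 ∧ w5 = 2 ∧ w6 = 2 ∧ w7 = 0) ∨
    (a = 5 ∧ w0 = 0 ∧ w1 = 2 ∧ w2 = 2 ∧ w3 = 2 ∧ w4 = 2 ∧ w5 = 2 ∧ w6 = 2 ∧ w7 = 1) ∨
    (a = 7 ∧ w0 = 1 ∧ w1 = 3 ∧ w2 = 3 ∧ w3 = 3 ∧ w4 = 3 ∧ w5 = 2 ∧ w6 = 2 ∧ w7 = 2) ∨
    (a = 8 ∧ w0 = 1 ∧ w1 = 3 ∧ w2 = 3 ∧ w3 = 3 ∧ w4 = 3 ∧ w5 = 3 ∧ w6 = 3 ∧ w7 = 3) ∨
    (a = 11 ∧ w0 = 3 ∧ w1 = 4 ∧ w2 = 4 ∧ w3 = 4 ∧ w4 = 4 ∧ w5 = 4 ∧ w6 = 4 ∧ w7 = 4) := by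
  decide +kernel

end Groth.Agent.Lib.Helper64.DPConic8
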