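import Mathlib
import Groth.Agent.Lib.Helper64.DPConic8

/-!
# Conic classes of `DP 8`: the two descents (helper library for S15908 / S15907)
-/

set_option autoImplicit false

namespace Groth.Agent.Lib.Helper64.DPConic8

open W4c3severiratdp Groth.Agent.Lib.Helper64.DPLat Groth.Agent.Lib.Helper64.DPWeyl
open Groth.Agent.Lib.Helper64.DPExc8

theorem enumC (a w0 w1 w2 w3 w4 w5 w6 w7 : ℤ) (ha1 : 1 ≤ a) (ha11 : a ≤ 11)
    (l7 : 0 ≤ w7) (u0 : w0 ≤ 4)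
    (m01 : w1 ≤ w0) (m12 : w2 ≤ w1) (m23 : w3 ≤ w2) (m34 : w4 ≤ w3) (m45 : w5 ≤ w4)
    (m56 : w6 ≤ w5) (m67 : w7 ≤ w6)
    (h1 : a ^ 2 = w0 ^ 2 + w1 ^ 2 + w2 ^ 2 + w3 ^ 2 + w4 ^ 2 + w5 ^ 2 + w6 ^ 2 + w7 ^ 2)
    (h2 : w0 + w1 + w2 + w3 + w4 + w5 + w6 + w7 = 3 * a - 2)
    (hmin : w0 + w1 + w2 ≤ a) :
    (a = 1 ∧ w0 = 1 ∧ w1 = 0 ∧ w2 = 0 ∧ w3 = 0 ∧ w4 = 0 ∧ w5 = 0 ∧ w6 = 0 ∧ w7 = 0) :=
  enumC_dec a (Finset.mem_Icc.mpr ⟨ha1, ha11⟩)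
    w0 (Finset.mem_Icc.mpr ⟨by omega, u0⟩) w1 (Finset.mem_Icc.mpr ⟨by omega, m01⟩)
    w2 (Finset.mem_Icc.mpr ⟨by omega, m12⟩) w3 (Finset.mem_Icc.mpr ⟨by omega, m23⟩)
    w4 (Finset.mem_Icc.mpr ⟨by omega, m34⟩) w5 (Finset.mem_Icc.mpr ⟨by omega, m45⟩)
    w6 (Finset.mem_Icc.mpr ⟨by omega, m56⟩) w7 (Finset.mem_Icc.mpr ⟨l7, m67⟩) h1 h2 hmin

/-- First descent: the Weyl elements fixing `e_{j+1}`, `j ≥ m`, move every conic class with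
vanishing coordinates `b_j`, `j ≥ m`, to `F`. -/
theorem descentC (m : ℕ) (hm3 : 3 ≤ m) (hm8 : m ≤ 8) :
    ∀ (n : ℕ) (v : DP 8), IsConic v → InC m v → v 0 = (n : ℤ) →
      ∃ g : DP 8 ≃ₗ[ℤ] DP 8, IsWeyl g ∧ FixTail m g ∧ g v = F := by
  intro n
  induction n using Nat.strong_induction_on with
  | _ n ih =>
    intro v hv hC hn
    obtain ⟨σ, hσ, hsort⟩ := exists_sort_lt m hm8 (fun i => v i.succ)
    obtain ⟨v', hv'⟩ : ∃ v', v' = permL σ v := ⟨_, rfl⟩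
    have hWσ := isWeyl_permL σ
    have hFσ : FixTail m (permL σ) := fixTail_permL σ hσ
    have hv'c : IsConic v' := by rw [hv']; exact IsWeyl.isConic hWσ hv
    have hC' : InC m v' := by rw [hv']; exact InC.map hWσ hFσ hC
    have hw : ∀ i : Fin 8, v' i.succ = v (σ i).succ := fun i => by rw [hv']; exact permL_succ σ v i
    have h0 : v' 0 = v 0 := by rw [hv']; rfl
    obtain ⟨ha1', ha11', hb'⟩ := conic_bounds (le_refl 8) v' hv'c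
    have hs : ∀ i j : Fin 8, i ≤ j → v' j.succ ≤ v' i.succ := by
      intro i j hij
      by_cases hj : j.val < m
      · rw [hw, hw]; exact hsort i j hij hj
      · rw [hC' j (by omega)]; exact (hb' i).1
    by_cases hlt : v' 0 < v' 1 + v' 2 + v' 3
    · have hc'' : IsConic (crem v') := IsWeyl.isConic isWeyl_crem hv'c
      have hC'' : InC m (crem v') := InC.map isWeyl_crem (fixTail_crem hm3) hC'
      obtain ⟨ha1'', -, -⟩ := conic_bounds (le_refl 8) (crem v') hc''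
      have h0'' : crem v' 0 = 2 * v' 0 - v' 1 - v' 2 - v' 3 := crem_zero v'
      have hlt'' : (crem v' 0).toNat < n := by omega
      obtain ⟨g, hg, hgF, hgv⟩ := ih (crem v' 0).toNat hlt'' (crem v') hc'' hC'' (by omega)
      refine ⟨(permL σ).trans (crem.trans g), IsWeyl.trans hWσ (IsWeyl.trans isWeyl_crem hg),
        FixTail.trans hFσ (FixTail.trans (fixTail_crem hm3) hgF), ?_⟩
      rw [LinearEquiv.trans_apply, LinearEquiv.trans_apply, ← hv', hgv]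
    · obtain ⟨h1, h2⟩ := (isConic_iff v').mp hv'c
      rw [Fin.sum_univ_eight] at h1 h2
      have hmin : v' 1 + v' 2 + v' 3 ≤ v' 0 := by omega
      obtain ⟨e0, e1, e2, e3, e4, e5, e6, e7, e8⟩ :=
        enumC (v' 0) (v' 1) (v' 2) (v' 3) (v' 4) (v' 5) (v' 6) (v' 7) (v' 8)
        ha1' ha11' (hb' 7).1 (hb' 0).2 (hs 0 1 (by decide)) (hs 1 2 (by decide))
        (hs 2 3 (by decide)) (hs 3 4 (by decide)) (hs 4 5 (by decide)) (hs 5 6 (by decide))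
        (hs 6 7 (by decide)) h1 h2 hmin
      refine ⟨permL σ, hWσ, hFσ, ?_⟩
      rw [← hv', eq_vec v', e0, e1, e2, e3, e4, e5, e6, e7, e8]
      rfl

def TF1 : DP 8 := ![1, 0, 1, 0, 0, 0, 0, 0, 0]
def TF2 : DP 8 := ![2, 0, 1, 1, 1, 1, 0, 0, 0]
def TF3 : DP 8 := ![3, 0, 2, 1, 1, 1, 1, 1, 0]
def TF4a : DP 8 := ![4, 0, 2, 2, 2, 1, 1, 1, 1]
def TF4b : DP 8 := ![5, 1, 2, 2, 2, 2, 2, 2, 0]
def TF5 : DP 8 := ![5, 0, 2, 2, 2, 2, 2, 2, 1]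
def TF6 : DP 8 := ![7, 1, 3, 3, 3, 3, 2, 2, 2]
def TF7 : DP 8 := ![8, 1, 3, 3, 3, 3, 3, 3, 3]
def TF8 : DP 8 := ![11, 3, 4, 4, 4, 4, 4, 4, 4]

/-- The normal forms of conic classes under the stabiliser of `F`. -/
def IsMinF (w : DP 8) : Prop :=
  w = F ∨ w = TF1 ∨ w = TF2 ∨ w = TF3 ∨ w = TF4a ∨ w = TF4b ∨ w = TF5 ∨ w = TF6 ∨ w = TF7 ∨
    w = TF8

theorem enumCF (a w0 w1 w2 w3 w4 w5 w6 w7 : ℤ) (ha1 : 1 ≤ a) (ha11 : a ≤ 11)
    (l0 : 0 ≤ w0) (u0 : w0 ≤ 4) (l7 : 0 ≤ w7) (u1 : w1 ≤ 4)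
    (m12 : w2 ≤ w1) (m23 : w3 ≤ w2) (m34 : w4 ≤ w3) (m45 : w5 ≤ w4)
    (m56 : w6 ≤ w5) (m67 : w7 ≤ w6)
    (h1 : a ^ 2 = w0 ^ 2 + w1 ^ 2 + w2 ^ 2 + w3 ^ 2 + w4 ^ 2 + w5 ^ 2 + w6 ^ 2 + w7 ^ 2)
    (h2 : w0 + w1 + w2 + w3 + w4 + w5 + w6 + w7 = 3 * a - 2)
    (hmin : w0 + w1 + w2 ≤ a) :
    IsMinF ![a, w0, w1, w2, w3, w4, w5, w6, w7] := by
  have := enumCF_dec a (Finset.mem_Icc.mpr ⟨ha1, ha11⟩)
    w0 (Finset.mem_Icc.mpr ⟨l0, u0⟩) w1 (Finset.mem_Icc.mpr ⟨by omega, u1⟩)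
    w2 (Finset.mem_Icc.mpr ⟨by omega, m12⟩) w3 (Finset.mem_Icc.mpr ⟨by omega, m23⟩)
    w4 (Finset.mem_Icc.mpr ⟨by omega, m34⟩) w5 (Finset.mem_Icc.mpr ⟨by omega, m45⟩)
    w6 (Finset.mem_Icc.mpr ⟨by omega, m56⟩) w7 (Finset.mem_Icc.mpr ⟨l7, m67⟩) h1 h2 hmin
  unfold IsMinF
  rcases this with ⟨e0, e1, e2, e3, e4, e5, e6, e7, e8⟩ | ⟨e0, e1, e2, e3, e4, e5, e6, e7, e8⟩ |
    ⟨e0, e1, e2, e3, e4, e5, e6, e7, e8⟩ | ⟨e0, e1, e2, e3, e4, e5, e6, e7, e8⟩ |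
    ⟨e0, e1, e2, e3, e4, e5, e6, e7, e8⟩ | ⟨e0, e1, e2, e3, e4, e5, e6, e7, e8⟩ |
    ⟨e0, e1, e2, e3, e4, e5, e6, e7, e8⟩ | ⟨e0, e1, e2, e3, e4, e5, e6, e7, e8⟩ |
    ⟨e0, e1, e2, e3, e4, e5, e6, e7, e8⟩ | ⟨e0, e1, e2, e3, e4, e5, e6, e7, e8⟩ <;>
  · subst e0 e1 e2 e3 e4 e5 e6 e7 e8
    decide

/-- Second descent: the Weyl elements fixing `F` and `e_{j+1}`, `j ≥ m`, move every conic class
with vanishing coordinates `b_j`, `j ≥ m`, to a normal form. -/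
theorem descentCF (m : ℕ) (hm3 : 3 ≤ m) (hm8 : m ≤ 8) :
    ∀ (n : ℕ) (v : DP 8), IsConic v → InC m v → v 0 = (n : ℤ) →
      ∃ g : DP 8 ≃ₗ[ℤ] DP 8, IsWeyl g ∧ FixTail m g ∧ g F = F ∧ IsMinF (g v) := by
  intro n
  induction n using Nat.strong_induction_on with
  | _ n ih =>
    intro v hv hC hn
    obtain ⟨-, -, hb⟩ := conic_bounds (le_refl 8) v hv
    obtain ⟨σ, hσ0, hσ, hsort⟩ := exists_sort_mid m hm8 (fun i => v i.succ) (fun i => (hb i).2)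
    obtain ⟨v', hv'⟩ : ∃ v', v' = permL σ v := ⟨_, rfl⟩
    have hWσ := isWeyl_permL σ
    have hFσ : FixTail m (permL σ) := fixTail_permL σ hσ
    have hv'c : IsConic v' := by rw [hv']; exact IsWeyl.isConic hWσ hv
    have hC' : InC m v' := by rw [hv']; exact InC.map hWσ hFσ hC
    have hw : ∀ i : Fin 8, v' i.succ = v (σ i).succ := fun i => by rw [hv']; exact permL_succ σ v i
    have h0 : v' 0 = v 0 := by rw [hv']; rfl
    obtain ⟨ha1', ha11', hb'⟩ := conic_bounds (le_refl 8) v' hv'c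
    have hs : ∀ i j : Fin 8, 1 ≤ i.val → i ≤ j → v' j.succ ≤ v' i.succ := by
      intro i j hi hij
      by_cases hj : j.val < m
      · rw [hw, hw]; exact hsort i j hi hij hj
      · rw [hC' j (by omega)]; exact (hb' i).1
    by_cases hlt : v' 0 < v' 1 + v' 2 + v' 3
    · have hc'' : IsConic (crem v') := IsWeyl.isConic isWeyl_crem hv'c
      have hC'' : InC m (crem v') := InC.map isWeyl_crem (fixTail_crem hm3) hC'
      obtain ⟨ha1'', -, -⟩ := conic_bounds (le_refl 8) (crem v') hc''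
      have h0'' : crem v' 0 = 2 * v' 0 - v' 1 - v' 2 - v' 3 := crem_zero v'
      have hlt'' : (crem v' 0).toNat < n := by omega
      obtain ⟨g, hg, hgT, hgF, hgv⟩ := ih (crem v' 0).toNat hlt'' (crem v') hc'' hC'' (by omega)
      refine ⟨(permL σ).trans (crem.trans g), IsWeyl.trans hWσ (IsWeyl.trans isWeyl_crem hg),
        FixTail.trans hFσ (FixTail.trans (fixTail_crem hm3) hgT), ?_, ?_⟩
      · rw [LinearEquiv.trans_apply, LinearEquiv.trans_apply, permL_F σ hσ0, crem_F, hgF]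
      · rw [LinearEquiv.trans_apply, LinearEquiv.trans_apply, ← hv']; exact hgv
    · obtain ⟨h1, h2⟩ := (isConic_iff v').mp hv'c
      rw [Fin.sum_univ_eight] at h1 h2
      have hmin : v' 1 + v' 2 + v' 3 ≤ v' 0 := by omega
      have hfin := enumCF (v' 0) (v' 1) (v' 2) (v' 3) (v' 4) (v' 5) (v' 6) (v' 7) (v' 8)
        ha1' ha11' (hb' 0).1 (hb' 0).2 (hb' 7).1 (hb' 1).2
        (hs 1 2 (by decide) (by decide)) (hs 2 3 (by decide) (by decide))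
        (hs 3 4 (by decide) (by decide)) (hs 4 5 (by decide) (by decide))
        (hs 5 6 (by decide) (by decide)) (hs 6 7 (by decide) (by decide)) h1 h2 hmin
      refine ⟨permL σ, hWσ, hFσ, permL_F σ hσ0, ?_⟩
      rw [← hv', eq_vec v']
      exact hfin

/-- Normal forms with the same intersection number with `F` coincide, except for `TF4a`, `TF4b`. -/
theorem minF_unique {w w' : DP 8} (hw : IsMinF w) (hw' : IsMinF w') (h : form F w = form F w') :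
    w = w' ∨ (w = TF4a ∧ w' = TF4b) ∨ (w = TF4b ∧ w' = TF4a) := by
  unfold IsMinF at hw hw'
  rcases hw with rfl | rfl | rfl | rfl | rfl | rfl | rfl | rfl | rfl | rfl <;>
  rcases hw' with rfl | rfl | rfl | rfl | rfl | rfl | rfl | rfl | rfl | rfl <;>
  first
    | exact Or.inl rfl
    | exact Or.inr (Or.inl ⟨rfl, rfl⟩)
    | exact Or.inr (Or.inr ⟨rfl, rfl⟩)
    | (exfalso; revert h; decide)

end Groth.Agent.Lib.Helper64.DPConic8
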