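import Mathlib
import Groth.Agent.Lib.Helper64.DPLat

/-!
# Counting conic classes in the del Pezzo lattices `DP δ`, `δ ≤ 8` (helper library for S15905)

The number of `b : Fin δ → {0,…,4}` with prescribed `∑ b i` and `∑ (b i)²` is read off from a
base-`2^20` digit of the natural number `(∑_t B^(256 t + t²))^δ` (Kronecker substitution), which the
kernel evaluates with big-number arithmetic.
-/

set_option autoImplicit false

namespace Groth.Agent.Lib.Helper64.DPCount

open W4c3severiratdp Groth.Agent.Lib.Helper64.DPLat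

def BB : ℕ := 2 ^ 20
def E (t : ℕ) : ℕ := 256 * t + t * t
def pp : ℕ := 1 + BB ^ 257 + BB ^ 516 + BB ^ 777 + BB ^ 1040
def coeffB (N n : ℕ) : ℕ := N / BB ^ n % BB
def idx (a : ℕ) : ℕ := 256 * (3 * a - 2) + a ^ 2

/-- The number of `b : Fin δ → Fin 5` with `∑ E (b i) = n`. -/
def P (δ n : ℕ) : ℕ := (Finset.univ.filter (fun b : Fin δ → Fin 5 => ∑ i, E (b i) = n)).card

theorem BB_pos : 0 < BB := by unfold BB; positivity

theorem pp_eq : pp = ∑ t : Fin 5, BB ^ E (t : ℕ) := by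
  rw [Fin.sum_univ_five]
  simp [pp, E]

theorem pp_pow (δ : ℕ) : pp ^ δ = ∑ b : Fin δ → Fin 5, BB ^ (∑ i, E (b i)) := by
  rw [pp_eq, Fintype.sum_pow]
  refine Finset.sum_congr rfl fun b _ => ?_
  rw [Finset.prod_pow_eq_pow_sum]

theorem E_le (t : Fin 5) : E (t : ℕ) ≤ 1040 := by
  have := t.2
  unfold E
  nlinarith

theorem sum_E_lt (δ : ℕ) (b : Fin δ → Fin 5) : ∑ i, E (b i) < 1040 * δ + 1 := by
  have : ∑ i, E (b i) ≤ ∑ _i : Fin δ, 1040 := Finset.sum_le_sum fun i _ => E_le (b i)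
  simp at this
  omega

theorem pp_pow' (δ : ℕ) :
    pp ^ δ = ∑ n ∈ Finset.range (1040 * δ + 1), P δ n * BB ^ n := by
  rw [pp_pow]
  rw [← Finset.sum_fiberwise_of_maps_to (s := Finset.univ) (t := Finset.range (1040 * δ + 1))
    (g := fun b : Fin δ → Fin 5 => ∑ i, E (b i))
    (fun b _ => Finset.mem_range.mpr (sum_E_lt δ b))]
  refine Finset.sum_congr rfl fun n _ => ?_
  have : ∀ b ∈ Finset.univ.filter (fun b : Fin δ → Fin 5 => ∑ i, E (b i) = n),
      BB ^ (∑ i, E (b i)) = BB ^ n := by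
    intro b hb
    rw [(Finset.mem_filter.mp hb).2]
  rw [Finset.sum_congr rfl this, Finset.sum_const, smul_eq_mul]
  rfl

/-- Digit extraction in base `BB`. -/
theorem digit (m : ℕ) : ∀ (c : ℕ → ℕ) (_ : ∀ n, c n < BB) (M : ℕ),
    (∑ n ∈ Finset.range M, c n * BB ^ n) / BB ^ m % BB = if m < M then c m else 0 := by
  have key : ∀ (c : ℕ → ℕ) (M : ℕ), ∑ n ∈ Finset.range (M + 1), c n * BB ^ n =
      c 0 + BB * ∑ n ∈ Finset.range M, c (n + 1) * BB ^ n := by
    intro c M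
    rw [Finset.sum_range_succ', Finset.mul_sum, pow_zero, mul_one, add_comm]
    congr 1
    refine Finset.sum_congr rfl fun n _ => ?_
    rw [pow_succ]; ring
  induction m with
  | zero =>
    intro c hc M
    rw [pow_zero, Nat.div_one]
    cases M with
    | zero => simp
    | succ M =>
      rw [key, Nat.add_mul_mod_self_left, Nat.mod_eq_of_lt (hc 0)]
      simp
  | succ m ih =>
    intro c hc M
    cases M with
    | zero => simp
    | succ M =>
      rw [key, pow_succ', ← Nat.div_div_eq_div_mul, Nat.add_mul_div_left _ _ BB_pos,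
        Nat.div_eq_of_lt (hc 0), zero_add, ih (fun n => c (n + 1)) (fun n => hc _) M]
      simp

theorem P_le (δ n : ℕ) : P δ n ≤ 5 ^ δ := by
  unfold P
  calc _ ≤ (Finset.univ : Finset (Fin δ → Fin 5)).card := Finset.card_filter_le _ _
    _ = 5 ^ δ := by simp

theorem P_lt {δ : ℕ} (hδ : δ ≤ 8) (n : ℕ) : P δ n < BB := by
  have h1 := P_le δ n
  have h2 : 5 ^ δ ≤ 5 ^ 8 := Nat.pow_le_pow_right (by norm_num) hδ
  have h3 : (5 : ℕ) ^ 8 < BB := by unfold BB; norm_num
  omega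

theorem P_eq_zero_of_le {δ n : ℕ} (hn : 1040 * δ + 1 ≤ n) : P δ n = 0 := by
  unfold P
  rw [Finset.card_eq_zero, Finset.filter_eq_empty_iff]
  intro b _ h
  have := sum_E_lt δ b
  omega

theorem coeffB_eq {δ : ℕ} (hδ : δ ≤ 8) (n : ℕ) : coeffB (pp ^ δ) n = P δ n := by
  unfold coeffB
  rw [pp_pow', digit n (fun n => P δ n) (fun n => P_lt hδ n)]
  split_ifs with h
  · rfl
  · exact (P_eq_zero_of_le (by omega)).symm

/-- The map from pairs `(a, b)` to lattice vectors. -/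
def toDP (δ : ℕ) (p : ℕ × (Fin δ → Fin 5)) : DP δ :=
  Fin.cons (p.1 : ℤ) (fun i => (((p.2 i : Fin 5) : ℕ) : ℤ))

theorem toDP_injective (δ : ℕ) : Function.Injective (toDP δ) := by
  rintro ⟨a, b⟩ ⟨a', b'⟩ h
  have h0 := congrFun h 0
  have hs : ∀ i : Fin δ, toDP δ (a, b) i.succ = toDP δ (a', b') i.succ := fun i => congrFun h _
  simp only [toDP, Fin.cons_zero, Fin.cons_succ] at h0 hs
  have ha : a = a' := by exact_mod_cast h0
  have hb : b = b' := by
    funext i
    apply Fin.ext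
    exact_mod_cast hs i
  rw [ha, hb]

/-- The finite set of pairs `(a, b)` describing conic classes. -/
def C (δ : ℕ) : Finset (ℕ × (Fin δ → Fin 5)) :=
  (Finset.Icc 1 11 ×ˢ Finset.univ).filter (fun p => ∑ i, E (p.2 i) = idx p.1)

theorem card_C (δ : ℕ) : (C δ).card = ∑ a ∈ Finset.Icc 1 11, P δ (idx a) := by
  unfold C
  rw [Finset.card_filter, Finset.sum_product]
  refine Finset.sum_congr rfl fun a _ => ?_
  unfold P
  rw [Finset.card_filter]

theorem sum_E_eq {δ : ℕ} (b : Fin δ → Fin 5) :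
    ∑ i, E (b i) = 256 * ∑ i, ((b i : Fin 5) : ℕ) + ∑ i, ((b i : Fin 5) : ℕ) * ((b i : Fin 5) : ℕ) := by
  unfold E
  rw [Finset.sum_add_distrib, Finset.mul_sum]

theorem sum_sq_le {δ : ℕ} (b : Fin δ → Fin 5) :
    ∑ i, ((b i : Fin 5) : ℕ) * ((b i : Fin 5) : ℕ) ≤ 16 * δ := by
  have : ∑ i, ((b i : Fin 5) : ℕ) * ((b i : Fin 5) : ℕ) ≤ ∑ _i : Fin δ, 16 :=
    Finset.sum_le_sum fun i _ => by
      have := (b i).2
      nlinarith
  simp at this
  omega

theorem conic_set_eq {δ : ℕ} (hδ : δ ≤ 8) :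
    {v : DP δ | IsConic v} = ↑((C δ).image (toDP δ)) := by
  ext v
  simp only [Set.mem_setOf_eq, Finset.coe_image, Set.mem_image, Finset.mem_coe]
  constructor
  · intro hv
    obtain ⟨ha1, ha11, hb⟩ := conic_bounds hδ v hv
    rw [isConic_iff] at hv
    obtain ⟨h1, h2⟩ := hv
    let b : Fin δ → Fin 5 := fun i => ⟨(v i.succ).toNat, by
      have := hb i
      omega⟩
    have hbv : ∀ i, (((b i : Fin 5) : ℕ) : ℤ) = v i.succ := fun i => by
      have := hb i
      show ((v i.succ).toNat : ℤ) = v i.succ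
      omega
    have hav : (((v 0).toNat : ℕ) : ℤ) = v 0 := by omega
    refine ⟨((v 0).toNat, b), ?_, ?_⟩
    · unfold C
      rw [Finset.mem_filter, Finset.mem_product]
      refine ⟨⟨Finset.mem_Icc.mpr ⟨by omega, by omega⟩, Finset.mem_univ _⟩, ?_⟩
      show ∑ i, E (b i) = idx (v 0).toNat
      rw [sum_E_eq]
      unfold idx
      have e1 : ((∑ i, ((b i : Fin 5) : ℕ) : ℕ) : ℤ) = 3 * v 0 - 2 := by
        rw [← h2]; push_cast
        exact Finset.sum_congr rfl fun i _ => hbv i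
      have e2 : ((∑ i, ((b i : Fin 5) : ℕ) * ((b i : Fin 5) : ℕ) : ℕ) : ℤ) = v 0 ^ 2 := by
        rw [h1]; push_cast
        exact Finset.sum_congr rfl fun i _ => by rw [hbv i, sq]
      have e3 : (((v 0).toNat ^ 2 : ℕ) : ℤ) = v 0 ^ 2 := by push_cast; rw [hav]
      have e4 : ((3 * (v 0).toNat - 2 : ℕ) : ℤ) = 3 * v 0 - 2 := by omega
      apply Int.natCast_inj.mp
      rw [Nat.cast_add, Nat.cast_add, Nat.cast_mul, Nat.cast_mul, e1, e2, e3, e4]
    · funext j
      refine Fin.cases ?_ (fun i => ?_) j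
      · simp only [toDP, Fin.cons_zero]; exact hav
      · simp only [toDP, Fin.cons_succ]; exact hbv i
  · rintro ⟨⟨a, b⟩, hp, rfl⟩
    unfold C at hp
    rw [Finset.mem_filter, Finset.mem_product, Finset.mem_Icc] at hp
    obtain ⟨⟨⟨ha1, ha11⟩, -⟩, hE⟩ := hp
    simp only at ha1 ha11 hE
    rw [sum_E_eq] at hE
    unfold idx at hE
    have hsq := sum_sq_le b
    have ha2 : a ^ 2 ≤ 121 := by nlinarith
    set S1 := ∑ i, ((b i : Fin 5) : ℕ) with hS1
    set S2 := ∑ i, ((b i : Fin 5) : ℕ) * ((b i : Fin 5) : ℕ) with hS2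
    set q := a ^ 2 with hq
    have r1 : S1 = 3 * a - 2 := by omega
    have r2 : S2 = q := by omega
    rw [isConic_iff]
    simp only [toDP, Fin.cons_zero, Fin.cons_succ]
    constructor
    · have : ((q : ℕ) : ℤ) = ((S2 : ℕ) : ℤ) := by rw [r2]
      rw [hq, hS2] at this
      push_cast at this
      rw [this]
      exact Finset.sum_congr rfl fun i _ => (sq _).symm
    · have : ((S1 : ℕ) : ℤ) = ((3 * a - 2 : ℕ) : ℤ) := by rw [r1]
      rw [hS1] at this
      push_cast at this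
      rw [this]
      omega

theorem ncard_conic {δ : ℕ} (hδ : δ ≤ 8) :
    {v : DP δ | IsConic v}.ncard = ∑ a ∈ Finset.Icc 1 11, coeffB (pp ^ δ) (idx a) := by
  rw [conic_set_eq hδ, Set.ncard_coe_finset, Finset.card_image_of_injective _ (toDP_injective δ),
    card_C]
  exact Finset.sum_congr rfl fun a _ => (coeffB_eq hδ _).symm

theorem t8 : ∑ a ∈ Finset.Icc 1 11, coeffB (pp ^ 8) (idx a) = 2160 := by decide +kernel
theorem t7 : ∑ a ∈ Finset.Icc 1 11, coeffB (pp ^ 7) (idx a) = 126 := by decide +kernel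
theorem t6 : ∑ a ∈ Finset.Icc 1 11, coeffB (pp ^ 6) (idx a) = 27 := by decide +kernel
theorem t5 : ∑ a ∈ Finset.Icc 1 11, coeffB (pp ^ 5) (idx a) = 10 := by decide +kernel
theorem t4 : ∑ a ∈ Finset.Icc 1 11, coeffB (pp ^ 4) (idx a) = 5 := by decide +kernel
theorem t3 : ∑ a ∈ Finset.Icc 1 11, coeffB (pp ^ 3) (idx a) = 3 := by decide +kernel
theorem t2 : ∑ a ∈ Finset.Icc 1 11, coeffB (pp ^ 2) (idx a) = 2 := by decide +kernel

end Groth.Agent.Lib.Helper64.DPCount
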