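import Mathlib
import Groth.Agent.Lib.Helper64.DPConic8b

/-!
# Padding `DP δ` into `DP 8` and restricting Weyl elements (helper library for S15907)
-/

set_option autoImplicit false

namespace Groth.Agent.Lib.Helper64.DPPad

open W4c3severiratdp Groth.Agent.Lib.Helper64.DPLat Groth.Agent.Lib.Helper64.DPWeyl
open Groth.Agent.Lib.Helper64.DPExc8 Groth.Agent.Lib.Helper64.DPConic8

variable {δ : ℕ}

/-- Zero padding. -/
def iota : DP δ →ₗ[ℤ] DP 8 where
  toFun v := Fin.cons (v 0)
    (fun i : Fin 8 => if h : i.val < δ then v (⟨i.val, h⟩ : Fin δ).succ else 0)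
  map_add' v w := by
    funext j
    refine Fin.cases ?_ (fun i => ?_) j
    · simp
    · simp only [Fin.cons_succ, Pi.add_apply]
      split_ifs <;> simp
  map_smul' c v := by
    funext j
    refine Fin.cases ?_ (fun i => ?_) j
    · simp
    · simp only [Fin.cons_succ, Pi.smul_apply, RingHom.id_apply]
      split_ifs <;> simp

theorem iota_zero (v : DP δ) : iota v 0 = v 0 := rfl

theorem iota_succ (v : DP δ) (i : Fin 8) :
    iota v i.succ = if h : i.val < δ then v (⟨i.val, h⟩ : Fin δ).succ else 0 := by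
  show (Fin.cons (v 0) (fun i : Fin 8 => if h : i.val < δ then v (⟨i.val, h⟩ : Fin δ).succ
    else 0) : DP 8) i.succ = _
  rw [Fin.cons_succ]

/-- Truncation. -/
def pi (hδ : δ ≤ 8) : DP 8 →ₗ[ℤ] DP δ where
  toFun w := Fin.cons (w 0) (fun i : Fin δ => w (Fin.castLE hδ i).succ)
  map_add' v w := by
    funext j
    refine Fin.cases ?_ (fun i => ?_) j <;> simp
  map_smul' c v := by
    funext j
    refine Fin.cases ?_ (fun i => ?_) j <;> simp

theorem pi_zero (hδ : δ ≤ 8) (w : DP 8) : pi hδ w 0 = w 0 := rfl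

theorem pi_succ (hδ : δ ≤ 8) (w : DP 8) (i : Fin δ) :
    pi hδ w i.succ = w (Fin.castLE hδ i).succ := by
  show (Fin.cons (w 0) (fun i : Fin δ => w (Fin.castLE hδ i).succ) : DP δ) i.succ = _
  rw [Fin.cons_succ]

theorem pi_iota (hδ : δ ≤ 8) (v : DP δ) : pi hδ (iota v) = v := by
  funext j
  refine Fin.cases ?_ (fun i => ?_) j
  · rfl
  · rw [pi_succ, iota_succ, dif_pos (by exact i.2)]
    rfl

theorem iota_pi (hδ : δ ≤ 8) (w : DP 8) (hw : InC δ w) : iota (pi hδ w) = w := by
  funext j
  refine Fin.cases ?_ (fun i => ?_) j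
  · rfl
  · rw [iota_succ]
    by_cases h : i.val < δ
    · rw [dif_pos h, pi_succ]
      rfl
    · rw [dif_neg h, hw i (not_lt.mp h)]

theorem inC_iota (v : DP δ) : InC δ (iota v) := fun j hj => by
  rw [iota_succ, dif_neg (not_lt.mpr hj)]

theorem iota_injective (hδ : δ ≤ 8) : Function.Injective (iota : DP δ → DP 8) := by
  intro v w h
  rw [← pi_iota hδ v, ← pi_iota hδ w, h]

theorem form_iota (hδ : δ ≤ 8) (v w : DP δ) : form (iota v) (iota w) = form v w := by
  unfold form
  rw [iota_zero, iota_zero]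
  congr 1
  simp only [iota_succ]
  rw [Finset.sum_fin_eq_sum_range, Finset.sum_fin_eq_sum_range]
  symm
  apply Finset.sum_subset_zero_on_sdiff (Finset.range_subset_range.mpr hδ)
  · intro i hi
    rw [Finset.mem_sdiff, Finset.mem_range, Finset.mem_range] at hi
    rw [dif_pos hi.1, dif_neg hi.2, zero_mul]
  · intro i hi
    rw [Finset.mem_range] at hi
    rw [dif_pos hi, dif_pos (lt_of_lt_of_le hi hδ), dif_pos hi, dif_pos hi]

theorem sum_iota (hδ : δ ≤ 8) (v : DP δ) :
    ∑ i : Fin 8, iota v i.succ = ∑ i : Fin δ, v i.succ := by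
  simp only [iota_succ]
  rw [Finset.sum_fin_eq_sum_range, Finset.sum_fin_eq_sum_range]
  symm
  apply Finset.sum_subset_zero_on_sdiff (Finset.range_subset_range.mpr hδ)
  · intro i hi
    rw [Finset.mem_sdiff, Finset.mem_range, Finset.mem_range] at hi
    rw [dif_pos hi.1, dif_neg hi.2]
  · intro i hi
    rw [Finset.mem_range] at hi
    rw [dif_pos hi, dif_pos (lt_of_lt_of_le hi hδ), dif_pos hi]

theorem isConic_iota (hδ : δ ≤ 8) {v : DP δ} (hv : IsConic v) : IsConic (iota v) := by
  refine ⟨by rw [form_iota hδ]; exact hv.1, ?_⟩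
  have := hv.2
  rw [form_canon] at this ⊢
  rw [sum_iota hδ, iota_zero]
  exact this

/-- The padded canonical class. -/
theorem iota_canon :
    iota (canon δ) = canon 8 - ∑ j ∈ Finset.univ.filter (fun j : Fin 8 => δ ≤ j.val), eV j := by
  funext t
  refine Fin.cases ?_ (fun i => ?_) t
  · rw [iota_zero, Pi.sub_apply, Finset.sum_apply]
    have : ∀ j ∈ Finset.univ.filter (fun j : Fin 8 => δ ≤ j.val), eV j 0 = 0 := by
      intro j _
      exact Pi.single_eq_of_ne (Fin.succ_ne_zero j).symm _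
    rw [Finset.sum_eq_zero this]
    simp [canon]
  · rw [iota_succ, Pi.sub_apply, Finset.sum_apply]
    simp only [eV_succ]
    rw [Finset.sum_ite_eq]
    simp only [Finset.mem_filter, Finset.mem_univ, true_and]
    by_cases h : i.val < δ
    · rw [dif_pos h, if_neg (not_le.mpr h)]
      simp [canon]
    · rw [dif_neg h, if_pos (not_lt.mp h)]
      simp [canon]

/-- Restriction of a Weyl element of `DP 8` fixing the classes `e_{j+1}`, `j ≥ δ`. -/
noncomputable def restrict (hδ : δ ≤ 8) (G : DP 8 ≃ₗ[ℤ] DP 8) (hG : IsWeyl G) (hF : FixTail δ G) :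
    DP δ ≃ₗ[ℤ] DP δ :=
  LinearEquiv.ofLinear ((pi hδ).comp (G.toLinearMap.comp iota))
    ((pi hδ).comp (G.symm.toLinearMap.comp iota))
    (by
      refine LinearMap.ext fun v => ?_
      have hC : InC δ (G.symm (iota v)) :=
        InC.map (IsWeyl.symm hG) (FixTail.symm hF) (inC_iota v)
      show pi hδ (G (iota (pi hδ (G.symm (iota v))))) = v
      rw [iota_pi hδ _ hC, LinearEquiv.apply_symm_apply, pi_iota])
    (by
      refine LinearMap.ext fun v => ?_
      have hC : InC δ (G (iota v)) := InC.map hG hF (inC_iota v)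
      show pi hδ (G.symm (iota (pi hδ (G (iota v))))) = v
      rw [iota_pi hδ _ hC, LinearEquiv.symm_apply_apply, pi_iota])

theorem restrict_apply (hδ : δ ≤ 8) (G : DP 8 ≃ₗ[ℤ] DP 8) (hG : IsWeyl G) (hF : FixTail δ G)
    (v : DP δ) : restrict hδ G hG hF v = pi hδ (G (iota v)) := rfl

theorem iota_restrict (hδ : δ ≤ 8) (G : DP 8 ≃ₗ[ℤ] DP 8) (hG : IsWeyl G) (hF : FixTail δ G)
    (v : DP δ) : iota (restrict hδ G hG hF v) = G (iota v) := by
  rw [restrict_apply]
  exact iota_pi hδ _ (InC.map hG hF (inC_iota v))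

theorem isWeyl_restrict (hδ : δ ≤ 8) (G : DP 8 ≃ₗ[ℤ] DP 8) (hG : IsWeyl G) (hF : FixTail δ G) :
    IsWeyl (restrict hδ G hG hF) := by
  constructor
  · intro v w
    rw [← form_iota hδ, iota_restrict, iota_restrict, hG.1, form_iota hδ]
  · apply iota_injective hδ
    rw [iota_restrict, iota_canon, map_sub, map_sum, hG.2]
    congr 1
    refine Finset.sum_congr rfl fun j hj => ?_
    exact hF j (Finset.mem_filter.mp hj).2

end Groth.Agent.Lib.Helper64.DPPad
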