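import Mathlib
import Groth.Agent.Lib.Helper64.DPPad

/-!
# Weyl orbits of ordered pairs of conic classes in `DP δ`, `2 ≤ δ ≤ 8` (helper library for S15907)
-/

set_option autoImplicit false

namespace Groth.Agent.Lib.Helper64.DPPad

open W4c3severiratdp Groth.Agent.Lib.Helper64.DPLat Groth.Agent.Lib.Helper64.DPWeyl
open Groth.Agent.Lib.Helper64.DPExc8 Groth.Agent.Lib.Helper64.DPConic8

/-- The two conic classes of `DP 2`. -/
theorem conic_two (v : DP 2) (hv : IsConic v) : v = ![1, 1, 0] ∨ v = ![1, 0, 1] := by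
  obtain ⟨ha1, ha11, hb⟩ := conic_bounds (by norm_num : 2 ≤ 8) v hv
  obtain ⟨h1, h2⟩ := (isConic_iff v).mp hv
  rw [Fin.sum_univ_two] at h1 h2
  have b0 := hb 0
  have b1 := hb 1
  have e : v = ![v 0, v 1, v 2] := by
    funext j
    fin_cases j <;> rfl
  have h1' : v 0 ^ 2 = v 1 ^ 2 + v 2 ^ 2 := h1
  have h2' : v 1 + v 2 = 3 * v 0 - 2 := h2
  have c0 : 0 ≤ v 1 := b0.1
  have c1 : v 1 ≤ 4 := b0.2
  have c2 : 0 ≤ v 2 := b1.1
  have c3 : v 2 ≤ 4 := b1.2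
  obtain ⟨a, ha⟩ : ∃ a, a = v 0 := ⟨_, rfl⟩
  obtain ⟨x, hx⟩ : ∃ x, x = v 1 := ⟨_, rfl⟩
  obtain ⟨y, hy⟩ : ∃ y, y = v 2 := ⟨_, rfl⟩
  rw [e, ← ha, ← hx, ← hy]
  rw [← ha, ← hx, ← hy] at h1' h2'
  rw [← ha] at ha1 ha11
  rw [← hx] at c0 c1
  rw [← hy] at c2 c3
  have ha3 : a ≤ 3 := by omega
  clear e h1 h2 b0 b1 hb ha hx hy
  interval_cases a <;> interval_cases x <;> interval_cases y <;> simp_all

theorem pairs_two (v₁ v₂ w₁ w₂ : DP 2) (hv₁ : IsConic v₁) (hv₂ : IsConic v₂) (hw₁ : IsConic w₁)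
    (hw₂ : IsConic w₂) (heq : form v₁ v₂ = form w₁ w₂) :
    ∃ g : DP 2 ≃ₗ[ℤ] DP 2, IsWeyl g ∧ g v₁ = w₁ ∧ g v₂ = w₂ := by
  rcases conic_two v₁ hv₁ with rfl | rfl <;> rcases conic_two v₂ hv₂ with rfl | rfl <;>
  rcases conic_two w₁ hw₁ with rfl | rfl <;> rcases conic_two w₂ hw₂ with rfl | rfl <;>
  first
    | exact ⟨LinearEquiv.refl ℤ _, isWeyl_refl, rfl, rfl⟩
    | exact ⟨permL (Equiv.swap 0 1), isWeyl_permL _, by decide, by decide⟩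
    | (exfalso; revert heq; decide)

theorem inC_TF4a {m : ℕ} (hm : m ≤ 8) (h : InC m TF4a) : m = 8 := by
  by_contra hne
  have := h 7 (by
    show m ≤ 7
    omega)
  revert this
  decide

/-- Ordered pairs of conic classes with the same intersection number are Weyl conjugate, except for
`δ = 8` and intersection number `4`. -/
theorem conic_pairs (δ : ℕ) (h2 : 2 ≤ δ) (h8 : δ ≤ 8)
    (v₁ v₂ w₁ w₂ : DP δ) (hv₁ : IsConic v₁) (hv₂ : IsConic v₂) (hw₁ : IsConic w₁)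
    (hw₂ : IsConic w₂) (heq : form v₁ v₂ = form w₁ w₂) (hexc : ¬ (δ = 8 ∧ form v₁ v₂ = 4)) :
    ∃ g : DP δ ≃ₗ[ℤ] DP δ, IsWeyl g ∧ g v₁ = w₁ ∧ g v₂ = w₂ := by
  by_cases hδ2 : δ = 2
  · subst hδ2
    exact pairs_two v₁ v₂ w₁ w₂ hv₁ hv₂ hw₁ hw₂ heq
  have h3 : 3 ≤ δ := by omega
  -- pad
  have cV1 := isConic_iota h8 hv₁
  have cV2 := isConic_iota h8 hv₂
  have cW1 := isConic_iota h8 hw₁
  have cW2 := isConic_iota h8 hw₂
  obtain ⟨a1, -, -⟩ := conic_bounds (le_refl 8) _ cV1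
  obtain ⟨a2, -, -⟩ := conic_bounds (le_refl 8) _ cW1
  obtain ⟨g1, hg1, hg1T, hg1v⟩ := descentC δ h3 h8 (iota v₁ 0).toNat (iota v₁) cV1 (inC_iota v₁)
    (by omega)
  obtain ⟨k1, hk1, hk1T, hk1v⟩ := descentC δ h3 h8 (iota w₁ 0).toNat (iota w₁) cW1 (inC_iota w₁)
    (by omega)
  have cU : IsConic (g1 (iota v₂)) := IsWeyl.isConic hg1 cV2
  have cU' : IsConic (k1 (iota w₂)) := IsWeyl.isConic hk1 cW2
  have iU : InC δ (g1 (iota v₂)) := InC.map hg1 hg1T (inC_iota v₂)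
  have iU' : InC δ (k1 (iota w₂)) := InC.map hk1 hk1T (inC_iota w₂)
  obtain ⟨a3, -, -⟩ := conic_bounds (le_refl 8) _ cU
  obtain ⟨a4, -, -⟩ := conic_bounds (le_refl 8) _ cU'
  obtain ⟨g2, hg2, hg2T, hg2F, hg2m⟩ := descentCF δ h3 h8 (g1 (iota v₂) 0).toNat _ cU iU (by omega)
  obtain ⟨k2, hk2, hk2T, hk2F, hk2m⟩ := descentCF δ h3 h8 (k1 (iota w₂) 0).toNat _ cU' iU'
    (by omega)
  have f1 : form F (g2 (g1 (iota v₂))) = form v₁ v₂ := by
    conv_lhs => rw [← hg2F]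
    rw [hg2.1, ← hg1v, hg1.1, form_iota h8]
  have f2 : form F (k2 (k1 (iota w₂))) = form w₁ w₂ := by
    conv_lhs => rw [← hk2F]
    rw [hk2.1, ← hk1v, hk1.1, form_iota h8]
  have iN : InC δ (g2 (g1 (iota v₂))) := InC.map hg2 hg2T iU
  have iN' : InC δ (k2 (k1 (iota w₂))) := InC.map hk2 hk2T iU'
  have hN : g2 (g1 (iota v₂)) = k2 (k1 (iota w₂)) := by
    rcases minF_unique hg2m hk2m (by rw [f1, f2, heq]) with h | ⟨h, -⟩ | ⟨-, h⟩
    · exact h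
    · exfalso
      rw [h] at iN f1
      exact hexc ⟨inC_TF4a h8 iN, by rw [← f1]; decide⟩
    · exfalso
      rw [h] at iN' f2
      exact hexc ⟨inC_TF4a h8 iN', by rw [heq, ← f2]; decide⟩
  -- assemble
  let G : DP 8 ≃ₗ[ℤ] DP 8 := g1.trans (g2.trans (k2.symm.trans k1.symm))
  have hG : IsWeyl G :=
    IsWeyl.trans hg1 (IsWeyl.trans hg2 (IsWeyl.trans (IsWeyl.symm hk2) (IsWeyl.symm hk1)))
  have hGT : FixTail δ G :=
    FixTail.trans hg1T (FixTail.trans hg2T (FixTail.trans (FixTail.symm hk2T)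
      (FixTail.symm hk1T)))
  have hG1 : G (iota v₁) = iota w₁ := by
    show k1.symm (k2.symm (g2 (g1 (iota v₁)))) = iota w₁
    rw [hg1v, hg2F, (LinearEquiv.symm_apply_eq k2).mpr hk2F.symm,
      (LinearEquiv.symm_apply_eq k1).mpr hk1v.symm]
  have hG2 : G (iota v₂) = iota w₂ := by
    show k1.symm (k2.symm (g2 (g1 (iota v₂)))) = iota w₂
    rw [hN, LinearEquiv.symm_apply_apply, LinearEquiv.symm_apply_apply]
  refine ⟨restrict h8 G hG hGT, isWeyl_restrict h8 G hG hGT, ?_, ?_⟩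
  · apply iota_injective h8
    rw [iota_restrict, hG1]
  · apply iota_injective h8
    rw [iota_restrict, hG2]

end Groth.Agent.Lib.Helper64.DPPad
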