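import Mathlib
import Groth.Agent.Lib.Helper64.DPExc8b

/-!
# Orbits of the stabiliser of an exceptional class on triples (helper library for S15910)
-/

set_option autoImplicit false

namespace Groth.Agent.Lib.Helper64.DPExc8

open W4c3severiratdp Groth.Agent.Lib.Helper64.DPLat Groth.Agent.Lib.Helper64.DPWeyl

def T0 : DP 8 := ![6, 2, 2, 2, 2, 2, 2, 2, 1]
def P2 : DP 8 := ![6, 2, 2, 2, 2, 2, 2, 3, 2]
def P3 : DP 8 := ![5, 1, 2, 2, 2, 2, 2, 2, 1]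

theorem T0_eq : E0 - 2 • canon 8 = T0 := by decide

/-- Representatives of the four orbits (for `L = E0`). -/
def r0 : Fin 4 → Fin 3 → DP 8 :=
  ![![E0, E0, M3], ![E0, M0, P2], ![E0, M1, P3], ![M0, N6, P3]]

theorem isExc_r0 : ∀ j i, IsExc (r0 j i) := by
  unfold IsExc
  decide

theorem sum_r0 : ∀ j, r0 j 0 + r0 j 1 + r0 j 2 = T0 := by decide

def Ival : Fin 4 → ℤ := ![11, 5, 3, 1]

theorem I_r0 : ∀ j, ∑ i, (form (r0 j i) E0) ^ 2 = Ival j := by decide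

theorem Ival_inj : ∀ j j', Ival j = Ival j' → j = j' := by decide

theorem eq_E0_of_eight {v : DP 8} (hv : IsExc v) (h8 : v 8 = -1) : v = E0 := by
  obtain ⟨ha0, -, -⟩ := exc_bounds (le_refl 8) v hv
  obtain ⟨g, -, hgE, hgv⟩ := descent7 (v 0).toNat v hv (by omega)
  rw [h8] at hgv
  have : g v = g E0 := by rw [hgv, hgE]; rfl
  exact g.injective this

theorem map_T0 {g : DP 8 ≃ₗ[ℤ] DP 8} (hg : IsWeyl g) (hgE : g E0 = E0) : g T0 = T0 := by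
  rw [← T0_eq, map_sub, map_nsmul, hgE, hg.2]

theorem form_T0 {v : DP 8} (hv : IsExc v) : form v T0 = v 8 + 2 := by
  have h2 := hv.2
  rw [form_canon, Fin.sum_univ_eight] at h2
  have h2' : -3 * v 0 + (v 1 + v 2 + v 3 + v 4 + v 5 + v 6 + v 7 + v 8) = -1 := h2
  have h3 : form v T0 = 6 * v 0 - (2 * v 1 + 2 * v 2 + 2 * v 3 + 2 * v 4 + 2 * v 5 + 2 * v 6 +
      2 * v 7 + v 8) := by
    unfold form T0
    rw [Fin.sum_univ_eight]
    simp
    ring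
  rw [h3]
  linarith

/-- The classification of triples for `L = E0`. -/
theorem triple_E0 (t : Fin 3 → DP 8) (ht : ∀ i, IsExc (t i)) (hsum : t 0 + t 1 + t 2 = T0) :
    ∃ j : Fin 4, ∃ g : DP 8 ≃ₗ[ℤ] DP 8, IsWeyl g ∧ g E0 = E0 ∧
      ∃ σ : Equiv.Perm (Fin 3), ∀ i, g (t (σ i)) = r0 j i := by
  let k : Fin 3 → ℤ := fun i => t i 8
  let σ : Equiv.Perm (Fin 3) := Tuple.sort k
  have hmono : Monotone (k ∘ σ) := Tuple.monotone_sort k
  have hsum' : t (σ 0) + t (σ 1) + t (σ 2) = T0 := by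
    rw [← hsum, ← Fin.sum_univ_three (fun i => t (σ i)), ← Fin.sum_univ_three t]
    exact Equiv.sum_comp σ t
  obtain ⟨u0, hu0⟩ : ∃ u, u = t (σ 0) := ⟨_, rfl⟩
  obtain ⟨u1, hu1⟩ : ∃ u, u = t (σ 1) := ⟨_, rfl⟩
  obtain ⟨u2, hu2⟩ : ∃ u, u = t (σ 2) := ⟨_, rfl⟩
  rw [← hu0, ← hu1, ← hu2] at hsum'
  have x0 : IsExc u0 := hu0 ▸ ht _
  have x1 : IsExc u1 := hu1 ▸ ht _
  have x2 : IsExc u2 := hu2 ▸ ht _
  have m01 : u0 8 ≤ u1 8 := by
    rw [hu0, hu1]; exact hmono (show (0 : Fin 3) ≤ 1 by decide)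
  have m12 : u1 8 ≤ u2 8 := by
    rw [hu1, hu2]; exact hmono (show (1 : Fin 3) ≤ 2 by decide)
  have hk : u0 8 + u1 8 + u2 8 = 1 := by
    have := congrFun hsum' 8
    simpa [T0] using this
  obtain ⟨-, -, hb0⟩ := exc_bounds (le_refl 8) u0 x0
  obtain ⟨-, -, hb1⟩ := exc_bounds (le_refl 8) u1 x1
  obtain ⟨-, -, hb2⟩ := exc_bounds (le_refl 8) u2 x2
  have b0 := hb0 7
  have b1 := hb1 7
  have b2 := hb2 7
  have hu2' : u2 = T0 - u0 - u1 := by rw [← hsum']; abel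
  have hgoal : ∀ (j : Fin 4) (g : DP 8 ≃ₗ[ℤ] DP 8), IsWeyl g → g E0 = E0 →
      g u0 = r0 j 0 → g u1 = r0 j 1 → g u2 = r0 j 2 →
      ∃ j : Fin 4, ∃ g : DP 8 ≃ₗ[ℤ] DP 8, IsWeyl g ∧ g E0 = E0 ∧
        ∃ σ : Equiv.Perm (Fin 3), ∀ i, g (t (σ i)) = r0 j i := by
    intro j g hg hgE e0 e1 e2
    refine ⟨j, g, hg, hgE, σ, fun i => ?_⟩
    fin_cases i
    · show g (t (σ 0)) = r0 j 0
      rw [← e0, hu0]
    · show g (t (σ 1)) = r0 j 1
      rw [← e1, hu1]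
    · show g (t (σ 2)) = r0 j 2
      rw [← e2, hu2]
  have hcases : (u0 8 = -1 ∧ u1 8 = -1 ∧ u2 8 = 3) ∨ (u0 8 = -1 ∧ u1 8 = 0 ∧ u2 8 = 2) ∨
      (u0 8 = -1 ∧ u1 8 = 1 ∧ u2 8 = 1) ∨ (u0 8 = 0 ∧ u1 8 = 0 ∧ u2 8 = 1) := by
    have c0 : -1 ≤ u0 8 := b0.1
    have c1 : u2 8 ≤ 3 := b2.2
    omega
  rcases hcases with ⟨k0, k1, k2⟩ | ⟨k0, k1, k2⟩ | ⟨k0, k1, k2⟩ | ⟨k0, k1, k2⟩
  · -- (E0, E0, M3)
    have e0 : u0 = E0 := eq_E0_of_eight x0 k0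
    have e1 : u1 = E0 := eq_E0_of_eight x1 k1
    have e2 : u2 = M3 := by rw [hu2', e0, e1]; decide
    refine hgoal 0 (LinearEquiv.refl ℤ _) isWeyl_refl rfl ?_ ?_ ?_
    · rw [e0]; rfl
    · rw [e1]; rfl
    · rw [e2]; rfl
  · -- (E0, k = 0, k = 2)
    have e0 : u0 = E0 := eq_E0_of_eight x0 k0
    obtain ⟨ha, -, -⟩ := exc_bounds (le_refl 8) u1 x1
    obtain ⟨g, hg, hgE, hgv⟩ := descent7 (u1 0).toNat u1 x1 (by omega)
    rw [k1] at hgv
    refine hgoal 1 g hg hgE ?_ ?_ ?_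
    · rw [e0, hgE]; rfl
    · rw [hgv]; rfl
    · rw [hu2', map_sub, map_sub, map_T0 hg hgE, e0, hgE, hgv]; decide
  · -- (E0, k = 1, k = 1)
    have e0 : u0 = E0 := eq_E0_of_eight x0 k0
    obtain ⟨ha, -, -⟩ := exc_bounds (le_refl 8) u1 x1
    obtain ⟨g, hg, hgE, hgv⟩ := descent7 (u1 0).toNat u1 x1 (by omega)
    rw [k1] at hgv
    refine hgoal 2 g hg hgE ?_ ?_ ?_
    · rw [e0, hgE]; rfl
    · rw [hgv]; rfl
    · rw [hu2', map_sub, map_sub, map_T0 hg hgE, e0, hgE, hgv]; decide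
  · -- (k = 0, k = 0, k = 1)
    obtain ⟨ha, -, -⟩ := exc_bounds (le_refl 8) u0 x0
    obtain ⟨g1, hg1, hg1E, hg1v⟩ := descent7 (u0 0).toNat u0 x0 (by omega)
    rw [k0] at hg1v
    have hM0 : g1 u0 = M0 := hg1v
    -- the intersection number of `u0` and `u1`
    have f0 := form_T0 x0
    have f1 := form_T0 x1
    have f2 := form_T0 x2
    rw [← hsum', form_add_right, form_add_right] at f0 f1 f2
    rw [x0.1, form_comm u0 u2] at f0
    rw [x1.1, form_comm u1 u0, form_comm u1 u2] at f1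
    rw [x2.1] at f2
    have hx01 : form u0 u1 = 1 := by omega
    have hu18 : g1 u1 8 = 0 := by
      rw [← form_E0 (g1 u1), ← hg1E, hg1.1, form_E0, k1]
    have hu17 : g1 u1 7 = 1 := by
      rw [← form_M0 (g1 u1), ← hM0, hg1.1, form_comm, hx01]
    have hx : IsExc (g1 u1) := IsWeyl.isExc hg1 x1
    obtain ⟨ha', -, -⟩ := exc_bounds (le_refl 8) _ hx
    obtain ⟨g2, hg2, hg2E, hg2M, hg2v⟩ := descent6 (g1 u1 0).toNat (g1 u1) hx hu17 hu18 (by omega)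
    have hgE : (g1.trans g2) E0 = E0 := by
      rw [LinearEquiv.trans_apply, hg1E, hg2E]
    have hgW : IsWeyl (g1.trans g2) := IsWeyl.trans hg1 hg2
    refine hgoal 3 (g1.trans g2) hgW hgE ?_ ?_ ?_
    · rw [LinearEquiv.trans_apply, hM0, hg2M]; rfl
    · rw [LinearEquiv.trans_apply, hg2v]; rfl
    · rw [hu2', map_sub, map_sub, map_T0 hgW hgE, LinearEquiv.trans_apply,
        LinearEquiv.trans_apply, hM0, hg2M, hg2v]
      decide

/-- The stabiliser of an exceptional class `L` of `DP 8` has exactly four orbits on unordered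
triples of exceptional classes with sum `L - 2K`. -/
theorem triples (L : DP 8) (hL : IsExc L) :
    ∃ r : Fin 4 → (Fin 3 → DP 8),
      (∀ j, (∀ i, IsExc (r j i)) ∧ r j 0 + r j 1 + r j 2 = L - 2 • canon 8) ∧
      (∀ j j', (∃ g : DP 8 ≃ₗ[ℤ] DP 8, IsWeyl g ∧ g L = L ∧
        ∃ σ : Equiv.Perm (Fin 3), ∀ i, g (r j (σ i)) = r j' i) → j = j') ∧
      ∀ t : Fin 3 → DP 8, (∀ i, IsExc (t i)) → t 0 + t 1 + t 2 = L - 2 • canon 8 →
        ∃ j, ∃ g : DP 8 ≃ₗ[ℤ] DP 8, IsWeyl g ∧ g L = L ∧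
          ∃ σ : Equiv.Perm (Fin 3), ∀ i, g (t (σ i)) = r j i := by
  obtain ⟨g0, hg0, hg0L⟩ := exists_E0 L hL
  have hg0s : IsWeyl g0.symm := IsWeyl.symm hg0
  have hsL : g0.symm E0 = L := (LinearEquiv.symm_apply_eq g0).mpr hg0L.symm
  have hsT : g0.symm T0 = L - 2 • canon 8 := by
    rw [← T0_eq, map_sub, map_nsmul, hsL, hg0s.2]
  have hT : g0 (L - 2 • canon 8) = T0 := by
    rw [← hsT, LinearEquiv.apply_symm_apply]
  have hform : ∀ w : DP 8, form (g0.symm w) L = form w E0 := by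
    intro w
    rw [← hg0.1 (g0.symm w) L, LinearEquiv.apply_symm_apply, hg0L]
  refine ⟨fun j i => g0.symm (r0 j i), ?_, ?_, ?_⟩
  · intro j
    refine ⟨fun i => IsWeyl.isExc hg0s (isExc_r0 j i), ?_⟩
    rw [← map_add, ← map_add, sum_r0, hsT]
  · rintro j j' ⟨g, hg, hgL, σ, h⟩
    apply Ival_inj
    rw [← I_r0 j, ← I_r0 j']
    have h' : ∀ i, g (g0.symm (r0 j (σ i))) = g0.symm (r0 j' i) := h
    have e1 : ∀ i, form (r0 j' i) E0 = form (r0 j (σ i)) E0 := by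
      intro i
      rw [← hform (r0 j' i), ← h' i, ← hform (r0 j (σ i))]
      conv_lhs => rw [← hgL]
      rw [hg.1]
    calc ∑ i, (form (r0 j i) E0) ^ 2 = ∑ i, (form (r0 j (σ i)) E0) ^ 2 :=
          (Equiv.sum_comp σ (fun i => (form (r0 j i) E0) ^ 2)).symm
      _ = ∑ i, (form (r0 j' i) E0) ^ 2 := Finset.sum_congr rfl (fun i _ => by rw [e1 i])
  · intro t ht hsum
    have ht' : ∀ i, IsExc (g0 (t i)) := fun i => IsWeyl.isExc hg0 (ht i)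
    have hsum' : g0 (t 0) + g0 (t 1) + g0 (t 2) = T0 := by
      rw [← map_add, ← map_add, hsum, hT]
    obtain ⟨j, g, hg, hgE, σ, h⟩ := triple_E0 (fun i => g0 (t i)) ht' hsum'
    refine ⟨j, g0.trans (g.trans g0.symm), IsWeyl.trans hg0 (IsWeyl.trans hg hg0s), ?_, σ, ?_⟩
    · rw [LinearEquiv.trans_apply, LinearEquiv.trans_apply, hg0L, hgE, hsL]
    · intro i
      rw [LinearEquiv.trans_apply, LinearEquiv.trans_apply]
      have h' : g (g0 (t (σ i))) = r0 j i := h i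
      rw [h']

end Groth.Agent.Lib.Helper64.DPExc8
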