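/-
helper64: dimension of generic determinantal rings, part A (upper bound).
If `D` is a domain generated over a field `k` by the entries of an `n × m` matrix all of whose
`(r+1)`-minors vanish, then `trdeg_k D ≤ r (m + n - r)`.
-/
import Mathlib
import Groth.Agent.Lib.Helper73.DimField

set_option autoImplicit false
universe u v
open Matrix Cardinal

namespace Groth.Agent.Lib.Helper64.DetDim

/-- the dimension of a quotient is bounded by the dimensions of the minimal components
(copied from Helper87.HilbFnG). -/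
theorem ringKrullDim_quotient_le_of_minimalPrimes {A : Type*} [CommRing A] (I : Ideal A)
    (c : WithBot ℕ∞) (h : ∀ q ∈ I.minimalPrimes, ringKrullDim (A ⧸ q) ≤ c) :
    ringKrullDim (A ⧸ I) ≤ c := by
  rw [ringKrullDim_quotient]
  refine iSup_le fun l => ?_
  have hl : I ≤ l.head.1.asIdeal := l.head.2
  obtain ⟨q, hq, hq'⟩ := Ideal.exists_minimalPrimes_le hl
  have hle : ∀ i, q ≤ (l i).1.asIdeal := fun i =>
    hq'.trans (LTSeries.head_le l i)
  let l' : LTSeries (PrimeSpectrum.zeroLocus (R := A) q) :=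
    { length := l.length
      toFun := fun i => ⟨(l i).1, hle i⟩
      step := fun i => l.step i }
  have h1 := Order.LTSeries.length_le_krullDim l'
  have h2 := h q hq
  rw [ringKrullDim_quotient] at h2
  exact h1.trans h2

section bordered

variable {D : Type*} [CommRing D]

/-- The bordered-minor identity (division free form of Cramer's rule). -/
theorem bordered {s : ℕ} (M : Matrix (Fin s) (Fin s) D) (Cc : Matrix (Fin s) (Fin 1) D)
    (R : Matrix (Fin 1) (Fin s) D) (Xx : Matrix (Fin 1) (Fin 1) D) :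
    det (adjugate M) * det M * det (fromBlocks M Cc R Xx) =
      det M ^ s * (det M * Xx 0 0 - (R * adjugate M * Cc) 0 0) := by
  have h : fromBlocks (adjugate M) 0 (-(R * adjugate M)) (det M • (1 : Matrix (Fin 1) (Fin 1) D)) *
      fromBlocks M Cc R Xx =
      fromBlocks (det M • (1 : Matrix (Fin s) (Fin s) D)) (adjugate M * Cc) 0
        (det M • Xx - R * adjugate M * Cc) := by
    rw [fromBlocks_multiply]
    congr 1
    · simp [adjugate_mul]
    · simp
    · rw [Matrix.neg_mul, Matrix.mul_assoc, adjugate_mul]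
      simp
    · rw [Matrix.neg_mul]
      simp
      abel
  have h2 := congrArg det h
  rw [det_mul, det_fromBlocks_zero₁₂, det_fromBlocks_zero₂₁] at h2
  simp only [det_smul, det_one, mul_one, Fintype.card_fin, det_unique,
    Matrix.sub_apply, Matrix.smul_apply, smul_eq_mul, Fin.default_eq_zero,
    Matrix.one_apply_eq] at h2
  linear_combination h2

end bordered

section subalg

variable {k : Type*} [CommRing k] {D : Type*} [CommRing D] [Algebra k D] (A₀ : Subalgebra k D)

theorem det_mem {ι : Type*} [Fintype ι] [DecidableEq ι] (N : Matrix ι ι D)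
    (h : ∀ i j, N i j ∈ A₀) : det N ∈ A₀ := by
  let N₀ : Matrix ι ι A₀ := fun i j => ⟨N i j, h i j⟩
  have : N = A₀.val.mapMatrix N₀ := by ext i j; rfl
  rw [this, ← AlgHom.map_det]
  exact (det N₀).2

theorem adjugate_mem {ι : Type*} [Fintype ι] [DecidableEq ι] (N : Matrix ι ι D)
    (h : ∀ i j, N i j ∈ A₀) (i j : ι) : adjugate N i j ∈ A₀ := by
  let N₀ : Matrix ι ι A₀ := fun i j => ⟨N i j, h i j⟩
  have : N = A₀.val.mapMatrix N₀ := by ext i j; rfl
  rw [this, ← AlgHom.map_adjugate]
  exact (adjugate N₀ i j).2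

theorem mul_mem_entries {ι κ μ : Type*} [Fintype κ] (P : Matrix ι κ D) (Q : Matrix κ μ D)
    (hP : ∀ i j, P i j ∈ A₀) (hQ : ∀ i j, Q i j ∈ A₀) (i : ι) (j : μ) : (P * Q) i j ∈ A₀ := by
  rw [Matrix.mul_apply]
  exact Subalgebra.sum_mem _ fun l _ => Subalgebra.mul_mem _ (hP i l) (hQ l j)

theorem isAlgebraic_of_mul_eq [IsDomain D] {δ y x : D} (hδ : δ ∈ A₀) (hy : y ∈ A₀) (h0 : δ ≠ 0)
    (h : δ * x = y) : IsAlgebraic A₀ x := by
  refine ⟨Polynomial.C (⟨δ, hδ⟩ : A₀) * Polynomial.X - Polynomial.C (⟨y, hy⟩ : A₀), ?_, ?_⟩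
  · intro h1
    have := congrArg (fun p => Polynomial.coeff p 1) h1
    simp only [Polynomial.coeff_sub, Polynomial.coeff_C_mul, Polynomial.coeff_X_one, mul_one,
      Polynomial.coeff_C_succ, sub_zero, Polynomial.coeff_zero] at this
    exact h0 (congrArg Subtype.val this)
  · simp only [map_sub, map_mul, Polynomial.aeval_C, Polynomial.aeval_X]
    change δ * x - y = 0
    rw [h, sub_self]

end subalg

section main

variable (k : Type u) [Field k] {D : Type u} [CommRing D] [IsDomain D] [Algebra k D]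
variable {n m : ℕ} (Xb : Matrix (Fin n) (Fin m) D)

theorem main_arg
    (hgen : Algebra.adjoin k (Set.range fun p : Fin n × Fin m => Xb p.1 p.2) = ⊤)
    (s : ℕ) (a : Fin s → Fin n) (b : Fin s → Fin m)
    (hδ : det (Xb.submatrix a b) ≠ 0)
    (hvan : ∀ (a' : Fin (s + 1) → Fin n) (b' : Fin (s + 1) → Fin m),
      det (Xb.submatrix a' b') = 0) :
    Algebra.trdeg k D ≤ ((s * m + (n - s) * s : ℕ) : Cardinal.{u}) := by
  classical
  have ha : Function.Injective a := by
    intro u u' huu
    by_contra hne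
    exact hδ (det_zero_of_row_eq hne (by ext v; simp [submatrix_apply, huu]))
  let ι₂ := {i : Fin n // i ∉ Finset.univ.image a}
  let g : (Fin s × Fin m) ⊕ (ι₂ × Fin s) → D :=
    Sum.elim (fun p => Xb (a p.1) p.2) (fun p => Xb p.1.1 (b p.2))
  let S' : Set D := Set.range g
  let A₀ := Algebra.adjoin k S'
  have hrow : ∀ u j, Xb (a u) j ∈ A₀ := fun u j => Algebra.subset_adjoin ⟨Sum.inl (u, j), rfl⟩
  have hcol : ∀ i v, Xb i (b v) ∈ A₀ := by
    intro i v
    by_cases hi : i ∈ Finset.univ.image a
    · obtain ⟨u, -, rfl⟩ := Finset.mem_image.mp hi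
      exact hrow u (b v)
    · exact Algebra.subset_adjoin ⟨Sum.inr (⟨i, hi⟩, v), rfl⟩
  set M := Xb.submatrix a b with hM
  have hMmem : ∀ u v, M u v ∈ A₀ := fun u v => hrow u (b v)
  have hδmem : det M ∈ A₀ := det_mem A₀ M hMmem
  have halg : ∀ i j, IsAlgebraic A₀ (Xb i j) := by
    intro i j
    let Cc : Matrix (Fin s) (Fin 1) D := Matrix.of fun u _ => Xb (a u) j
    let R : Matrix (Fin 1) (Fin s) D := Matrix.of fun _ v => Xb i (b v)
    let Xx : Matrix (Fin 1) (Fin 1) D := Matrix.of fun _ _ => Xb i j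
    have hdet0 : det (fromBlocks M Cc R Xx) = 0 := by
      let e : Fin s ⊕ Fin 1 ≃ Fin (s + 1) := finSumFinEquiv
      have h1 : fromBlocks M Cc R Xx =
          (Xb.submatrix (Sum.elim a (fun _ => i) ∘ e.symm)
            (Sum.elim b (fun _ => j) ∘ e.symm)).submatrix e e := by
        ext (p | p) (q | q) <;> simp [M, Cc, R, Xx]
      rw [h1, det_submatrix_equiv_self]
      exact hvan _ _
    have hb := bordered M Cc R Xx
    rw [hdet0, mul_zero] at hb
    have h3 : det M * Xx 0 0 - (R * adjugate M * Cc) 0 0 = 0 := by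
      rcases mul_eq_zero.mp hb.symm with h | h
      · exact absurd h (pow_ne_zero s hδ)
      · exact h
    have hy : (R * adjugate M * Cc) 0 0 ∈ A₀ := by
      apply mul_mem_entries
      · apply mul_mem_entries
        · intro _ v; exact hcol i v
        · exact adjugate_mem A₀ M hMmem
      · intro u _; exact hrow u j
    exact isAlgebraic_of_mul_eq A₀ hδmem hy hδ (sub_eq_zero.mp h3)
  have : Algebra.IsAlgebraic A₀ D := by
    constructor
    intro x
    have hx : x ∈ Algebra.adjoin k (Set.range fun p : Fin n × Fin m => Xb p.1 p.2) := by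
      rw [hgen]; trivial
    induction hx using Algebra.adjoin_induction with
    | mem x hx => obtain ⟨p, rfl⟩ := hx; exact halg p.1 p.2
    | algebraMap c =>
      rw [IsScalarTower.algebraMap_apply k A₀ D]; exact isAlgebraic_algebraMap _
    | add x y _ _ hx hy => exact hx.add hy
    | mul x y _ _ hx hy => exact hx.mul hy
  have h1 : Algebra.trdeg k D ≤ #S' := Algebra.IsAlgebraic.trdeg_le_cardinalMk k S'
  refine h1.trans ?_
  have h2 := Cardinal.mk_range_le_lift (f := g)
  rw [Cardinal.lift_uzero, Cardinal.mk_fintype (Fin s × Fin m ⊕ ι₂ × Fin s), Cardinal.lift_natCast] at h2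
  refine h2.trans ?_
  have hcard : Fintype.card ι₂ = n - s := by
    rw [Fintype.card_subtype_compl, Fintype.card_coe, Finset.card_image_of_injective _ ha]
    simp
  have : Fintype.card ((Fin s × Fin m) ⊕ (ι₂ × Fin s)) = s * m + (n - s) * s := by
    simp [hcard]
  rw [this]

end main

end Groth.Agent.Lib.Helper64.DetDim
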