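/-
helper64: dimension of generic determinantal rings, part B (upper bound, ring level).
-/
import Mathlib
import Groth.Prelude.Def_CAlgX
import Groth.Agent.Lib.Helper64.DetDimA

set_option autoImplicit false
universe u v
open Matrix Cardinal

namespace Groth.Agent.Lib.Helper64.DetDim

section main

variable (k : Type u) [Field k] {D : Type u} [CommRing D] [IsDomain D] [Algebra k D]
variable {n m : ℕ} (Xb : Matrix (Fin n) (Fin m) D)

theorem trdeg_le
    (hgen : Algebra.adjoin k (Set.range fun p : Fin n × Fin m => Xb p.1 p.2) = ⊤) :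
    ∀ r : ℕ, r ≤ n → r ≤ m →
      (∀ (a' : Fin (r + 1) → Fin n) (b' : Fin (r + 1) → Fin m),
        det (Xb.submatrix a' b') = 0) →
      Algebra.trdeg k D ≤ ((r * (m + n - r) : ℕ) : Cardinal.{u}) := by
  intro r
  induction r with
  | zero =>
    intro _ _ hvan
    have := main_arg k Xb hgen 0 Fin.elim0 Fin.elim0 (by simp) hvan
    simpa using this
  | succ r ih =>
    intro hn hm hvan
    by_cases h : ∃ (a : Fin (r + 1) → Fin n) (b : Fin (r + 1) → Fin m),
        det (Xb.submatrix a b) ≠ 0
    · obtain ⟨a, b, hab⟩ := h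
      have := main_arg k Xb hgen (r + 1) a b hab hvan
      refine this.trans (le_of_eq ?_)
      congr 1
      obtain ⟨q, rfl⟩ : ∃ q, n = q + (r + 1) := ⟨n - (r + 1), by omega⟩
      have h1 : m + (q + (r + 1)) - (r + 1) = m + q := by omega
      rw [h1, Nat.add_sub_cancel]
      ring
    · push_neg at h
      have := ih (by omega) (by omega) h
      refine this.trans ?_
      rw [Nat.cast_le]
      have h1 : m + n - r = (m + n - (r + 1)) + 1 := by omega
      have h2 : r ≤ m + n - (r + 1) := by omega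
      rw [h1]
      generalize m + n - (r + 1) = p at *
      nlinarith

end main

open MvPolynomial in
theorem upper (k : Type u) [Field k] (n m r : ℕ) (hn : r ≤ n) (hm : r ≤ m) :
    ringKrullDim (MvPolynomial (Fin n × Fin m) k ⧸ CAlgX.minorIdeal
      (Matrix.of fun (i : Fin n) (j : Fin m) =>
        (MvPolynomial.X (i, j) : MvPolynomial (Fin n × Fin m) k)) (r + 1)) ≤
      ((r * (m + n - r) : ℕ) : WithBot ℕ∞) := by
  apply ringKrullDim_quotient_le_of_minimalPrimes
  intro Q hQ
  haveI : Q.IsPrime := hQ.1.1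
  set Xm : Matrix (Fin n) (Fin m) (MvPolynomial (Fin n × Fin m) k) :=
    Matrix.of fun (i : Fin n) (j : Fin m) => (MvPolynomial.X (i, j)) with hXm
  let D := MvPolynomial (Fin n × Fin m) k ⧸ Q
  let π : MvPolynomial (Fin n × Fin m) k →ₐ[k] D := Ideal.Quotient.mkₐ k Q
  have hπ : Function.Surjective π := Ideal.Quotient.mkₐ_surjective k Q
  haveI : Algebra.FiniteType k D := Algebra.FiniteType.of_surjective π hπ
  let Xb : Matrix (Fin n) (Fin m) D := Xm.map π
  have hgen : Algebra.adjoin k (Set.range fun p : Fin n × Fin m => Xb p.1 p.2) = ⊤ := by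
    have h1 : (Set.range fun p : Fin n × Fin m => Xb p.1 p.2) =
        π '' (Set.range (MvPolynomial.X : Fin n × Fin m → MvPolynomial (Fin n × Fin m) k)) := by
      rw [← Set.range_comp]
      rfl
    rw [h1, ← AlgHom.map_adjoin, MvPolynomial.adjoin_range_X, Algebra.map_top]
    exact (AlgHom.range_eq_top π).mpr hπ
  have hvan : ∀ (a' : Fin (r + 1) → Fin n) (b' : Fin (r + 1) → Fin m),
      det (Xb.submatrix a' b') = 0 := by
    intro a' b'
    have h1 : Xb.submatrix a' b' = π.mapMatrix (Xm.submatrix a' b') := by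
      ext i j; rfl
    rw [h1, ← AlgHom.map_det]
    change Ideal.Quotient.mk Q _ = 0
    rw [Ideal.Quotient.eq_zero_iff_mem]
    apply hQ.1.2
    exact Ideal.subset_span ⟨(a', b'), rfl⟩
  have h1 := trdeg_le k Xb hgen r hn hm hvan
  obtain ⟨d, hd1, hd2, -⟩ := Groth.Agent.Lib.Helper73.DimFormula.exists_trdeg_eq_ringKrullDim k D
  rw [hd2]
  rw [hd1, Nat.cast_le] at h1
  exact_mod_cast h1

end Groth.Agent.Lib.Helper64.DetDim
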