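/-
helper64: dimension of generic determinantal rings, part C (lower bound).
A rank `≤ r` matrix `[[A, B], [C, C A⁻¹ B]]` over the fraction field of the polynomial ring in the
`r (m + n - r)` entries of `A, B, C` gives a prime containing the ideal of `(r+1)`-minors whose
quotient has transcendence degree at least `r (m + n - r)`.
-/
import Mathlib
import Groth.Prelude.Def_CAlgX
import Groth.Agent.Lib.Helper73.DimField

set_option autoImplicit false
universe u v
open Matrix Cardinal

namespace Groth.Agent.Lib.Helper64.DetDim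

theorem det_mul_eq_zero_of_lt {F : Type*} [Field F] {r : ℕ}
    (P' : Matrix (Fin (r + 1)) (Fin r) F) (Q' : Matrix (Fin r) (Fin (r + 1)) F) :
    det (P' * Q') = 0 := by
  by_contra h
  have hu : IsUnit (P' * Q') := (Matrix.isUnit_iff_isUnit_det _).mpr (Ne.isUnit h)
  have h1 := Matrix.rank_of_isUnit _ hu
  have h2 := Matrix.rank_mul_le_left P' Q'
  have h3 := Matrix.rank_le_width P'
  rw [h1, Fintype.card_fin] at h2
  omega

theorem minor_mul_eq_zero {F : Type*} [Field F] {n m r : ℕ}
    (G : Matrix (Fin n) (Fin r) F) (Z : Matrix (Fin r) (Fin m) F)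
    (a : Fin (r + 1) → Fin n) (b : Fin (r + 1) → Fin m) :
    det ((G * Z).submatrix a b) = 0 := by
  rw [Matrix.submatrix_mul G Z a id b Function.bijective_id]
  exact det_mul_eq_zero_of_lt _ _

section lower

variable (k : Type u) [Field k] (n m r : ℕ)

/-- index type for the free entries. -/
abbrev J := (Fin r × Fin m) ⊕ (Fin (n - r) × Fin r)

/-- the polynomial ring in the free entries. -/
abbrev PJ := MvPolynomial (J n m r) k

/-- its fraction field. -/
abbrev KJ := FractionRing (PJ k n m r)

/-- the variables in the fraction field. -/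
noncomputable def xv (p : J n m r) : KJ k n m r :=
  algebraMap (PJ k n m r) (KJ k n m r) (MvPolynomial.X p)

/-- left factor. -/
noncomputable def Gm (hm : r ≤ m) : Matrix (Fin n) (Fin r) (KJ k n m r) := fun i u =>
  if h : i.val < r then xv k n m r (Sum.inl (⟨i.val, h⟩, Fin.castLE hm u))
  else xv k n m r (Sum.inr (⟨i.val - r, by have := i.isLt; omega⟩, u))

/-- right factor. -/
noncomputable def Zm : Matrix (Fin r) (Fin m) (KJ k n m r) := fun v j =>
  xv k n m r (Sum.inl (v, j))

/-- the invertible block. -/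
noncomputable def Am (hm : r ≤ m) : Matrix (Fin r) (Fin r) (KJ k n m r) := fun u v =>
  xv k n m r (Sum.inl (u, Fin.castLE hm v))

/-- the rank `r` matrix. -/
noncomputable def Ym (hm : r ≤ m) : Matrix (Fin n) (Fin m) (KJ k n m r) :=
  Gm k n m r hm * (Am k n m r hm)⁻¹ * Zm k n m r

variable {n m r}

theorem isUnit_det_Am (hm : r ≤ m) : IsUnit (det (Am k n m r hm)) := by
  classical
  let A₀ : Matrix (Fin r) (Fin r) (PJ k n m r) := fun u v =>
    MvPolynomial.X (Sum.inl (u, Fin.castLE hm v))
  have h1 : Am k n m r hm = (algebraMap (PJ k n m r) (KJ k n m r)).mapMatrix A₀ := by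
    ext u v; rfl
  rw [h1, ← RingHom.map_det]
  apply Ne.isUnit
  rw [Ne, map_eq_zero_iff _ (IsFractionRing.injective (PJ k n m r) (KJ k n m r))]
  intro h0
  let e : J n m r → k := Sum.elim (fun p => if p.1.val = p.2.val then 1 else 0) (fun _ => 0)
  have h2 := congrArg (MvPolynomial.eval e) h0
  rw [RingHom.map_det, map_zero] at h2
  have h3 : (MvPolynomial.eval e).mapMatrix A₀ = 1 := by
    ext u v
    simp only [RingHom.mapMatrix_apply, Matrix.map_apply, A₀, MvPolynomial.eval_X, e,
      Sum.elim_inl, Fin.val_castLE, Matrix.one_apply, Fin.ext_iff]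
  rw [h3, det_one] at h2
  exact one_ne_zero h2

theorem Ym_top (hn : r ≤ n) (hm : r ≤ m) (u : Fin r) (j : Fin m) :
    Ym k n m r hm (Fin.castLE hn u) j = xv k n m r (Sum.inl (u, j)) := by
  have hA := isUnit_det_Am (n := n) k hm
  have hrow : ∀ v, (Gm k n m r hm * (Am k n m r hm)⁻¹) (Fin.castLE hn u) v =
      (1 : Matrix (Fin r) (Fin r) (KJ k n m r)) u v := by
    intro v
    rw [← Matrix.mul_nonsing_inv _ hA]
    simp only [Matrix.mul_apply]
    refine Finset.sum_congr rfl fun w _ => ?_
    congr 1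
    simp only [Gm, Fin.val_castLE, u.isLt, dite_true, Am]
  unfold Ym
  rw [Matrix.mul_apply]
  simp only [hrow, Matrix.one_apply]
  simp [Zm]

theorem Ym_left (hm : r ≤ m) (w : Fin (n - r)) (v : Fin r) :
    Ym k n m r hm (⟨r + w.val, by have := w.isLt; omega⟩ : Fin n) (Fin.castLE hm v) =
      xv k n m r (Sum.inr (w, v)) := by
  have hA := isUnit_det_Am (n := n) k hm
  have hcol : ∀ w', ((Am k n m r hm)⁻¹ * Zm k n m r) w' (Fin.castLE hm v) =
      (1 : Matrix (Fin r) (Fin r) (KJ k n m r)) w' v := by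
    intro w'
    rw [← Matrix.nonsing_inv_mul _ hA]
    simp only [Matrix.mul_apply]
    rfl
  unfold Ym
  rw [Matrix.mul_assoc, Matrix.mul_apply]
  simp only [hcol, Matrix.one_apply]
  simp only [mul_ite, mul_one, mul_zero, Finset.sum_ite_eq', Finset.mem_univ, if_true]
  have hlt : ¬ (r + w.val < r) := by omega
  simp only [Gm, hlt, dite_false]
  congr 3
  apply Fin.ext
  simp

theorem Ym_minor (hm : r ≤ m) (a : Fin (r + 1) → Fin n) (b : Fin (r + 1) → Fin m) :
    det ((Ym k n m r hm).submatrix a b) = 0 := by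
  unfold Ym
  exact minor_mul_eq_zero _ _ a b

/-- the parametrization. -/
noncomputable def psi (n m r : ℕ) (hm : r ≤ m) : MvPolynomial (Fin n × Fin m) k →ₐ[k] KJ k n m r :=
  MvPolynomial.aeval (fun p : Fin n × Fin m => Ym k n m r hm p.1 p.2)

theorem minorIdeal_le_ker (hm : r ≤ m) :
    CAlgX.minorIdeal (Matrix.of fun (i : Fin n) (j : Fin m) =>
        (MvPolynomial.X (i, j) : MvPolynomial (Fin n × Fin m) k)) (r + 1) ≤
      RingHom.ker (psi k n m r hm) := by
  unfold CAlgX.minorIdeal
  rw [Ideal.span_le]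
  rintro _ ⟨⟨a, b⟩, rfl⟩
  rw [SetLike.mem_coe, RingHom.mem_ker]
  change psi k n m r hm (det _) = 0
  rw [AlgHom.map_det]
  have : (psi k n m r hm).mapMatrix ((Matrix.of fun (i : Fin n) (j : Fin m) =>
        (MvPolynomial.X (i, j) : MvPolynomial (Fin n × Fin m) k)).submatrix a b) =
      (Ym k n m r hm).submatrix a b := by
    ext i j
    simp [psi]
  rw [this]
  exact Ym_minor k hm a b

/-- the algebraically independent family. -/
noncomputable def fam (hn : r ≤ n) (hm : r ≤ m) : J n m r → MvPolynomial (Fin n × Fin m) k ⧸ RingHom.ker (psi k n m r hm) :=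
  Sum.elim (fun p => Ideal.Quotient.mk _ (MvPolynomial.X (Fin.castLE hn p.1, p.2)))
    (fun p => Ideal.Quotient.mk _ (MvPolynomial.X
      ((⟨r + p.1.val, by have := p.1.isLt; omega⟩ : Fin n), Fin.castLE hm p.2)))

theorem algebraicIndependent_fam (hn : r ≤ n) (hm : r ≤ m) : AlgebraicIndependent k (fam k hn hm) := by
  apply AlgebraicIndependent.of_comp (Ideal.kerLiftAlg (psi k n m r hm))
  have h1 : (Ideal.kerLiftAlg (psi k n m r hm)) ∘ fam k hn hm = xv k n m r := by
    funext p
    rcases p with ⟨u, j⟩ | ⟨w, v⟩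
    · change psi k n m r hm (MvPolynomial.X (Fin.castLE hn u, j)) = _
      simp only [psi, MvPolynomial.aeval_X]
      exact Ym_top k hn hm u j
    · change psi k n m r hm (MvPolynomial.X
        ((⟨r + w.val, by have := w.isLt; omega⟩ : Fin n), Fin.castLE hm v)) = _
      simp only [psi, MvPolynomial.aeval_X]
      exact Ym_left k hm w v
  rw [h1]
  exact (MvPolynomial.algebraicIndependent_X (J n m r) k).map'
    (f := IsScalarTower.toAlgHom k (PJ k n m r) (KJ k n m r))
    (IsFractionRing.injective (PJ k n m r) (KJ k n m r))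

theorem lower (hn : r ≤ n) (hm : r ≤ m) :
    ((r * (m + n - r) : ℕ) : WithBot ℕ∞) ≤
      ringKrullDim (MvPolynomial (Fin n × Fin m) k ⧸ CAlgX.minorIdeal
        (Matrix.of fun (i : Fin n) (j : Fin m) =>
          (MvPolynomial.X (i, j) : MvPolynomial (Fin n × Fin m) k)) (r + 1)) := by
  have hle := minorIdeal_le_ker k (n := n) hm
  refine le_trans ?_ (ringKrullDim_le_of_surjective (Ideal.Quotient.factor hle)
    (Ideal.Quotient.factor_surjective hle))
  let D := MvPolynomial (Fin n × Fin m) k ⧸ RingHom.ker (psi k n m r hm)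
  haveI : (RingHom.ker (psi k n m r hm)).IsPrime := RingHom.ker_isPrime _
  have : Algebra.FiniteType k D :=
    Algebra.FiniteType.of_surjective (Ideal.Quotient.mkₐ k _) (Ideal.Quotient.mkₐ_surjective k _)
  obtain ⟨d, hd1, hd2, -⟩ := Groth.Agent.Lib.Helper73.DimFormula.exists_trdeg_eq_ringKrullDim k D
  change _ ≤ ringKrullDim D
  rw [hd2]
  have h1 := (algebraicIndependent_fam k hn hm).lift_cardinalMk_le_trdeg
  rw [hd1, Cardinal.mk_fintype, Cardinal.lift_natCast, Cardinal.lift_natCast, Nat.cast_le] at h1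
  have h2 : Fintype.card (J n m r) = r * (m + n - r) := by
    simp only [Fintype.card_sum, Fintype.card_prod, Fintype.card_fin]
    obtain ⟨q, rfl⟩ : ∃ q, n = q + r := ⟨n - r, by omega⟩
    have h1 : m + (q + r) - r = m + q := by omega
    rw [h1, Nat.add_sub_cancel]
    ring
  rw [h2] at h1
  exact_mod_cast h1

end lower

end Groth.Agent.Lib.Helper64.DetDim
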