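import Groth.Prelude.Def_ArtFun2
import Groth.Agent.Lib.Helper64.ArtEss
import Groth.Agent.Lib.Helper64.ArtLength

/-!
# Essential surjections in `Art Λ k` (helper64)

* `IsEssSurj f`: `f` is surjective and every `g` with `g ≫ f` surjective is surjective.
* `isEssSurj_of_ker_le`: a surjection with kernel in `m_Λ B + m_B²` is essential.
* `IsEssSurj.comp`, `IsEssSurj.of_comp_right`, `IsEssSurj.of_comp_left`.
-/

set_option autoImplicit false
universe u

namespace Groth.Agent.Lib.Helper64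

open ArtFun ArtFun.Art CategoryTheory

variable {Λ : Type u} {k : Type u} [CommRing Λ] [Field k] [Algebra Λ k]

/-- essential surjection -/
def IsEssSurj {B A : Art Λ k} (f : B ⟶ A) : Prop :=
  Function.Surjective f ∧ ∀ (C : Art Λ k) (g : C ⟶ B), Function.Surjective (g ≫ f) →
    Function.Surjective g

/-- the ideal `m_Λ B` -/
abbrev idealΛ (B : Art Λ k) : Ideal B :=
  Ideal.map (algebraMap Λ B) (RingHom.ker (algebraMap Λ k))

lemma idealΛ_le (B : Art Λ k) : idealΛ B ≤ IsLocalRing.maximalIdeal B := by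
  rw [Ideal.map_le_iff_le_comap]
  intro l hl
  rw [Ideal.mem_comap, Art.mem_maximalIdeal_iff, AlgHom.commutes]
  exact hl

lemma isNilpotent_maximalIdeal (B : Art Λ k) : IsNilpotent (IsLocalRing.maximalIdeal B) :=
  (isArtinianRing_iff_isNilpotent_maximalIdeal _).mp inferInstance

/-- `g` is surjective as soon as `B = g(C) + m_Λ B + m_B²`. -/
theorem surjective_of_forall_exists_sub_mem {C B : Art Λ k} (g : C ⟶ B)
    (h : ∀ b : B, ∃ c : C, b - g c ∈ idealΛ B ⊔ IsLocalRing.maximalIdeal B ^ 2) :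
    Function.Surjective g := by
  refine surjective_of_forall_exists_sub_mem_span_sup_sq (isNilpotent_maximalIdeal B)
    (g.toAlgHom : C →+* B) (algebraMap Λ B '' (RingHom.ker (algebraMap Λ k) : Set Λ)) ?_ ?_ h
  · rintro _ ⟨l, hl, rfl⟩
    exact idealΛ_le B (Ideal.mem_map_of_mem _ hl)
  · rintro _ ⟨l, _, rfl⟩
    exact ⟨algebraMap Λ C l, g.toAlgHom.commutes l⟩

theorem isEssSurj_of_ker_le {B A : Art Λ k} (f : B ⟶ A) (hf : Function.Surjective f)
    (hker : RingHom.ker f.toAlgHom ≤ idealΛ B ⊔ IsLocalRing.maximalIdeal B ^ 2) :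
    IsEssSurj f := by
  refine ⟨hf, fun C g hg => ?_⟩
  apply surjective_of_forall_exists_sub_mem
  intro b
  obtain ⟨c, hc⟩ := hg (f b)
  refine ⟨c, hker ?_⟩
  rw [RingHom.mem_ker, map_sub]
  have : f.toAlgHom (g.toAlgHom c) = f.toAlgHom b := hc
  rw [this, sub_self]

lemma surjective_of_comp_surjective {A B C : Art Λ k} (f : A ⟶ B) (g : B ⟶ C)
    (h : Function.Surjective (f ≫ g)) : Function.Surjective g := fun c => by
  obtain ⟨a, ha⟩ := h c
  exact ⟨f a, ha⟩

lemma comp_surjective {A B C : Art Λ k} (f : A ⟶ B) (g : B ⟶ C)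
    (hf : Function.Surjective f) (hg : Function.Surjective g) : Function.Surjective (f ≫ g) :=
  fun c => by
    obtain ⟨b, rfl⟩ := hg c
    obtain ⟨a, rfl⟩ := hf b
    exact ⟨a, rfl⟩

theorem IsEssSurj.comp {B A A' : Art Λ k} {f : B ⟶ A} {q : A ⟶ A'} (hf : IsEssSurj f)
    (hq : IsEssSurj q) : IsEssSurj (f ≫ q) := by
  refine ⟨comp_surjective _ _ hf.1 hq.1, fun C g hg => ?_⟩
  apply hf.2 C g
  apply hq.2 C (g ≫ f)
  rw [Category.assoc]
  exact hg

theorem IsEssSurj.of_comp_right {B A A' : Art Λ k} {f : B ⟶ A} {q : A ⟶ A'}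
    (hf : Function.Surjective f) (h : IsEssSurj (f ≫ q)) : IsEssSurj f := by
  refine ⟨hf, fun C g hg => h.2 C g ?_⟩
  rw [← Category.assoc]
  exact comp_surjective _ _ hg (surjective_of_comp_surjective f q h.1)

theorem IsEssSurj.of_comp_left [IsNoetherianRing Λ] [Module.Finite Λ k] {B A A' : Art Λ k}
    {f : B ⟶ A} {q : A ⟶ A'} (hf : Function.Surjective f) (h : IsEssSurj (f ≫ q)) :
    IsEssSurj q := by
  have hq : Function.Surjective q := surjective_of_comp_surjective f q h.1
  refine ⟨hq, fun C g hg => ?_⟩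
  have hfst : Function.Surjective (AlgHom.pullbackFst g.toAlgHom f.toAlgHom) :=
    AlgHom.surjective_pullbackFst_of_surjective _ _ hf
  have hres : Function.Surjective (C.res.comp (AlgHom.pullbackFst g.toAlgHom f.toAlgHom)) :=
    C.res_surjective.comp hfst
  let P := pullbackArt g f hres
  let p₁ : P ⟶ C := pullbackArtFst g f hres
  let p₂ : P ⟶ B := pullbackArtSnd g f hres
  have hw : p₁ ≫ g = p₂ ≫ f := (isFibreProd_pullbackArt g f hres).w
  have hp₁ : Function.Surjective p₁ := hfst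
  have h1 : Function.Surjective (p₂ ≫ (f ≫ q)) := by
    rw [← Category.assoc, ← hw, Category.assoc]
    exact comp_surjective _ _ hp₁ hg
  have h2 : Function.Surjective p₂ := h.2 P p₂ h1
  have h3 : Function.Surjective (p₁ ≫ g) := by
    rw [hw]
    exact comp_surjective _ _ h2 hf
  exact surjective_of_comp_surjective p₁ g h3

end Groth.Agent.Lib.Helper64
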