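import Groth.Prelude.Def_ArtFun2
import Groth.Agent.Lib.Helper64.EssSurj
import Groth.Agent.Lib.Helper9.ArtTangent
import Groth.Agent.S12709

/-!
# Essential surjections and tangent vectors (helper64)

For `f : B ⟶ A` in `Art Λ k` (tangent vectors = morphisms to `dual Λ k`):
* `snd_eq_zero_of_isEssSurj` (T1): if `f` is an essential surjection, every tangent vector of `B` kills `ker f`;
* `surjective_of_tangent` (T2): if every tangent vector of `A` vanishing on `f(B)` vanishes, `f` is surjective;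
* `isEssSurj_of_tangent` (T3): a surjection such that every tangent vector of `B` kills `ker f` is essential.
-/

set_option autoImplicit false
universe u

namespace Groth.Agent.Lib.Helper64

open ArtFun ArtFun.Art CategoryTheory

variable {Λ : Type u} {k : Type u} [CommRing Λ] [Field k] [Algebra Λ k]

lemma dual_fst_apply {B : Art Λ k} (θ : B ⟶ dual Λ k) (b : B) :
    TrivSqZeroExt.fst (θ b) = B.res b := Art.res_app θ b

lemma dual_snd_mul {B : Art Λ k} (θ : B ⟶ dual Λ k) (a b : B) :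
    TrivSqZeroExt.snd (θ (a * b)) =
      B.res a * TrivSqZeroExt.snd (θ b) + B.res b * TrivSqZeroExt.snd (θ a) := by
  have h : (θ.toAlgHom (a * b) : DualNumber k) =
      (θ.toAlgHom a : DualNumber k) * (θ.toAlgHom b : DualNumber k) := map_mul θ.toAlgHom a b
  have h2 := (congrArg TrivSqZeroExt.snd h).trans
    (TrivSqZeroExt.snd_mul (θ.toAlgHom a : DualNumber k) (θ.toAlgHom b : DualNumber k))
  have ha : TrivSqZeroExt.fst (θ.toAlgHom a : DualNumber k) = B.res a := dual_fst_apply θ a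
  have hb : TrivSqZeroExt.fst (θ.toAlgHom b : DualNumber k) = B.res b := dual_fst_apply θ b
  rw [ha, hb] at h2
  refine h2.trans ?_
  simp [mul_comm]

lemma dual_snd_add {B : Art Λ k} (θ : B ⟶ dual Λ k) (a b : B) :
    TrivSqZeroExt.snd (θ (a + b)) = TrivSqZeroExt.snd (θ a) + TrivSqZeroExt.snd (θ b) := by
  have h : (θ.toAlgHom (a + b) : DualNumber k) =
      (θ.toAlgHom a : DualNumber k) + (θ.toAlgHom b : DualNumber k) := map_add θ.toAlgHom a b
  exact (congrArg TrivSqZeroExt.snd h).trans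
    (TrivSqZeroExt.snd_add (θ.toAlgHom a : DualNumber k) (θ.toAlgHom b : DualNumber k))

lemma dual_snd_sub {B : Art Λ k} (θ : B ⟶ dual Λ k) (a b : B) :
    TrivSqZeroExt.snd (θ (a - b)) = TrivSqZeroExt.snd (θ a) - TrivSqZeroExt.snd (θ b) := by
  have h : (θ.toAlgHom (a - b) : DualNumber k) =
      (θ.toAlgHom a : DualNumber k) - (θ.toAlgHom b : DualNumber k) := map_sub θ.toAlgHom a b
  exact (congrArg TrivSqZeroExt.snd h).trans
    (TrivSqZeroExt.snd_sub (θ.toAlgHom a : DualNumber k) (θ.toAlgHom b : DualNumber k))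

variable [IsNoetherianRing Λ] [Module.Finite Λ k]

/-- (T2) -/
theorem surjective_of_tangent {B A : Art Λ k} (f : B ⟶ A)
    (h : ∀ θ : A ⟶ dual Λ k, (∀ b : B, TrivSqZeroExt.snd (θ (f b)) = 0) →
      ∀ a : A, TrivSqZeroExt.snd (θ a) = 0) : Function.Surjective f := by
  by_contra hns
  have htfae := Groth.Agent.S12709.result f
  have hne : Ideal.map f.toAlgHom (IsLocalRing.maximalIdeal B) ⊔ IsLocalRing.maximalIdeal A ^ 2 ≠
      IsLocalRing.maximalIdeal A := fun he => hns ((htfae.out 1 0).1 he)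
  have hle : Ideal.map f.toAlgHom (IsLocalRing.maximalIdeal B) ⊔ IsLocalRing.maximalIdeal A ^ 2 ≤
      IsLocalRing.maximalIdeal A := by
    apply sup_le
    · rw [Ideal.map_le_iff_le_comap]
      intro b hb
      rw [Ideal.mem_comap, Art.mem_maximalIdeal_iff]
      rw [Art.res_app]
      exact (Art.mem_maximalIdeal_iff B b).1 hb
    · exact Ideal.pow_le_self (by norm_num)
  obtain ⟨x, hxm, hx⟩ : ∃ x ∈ IsLocalRing.maximalIdeal A,
      x ∉ Ideal.map f.toAlgHom (IsLocalRing.maximalIdeal B) ⊔ IsLocalRing.maximalIdeal A ^ 2 := by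
    by_contra hcon
    push Not at hcon
    exact hne (le_antisymm hle hcon)
  obtain ⟨ψ, h1, -, h3, h4⟩ := Groth.Agent.Lib.Helper9.exists_tangent_of_not_mem' A.res
    A.res_surjective f.toAlgHom
    (by rw [f.res_comp]; exact B.res_surjective) _ hle le_sup_right
    (fun c hc => le_sup_left (a := Ideal.map f.toAlgHom (IsLocalRing.maximalIdeal B))
      (Ideal.mem_map_of_mem _ (by
        rw [Art.mem_maximalIdeal_iff, ← Art.res_app f c]
        exact hc))) x hxm hx
  exact h4 (h ⟨ψ, h1⟩ h3 x)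

/-- (T3) -/
theorem isEssSurj_of_tangent {B A : Art Λ k} (f : B ⟶ A) (hf : Function.Surjective f)
    (h : ∀ (θ : B ⟶ dual Λ k) (x : B), f x = 0 → TrivSqZeroExt.snd (θ x) = 0) : IsEssSurj f := by
  refine ⟨hf, fun C g hg => ?_⟩
  apply surjective_of_tangent g
  intro θ hθ b
  obtain ⟨c, hc⟩ := hg (f b)
  have hc' : f (g c) = f b := hc
  have e : b = g c + (b - g c) := by ring
  rw [e, dual_snd_add, hθ c, zero_add]
  apply h
  have : f (b - g c) = f b - f (g c) := map_sub f.toAlgHom b (g c)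
  rw [this, hc', sub_self]

/-- (T1) -/
theorem snd_eq_zero_of_isEssSurj {B A : Art Λ k} (f : B ⟶ A) (hf : IsEssSurj f)
    (θ : B ⟶ dual Λ k) (x : B) (hx : f x = 0) : TrivSqZeroExt.snd (θ x) = 0 := by
  by_contra hne
  have hresx : B.res x = 0 := by rw [← Art.res_app f x, hx, map_zero]
  let θ₀ : B ⟶ dual Λ k := toBase B ≫ baseToDual
  have hθ₀ : ∀ b : B, TrivSqZeroExt.snd (θ₀ b) = 0 := fun b => rfl
  let E : Subalgebra Λ B := AlgHom.equalizer θ.toAlgHom θ₀.toAlgHom
  have hmemE : ∀ b : B, b ∈ E ↔ TrivSqZeroExt.snd (θ b) = 0 := by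
    intro b
    rw [AlgHom.mem_equalizer]
    constructor
    · intro hb
      have : TrivSqZeroExt.snd (θ b) = TrivSqZeroExt.snd (θ₀ b) := congrArg TrivSqZeroExt.snd hb
      rw [this, hθ₀]
    · intro hb
      apply TrivSqZeroExt.ext
      · rw [dual_fst_apply, dual_fst_apply]
      · rw [hb, hθ₀]
  -- adjusting an element into `E` modulo `ker f`
  have hadj : ∀ b : B, ∃ b' : B, b' ∈ E ∧ f b' = f b ∧ B.res b' = B.res b := by
    intro b
    obtain ⟨y, hy⟩ := B.res_surjective (TrivSqZeroExt.snd (θ b) / TrivSqZeroExt.snd (θ x))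
    refine ⟨b - y * x, ?_, ?_, ?_⟩
    · rw [hmemE, dual_snd_sub, dual_snd_mul, hresx, zero_mul, add_zero, hy,
        div_mul_cancel₀ _ hne, sub_self]
    · have : f (b - y * x) = f b - f y * f x := by
        have := map_sub f.toAlgHom b (y * x)
        rw [map_mul] at this
        exact this
      rw [this, hx, mul_zero, sub_zero]
    · rw [map_sub, map_mul, hresx, mul_zero, sub_zero]
  -- `E` is local
  have hunit : ∀ a : E, IsUnit (a : B) → IsUnit a := by
    intro a ha
    obtain ⟨u, hu⟩ := ha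
    have hv : (↑u⁻¹ : B) ∈ E := by
      rw [AlgHom.mem_equalizer]
      have ha' : θ.toAlgHom (a : B) = θ₀.toAlgHom (a : B) := a.2
      have h1 : θ.toAlgHom ↑u⁻¹ * θ.toAlgHom (a : B) = 1 := by
        rw [← map_mul, ← hu, Units.inv_mul, map_one]
      have h2 : θ₀.toAlgHom (a : B) * θ₀.toAlgHom ↑u⁻¹ = 1 := by
        rw [← map_mul, ← hu, Units.mul_inv, map_one]
      calc θ.toAlgHom ↑u⁻¹ = θ.toAlgHom ↑u⁻¹ * (θ₀.toAlgHom (a : B) * θ₀.toAlgHom ↑u⁻¹) := by
            rw [h2, mul_one]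
        _ = (θ.toAlgHom ↑u⁻¹ * θ.toAlgHom (a : B)) * θ₀.toAlgHom ↑u⁻¹ := by
            rw [ha', mul_assoc]
        _ = θ₀.toAlgHom ↑u⁻¹ := by rw [h1, one_mul]
    refine IsUnit.of_mul_eq_one (⟨↑u⁻¹, hv⟩ : E) ?_
    apply Subtype.ext
    change (a : B) * ↑u⁻¹ = 1
    rw [← hu, Units.mul_inv]
  have : Nontrivial E := ⟨⟨0, 1, fun h => zero_ne_one (congrArg (Subtype.val) h)⟩⟩
  have : IsLocalRing E := by
    refine IsLocalRing.of_isUnit_or_isUnit_one_sub_self fun a => ?_
    rcases IsLocalRing.isUnit_or_isUnit_one_sub_self (a : B) with h | h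
    · exact Or.inl (hunit a h)
    · exact Or.inr (hunit (1 - a) h)
  have : IsArtinianRing E := by
    have := isArtinian_art (Λ := Λ) (k := k) B
    have h2 : IsArtinian Λ E :=
      isArtinian_of_injective (Subalgebra.val E).toLinearMap Subtype.val_injective
    exact isArtinian_of_tower Λ h2
  have hres : Function.Surjective (B.res.comp E.val) := by
    intro c
    obtain ⟨b, hb⟩ := B.res_surjective c
    obtain ⟨b', hb'E, -, hb'r⟩ := hadj b
    exact ⟨⟨b', hb'E⟩, by change B.res b' = c; rw [hb'r, hb]⟩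
  let C : Art Λ k := Art.of E (B.res.comp E.val) hres
  let g : C ⟶ B := ⟨E.val, rfl⟩
  have hg : Function.Surjective (g ≫ f) := by
    intro a
    obtain ⟨b, hb⟩ := hf.1 a
    obtain ⟨b', hb'E, hb'f, -⟩ := hadj b
    exact ⟨⟨b', hb'E⟩, by change f b' = a; rw [hb'f, hb]⟩
  obtain ⟨c, hc⟩ := hf.2 C g hg x
  have hxE : x ∈ E := by
    let c' : E := c
    have : (c' : B) = x := hc
    rw [← this]
    exact c'.2
  exact hne ((hmemE x).1 hxE)

end Groth.Agent.Lib.Helper64
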