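import Groth.Prelude.Def_ArtFun2
import Groth.Agent.Lib.Helper64.EssSurjTangent
import Groth.Agent.Lib.Helper64.CRingQuot
import Mathlib.RingTheory.Etale.Field
import Mathlib.RingTheory.Smooth.Basic

/-!
# Tangent vectors detect the relative cotangent space when `k` is separable over the image of `Λ` (helper64)

* `exists_tangent_of_not_mem_of_separable`: if `k` is separable over the image of `Λ`, every element of
  `m_B` outside `m_Λ B + m_B²` is detected by a tangent vector `B ⟶ k[ε]`.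
-/

set_option autoImplicit false
universe u

namespace Groth.Agent.Lib.Helper64

open ArtFun ArtFun.Art CategoryTheory Polynomial

variable {Λ : Type u} {k : Type u} [CommRing Λ] [Field k] [Algebra Λ k]

section Sep

variable [Module.Finite Λ k]

/-- the residue field of `Λ` at the kernel of `Λ → k` -/
abbrev ResΛ (Λ k : Type u) [CommRing Λ] [Field k] [Algebra Λ k] : Type u :=
  Λ ⧸ RingHom.ker (algebraMap Λ k)

noncomputable instance : Field (ResΛ Λ k) :=
  haveI : (RingHom.ker (algebraMap Λ k)).IsMaximal := ker_isMaximal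
  Ideal.Quotient.field _

noncomputable instance : Algebra (ResΛ Λ k) k :=
  (Ideal.Quotient.lift (RingHom.ker (algebraMap Λ k)) (algebraMap Λ k) (fun _ ha => ha)).toAlgebra

instance : IsScalarTower Λ (ResΛ Λ k) k := IsScalarTower.of_algebraMap_eq (fun _ => rfl)

lemma algebraMap_resΛ_mk (l : Λ) :
    algebraMap (ResΛ Λ k) k (Ideal.Quotient.mk _ l) = algebraMap Λ k l := rfl

lemma isSeparable_resΛ [Algebra.IsSeparable (↥(algebraMap Λ k).range) k] :
    Algebra.IsSeparable (ResΛ Λ k) k := by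
  have hsurj : Function.Surjective (algebraMap Λ k).rangeRestrict :=
    (algebraMap Λ k).rangeRestrict_surjective
  let φ : ↥(algebraMap Λ k).range →+* ResΛ Λ k :=
    RingHom.liftOfSurjective (algebraMap Λ k).rangeRestrict hsurj
      ⟨Ideal.Quotient.mk (RingHom.ker (algebraMap Λ k)), by
        intro l hl
        rw [RingHom.mem_ker] at hl ⊢
        rw [Ideal.Quotient.eq_zero_iff_mem, RingHom.mem_ker]
        have := congrArg Subtype.val hl
        exact this⟩
  have hφ : ∀ l : Λ, φ ((algebraMap Λ k).rangeRestrict l) = Ideal.Quotient.mk _ l := fun l =>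
    RingHom.liftOfRightInverse_comp_apply _ _ _ _ l
  have hcomp : (algebraMap (ResΛ Λ k) k).comp φ = algebraMap (↥(algebraMap Λ k).range) k := by
    ext r
    obtain ⟨l, rfl⟩ := hsurj r
    rw [RingHom.comp_apply, hφ]
    rfl
  refine ⟨fun x => ?_⟩
  have hs : (minpoly (↥(algebraMap Λ k).range) x).Separable :=
    Algebra.IsSeparable.isSeparable (↥(algebraMap Λ k).range) x
  have hs' : ((minpoly (↥(algebraMap Λ k).range) x).map φ).Separable := hs.map
  have hroot : aeval x ((minpoly (↥(algebraMap Λ k).range) x).map φ) = 0 := by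
    rw [aeval_def, eval₂_map, hcomp, ← aeval_def, minpoly.aeval]
  exact hs'.of_dvd (minpoly.dvd _ x hroot)

end Sep

variable [IsNoetherianRing Λ] [Module.Finite Λ k]

theorem exists_tangent_of_not_mem_of_separable [Algebra.IsSeparable (↥(algebraMap Λ k).range) k]
    (B : Art Λ k) (x : B) (hxm : x ∈ IsLocalRing.maximalIdeal B)
    (hx : x ∉ idealΛ B ⊔ IsLocalRing.maximalIdeal B ^ 2) :
    ∃ θ : B ⟶ dual Λ k, TrivSqZeroExt.snd (θ x) ≠ 0 := by
  haveI : Algebra.IsSeparable (ResΛ Λ k) k := isSeparable_resΛ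
  haveI : Algebra.FormallyEtale (ResΛ Λ k) k := Algebra.FormallyEtale.of_isSeparable _ _
  set I : Ideal B := idealΛ B ⊔ IsLocalRing.maximalIdeal B ^ 2 with hI
  have hIm : I ≤ IsLocalRing.maximalIdeal B :=
    sup_le (idealΛ_le B) (Ideal.pow_le_self (by norm_num))
  have hIne : I ≠ ⊤ := fun h => (IsLocalRing.maximalIdeal.isMaximal B).ne_top (top_le_iff.mp (h ▸ hIm))
  haveI : IsLocalRing (B ⧸ I) := isLocalRing_quotient I hIne
  have hmax : IsLocalRing.maximalIdeal (B ⧸ I) =
      (IsLocalRing.maximalIdeal B).map (Ideal.Quotient.mk I) := maximalIdeal_quotient I hIne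
  have hsq : IsLocalRing.maximalIdeal (B ⧸ I) ^ 2 = ⊥ := by
    rw [hmax, ← Ideal.map_pow, Ideal.map_eq_bot_iff_le_ker, Ideal.mk_ker]
    exact le_sup_right
  -- the `ResΛ`-algebra structure on `B ⧸ I`
  letI algL : Algebra (ResΛ Λ k) (B ⧸ I) :=
    (Ideal.Quotient.lift (RingHom.ker (algebraMap Λ k)) (algebraMap Λ (B ⧸ I)) (fun a ha => by
      change Ideal.Quotient.mk I (algebraMap Λ B a) = 0
      rw [Ideal.Quotient.eq_zero_iff_mem]
      exact le_sup_left (a := idealΛ B) (Ideal.mem_map_of_mem _ ha))).toAlgebra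
  haveI : IsScalarTower Λ (ResΛ Λ k) (B ⧸ I) := IsScalarTower.of_algebraMap_eq (fun _ => rfl)
  have hIres : ∀ a ∈ I, B.res a = 0 := fun a ha => (Art.mem_maximalIdeal_iff B a).1 (hIm ha)
  let resΛ' : (B ⧸ I) →ₐ[Λ] k := Ideal.Quotient.liftₐ I B.res hIres
  let resL : (B ⧸ I) →ₐ[ResΛ Λ k] k :=
    { (resΛ' : (B ⧸ I) →+* k) with
      commutes' := by
        intro r
        obtain ⟨l, rfl⟩ := Ideal.Quotient.mk_surjective r
        change resΛ' (algebraMap Λ (B ⧸ I) l) = algebraMap Λ k l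
        exact resΛ'.commutes l }
  have hresL : ∀ b : B, resL (Ideal.Quotient.mk I b) = B.res b := fun b => rfl
  have hsurj : Function.Surjective resL := fun c => by
    obtain ⟨b, hb⟩ := B.res_surjective c
    exact ⟨Ideal.Quotient.mk I b, hb⟩
  have hkerle : RingHom.ker (resL : (B ⧸ I) →+* k) ≤ IsLocalRing.maximalIdeal (B ⧸ I) := by
    intro y hy
    obtain ⟨b, rfl⟩ := Ideal.Quotient.mk_surjective y
    rw [hmax]
    apply Ideal.mem_map_of_mem
    rw [Art.mem_maximalIdeal_iff]
    exact hy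
  have hnil : IsNilpotent (RingHom.ker (resL : (B ⧸ I) →+* k)) := by
    refine ⟨2, ?_⟩
    rw [Ideal.zero_eq_bot, ← le_bot_iff, ← hsq]
    exact Ideal.pow_right_mono hkerle 2
  let s : k →ₐ[ResΛ Λ k] (B ⧸ I) :=
    Algebra.FormallySmooth.liftOfSurjective (AlgHom.id (ResΛ Λ k) k) resL hsurj hnil
  have hs : ∀ c : k, resL (s c) = c := fun c =>
    Algebra.FormallySmooth.liftOfSurjective_apply (AlgHom.id (ResΛ Λ k) k) resL hsurj hnil c
  obtain ⟨ψ, h1, -, -, h4⟩ := Groth.Agent.Lib.Helper9.exists_tangent_of_not_mem' (Λ := Λ) resΛ'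
    (fun c => hsurj c) (s.restrictScalars Λ) (fun c => ⟨c, hs c⟩) ⊥ bot_le (le_of_eq hsq)
    (fun c hc => by
      have h0 : c = 0 := by rw [← hs c]; exact hc
      rw [h0, map_zero]
      exact Ideal.zero_mem _)
    (Ideal.Quotient.mk I x) (by rw [hmax]; exact Ideal.mem_map_of_mem _ hxm)
    (by rw [Ideal.mem_bot, Ideal.Quotient.eq_zero_iff_mem]; exact hx)
  refine ⟨⟨ψ.comp (Ideal.Quotient.mkₐ Λ I), ?_⟩, h4⟩
  apply AlgHom.ext
  intro b
  have := congrArg (fun t : (B ⧸ I) →ₐ[Λ] k => t (Ideal.Quotient.mk I b)) h1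
  exact this

end Groth.Agent.Lib.Helper64
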