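import Mathlib

/-!
# Lifting an isomorphism of quotients to a finite extension (helper64)

Elementary construction: `A' ⊆ A` finite, `f^c A ⊆ A'`, `n ≥ 2c+1`.  Given `φ' : A'/f^n ≃ B'/g^n`
we build `B = {x ∈ B'_g | x g^c ∈ J}` with `J` the ideal of `B'` corresponding to `f^c A`.
-/

set_option autoImplicit false
universe u

namespace Groth.Agent.Lib.Helper64.EtLift

open Ideal

theorem exists_uniform_exp {A' A : Type*} [CommRing A'] [CommRing A] [Algebra A' A]
    [Module.Finite A' A] (f : A')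
    (h : ∀ a : A, ∃ (b : A') (m : ℕ), algebraMap A' A b = algebraMap A' A f ^ m * a) :
    ∃ c : ℕ, ∀ a : A, ∃ b : A', algebraMap A' A b = algebraMap A' A f ^ c * a := by
  classical
  obtain ⟨s, hs⟩ := (Module.Finite.fg_top : (⊤ : Submodule A' A).FG)
  have key : ∀ t : Finset A, ∃ c : ℕ, ∀ a ∈ Submodule.span A' (t : Set A),
      ∃ b : A', algebraMap A' A b = algebraMap A' A f ^ c * a := by
    intro t
    induction t using Finset.induction_on with
    | empty =>
      refine ⟨0, fun a ha => ⟨0, ?_⟩⟩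
      simp only [Finset.coe_empty, Submodule.span_empty, Submodule.mem_bot] at ha
      simp [ha]
    | insert x t hx ih =>
      obtain ⟨c, hc⟩ := ih
      obtain ⟨b0, m, hb0⟩ := h x
      refine ⟨c + m, fun a ha => ?_⟩
      rw [Finset.coe_insert, Submodule.mem_span_insert] at ha
      obtain ⟨r, y, hy, rfl⟩ := ha
      obtain ⟨b1, hb1⟩ := hc y hy
      refine ⟨r * f ^ c * b0 + f ^ m * b1, ?_⟩
      rw [map_add, map_mul, map_mul, map_mul, map_pow, map_pow, hb0, hb1, Algebra.smul_def,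
        pow_add]
      ring
  obtain ⟨c, hc⟩ := key s
  exact ⟨c, fun a => hc a (by rw [hs]; trivial)⟩

/-- All the data of the construction. -/
structure Setup (A' A B' : Type u) [CommRing A'] [CommRing A] [Algebra A' A] [CommRing B'] where
  f : A'
  g : B'
  c : ℕ
  n : ℕ
  hn : 2 * c + 1 ≤ n
  hinj : Function.Injective (algebraMap A' A)
  hf : algebraMap A' A f ∈ nonZeroDivisors A
  hg : g ∈ nonZeroDivisors B'
  s : A → A'
  hs : ∀ a, algebraMap A' A (s a) = algebraMap A' A f ^ c * a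
  φ' : (A' ⧸ Ideal.span {f ^ n}) ≃+* (B' ⧸ Ideal.span {g ^ n})
  hφ' : φ' (Ideal.Quotient.mk _ f) = Ideal.Quotient.mk _ g
  j₀ : A' → B'
  hj₀ : ∀ a', φ' (Ideal.Quotient.mk _ a') = Ideal.Quotient.mk _ (j₀ a')
  t : Finset A
  ht : Submodule.span A' (t : Set A) = ⊤

namespace Setup

variable {A' A B' : Type u} [CommRing A'] [CommRing A] [Algebra A' A] [CommRing B']
variable (D : Setup A' A B')

/-- quotient map of `A'` -/
abbrev mkA : A' →+* A' ⧸ Ideal.span {D.f ^ D.n} := Ideal.Quotient.mk _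
/-- quotient map of `B'` -/
abbrev mkB : B' →+* B' ⧸ Ideal.span {D.g ^ D.n} := Ideal.Quotient.mk _

/-- the lift `j a` of `φ' [f^c a]`. -/
def j (a : A) : B' := D.j₀ (D.s a)

theorem hj (a : A) : D.mkB (D.j a) = D.φ' (D.mkA (D.s a)) := (D.hj₀ _).symm

theorem s_add (a b : A) : D.s (a + b) = D.s a + D.s b :=
  D.hinj (by rw [map_add, D.hs, D.hs, D.hs, mul_add])

theorem s_zero : D.s 0 = 0 :=
  D.hinj (by rw [D.hs, mul_zero, map_zero])

theorem s_alg_mul (a' : A') (a : A) : D.s (algebraMap A' A a' * a) = a' * D.s a :=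
  D.hinj (by rw [map_mul, D.hs, D.hs]; ring)

theorem s_mul (a b : A) : D.s (a * b) * D.f ^ D.c = D.s a * D.s b :=
  D.hinj (by rw [map_mul, map_mul, map_pow, D.hs, D.hs, D.hs]; ring)

theorem s_one : D.s 1 = D.f ^ D.c :=
  D.hinj (by rw [D.hs, map_pow, mul_one])

theorem s_alg (a' : A') : D.s (algebraMap A' A a') = a' * D.f ^ D.c :=
  D.hinj (by rw [D.hs, map_mul, map_pow]; ring)

theorem φ'_pow (e : ℕ) : D.φ' (D.mkA (D.f ^ e)) = D.mkB (D.g ^ e) := by
  rw [map_pow, map_pow, D.hφ', ← map_pow]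

theorem mkB_eq {u v : B'} (h : D.mkB u = D.mkB v) : ∃ w, w * D.g ^ D.n = u - v := by
  have := (Ideal.Quotient.eq).1 h
  exact Ideal.mem_span_singleton'.1 this

theorem mkA_eq {u v : A'} (h : D.mkA u = D.mkA v) : ∃ w, w * D.f ^ D.n = u - v := by
  have := (Ideal.Quotient.eq).1 h
  exact Ideal.mem_span_singleton'.1 this

/-- the ideal of `B'` corresponding to `f^c A ⊆ A'`. -/
def J : Ideal B' where
  carrier := {b' | ∃ a : A, D.φ' (D.mkA (D.s a)) = D.mkB b'}
  zero_mem' := ⟨0, by rw [D.s_zero, map_zero, map_zero, map_zero]⟩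
  add_mem' := by
    rintro x y ⟨a, ha⟩ ⟨b, hb⟩
    exact ⟨a + b, by rw [D.s_add, map_add, map_add, ha, hb, map_add]⟩
  smul_mem' := by
    rintro r x ⟨a, ha⟩
    obtain ⟨q, hq⟩ := Ideal.Quotient.mk_surjective (D.φ'.symm (D.mkB r))
    refine ⟨algebraMap A' A q * a, ?_⟩
    rw [D.s_alg_mul, map_mul, map_mul, hq, RingEquiv.apply_symm_apply, ha, smul_eq_mul, map_mul]

theorem mem_J {b' : B'} : b' ∈ D.J ↔ ∃ a : A, D.φ' (D.mkA (D.s a)) = D.mkB b' := Iff.rfl

theorem j_mem (a : A) : D.j a ∈ D.J := ⟨a, (D.hj a).symm⟩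

theorem pow_mem_J {e : ℕ} (he : D.c ≤ e) : D.g ^ e ∈ D.J := by
  have h1 : D.g ^ D.c ∈ D.J := ⟨1, by rw [D.s_one, D.φ'_pow]⟩
  have : D.g ^ e = D.g ^ (e - D.c) * D.g ^ D.c := by
    rw [← pow_add]; congr 1; omega
  rw [this]
  exact D.J.mul_mem_left _ h1

theorem span_le_J : Ideal.span {D.g ^ D.n} ≤ D.J := by
  rw [Ideal.span_singleton_le_iff_mem]
  exact D.pow_mem_J (by have := D.hn; omega)

/-- the localisation map is injective -/
theorem ι_inj : Function.Injective (algebraMap B' (Localization.Away D.g)) :=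
  IsLocalization.injective _ (Submonoid.powers_le.mpr D.hg)

theorem isUnit_pow (e : ℕ) : IsUnit (algebraMap B' (Localization.Away D.g) (D.g ^ e)) := by
  rw [map_pow]
  exact (IsLocalization.Away.algebraMap_isUnit D.g).pow e

/-- inverse of `g^c` -/
noncomputable def ginv : Localization.Away D.g := ((D.isUnit_pow D.c).unit⁻¹ : (Localization.Away D.g)ˣ)

theorem ginv_mul : D.ginv * algebraMap B' (Localization.Away D.g) (D.g ^ D.c) = 1 := by
  unfold ginv
  exact (D.isUnit_pow D.c).val_inv_mul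

theorem mul_ginv : algebraMap B' (Localization.Away D.g) (D.g ^ D.c) * D.ginv = 1 := by
  rw [mul_comm, D.ginv_mul]

/-- the finite extension `B`. -/
def B : Subalgebra B' (Localization.Away D.g) where
  carrier := {x | ∃ b' ∈ D.J, x * algebraMap B' (Localization.Away D.g) (D.g ^ D.c) =
    algebraMap B' (Localization.Away D.g) b'}
  add_mem' := by
    rintro x y ⟨b1, h1, e1⟩ ⟨b2, h2, e2⟩
    exact ⟨b1 + b2, D.J.add_mem h1 h2, by rw [add_mul, e1, e2, map_add]⟩
  mul_mem' := by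
    rintro x y ⟨b1, ⟨a1, h1⟩, e1⟩ ⟨b2, ⟨a2, h2⟩, e2⟩
    have hmk : D.mkB (b1 * b2) = D.mkB (D.j (a1 * a2) * D.g ^ D.c) := by
      rw [map_mul, map_mul, ← h1, ← h2, D.hj, ← D.φ'_pow, ← map_mul, ← map_mul, ← map_mul,
        ← map_mul, D.s_mul]
    obtain ⟨w, hw⟩ := D.mkB_eq hmk
    have hc : D.c ≤ D.n - D.c := by have := D.hn; omega
    refine ⟨D.j (a1 * a2) + w * D.g ^ (D.n - D.c),
      D.J.add_mem (D.j_mem _) (D.J.mul_mem_left _ (D.pow_mem_J hc)), ?_⟩
    have hb : b1 * b2 = (D.j (a1 * a2) + w * D.g ^ (D.n - D.c)) * D.g ^ D.c := by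
      have hpow : D.g ^ D.n = D.g ^ (D.n - D.c) * D.g ^ D.c := by
        rw [← pow_add]; congr 1; omega
      have : b1 * b2 = D.j (a1 * a2) * D.g ^ D.c + w * D.g ^ D.n := by rw [hw]; ring
      rw [this, hpow]; ring
    apply (D.isUnit_pow D.c).mul_left_inj.1
    calc x * y * algebraMap B' (Localization.Away D.g) (D.g ^ D.c) *
          algebraMap B' (Localization.Away D.g) (D.g ^ D.c)
        = (x * algebraMap B' (Localization.Away D.g) (D.g ^ D.c)) *
          (y * algebraMap B' (Localization.Away D.g) (D.g ^ D.c)) := by ring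
      _ = algebraMap B' (Localization.Away D.g) (b1 * b2) := by rw [e1, e2, map_mul]
      _ = _ := by rw [hb, map_mul]
  algebraMap_mem' := by
    intro r
    exact ⟨r * D.g ^ D.c, D.J.mul_mem_left _ (D.pow_mem_J le_rfl), by rw [map_mul]⟩

theorem mem_B {x : Localization.Away D.g} : x ∈ D.B ↔ ∃ b' ∈ D.J,
    x * algebraMap B' (Localization.Away D.g) (D.g ^ D.c) =
      algebraMap B' (Localization.Away D.g) b' := Iff.rfl

theorem algebraMap_injective : Function.Injective (algebraMap B' D.B) := by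
  intro x y h
  apply D.ι_inj
  have := congrArg Subtype.val h
  simpa using this

/-- `θ a = j a / g^c`. -/
noncomputable def θ (a : A) : D.B :=
  ⟨algebraMap B' (Localization.Away D.g) (D.j a) * D.ginv,
    ⟨D.j a, D.j_mem a, by rw [mul_assoc, D.ginv_mul, mul_one]⟩⟩

theorem θ_spec (a : A) : (D.θ a : Localization.Away D.g) *
    algebraMap B' (Localization.Away D.g) (D.g ^ D.c) =
      algebraMap B' (Localization.Away D.g) (D.j a) := by
  show algebraMap B' (Localization.Away D.g) (D.j a) * D.ginv * _ = _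
  rw [mul_assoc, D.ginv_mul, mul_one]

/-- the quotient map of `B`. -/
abbrev q : D.B →+* D.B ⧸ Ideal.span {algebraMap B' D.B D.g} := Ideal.Quotient.mk _

/-- Key lemma: two elements of `B` whose numerators over `g^e` (`e < n`) agree mod `g^n`
agree mod `g B`. -/
theorem key (x y : D.B) (e : ℕ) (he : e + 1 ≤ D.n) (u v : B')
    (hx : (x : Localization.Away D.g) * algebraMap B' (Localization.Away D.g) (D.g ^ e) =
      algebraMap B' (Localization.Away D.g) u)
    (hy : (y : Localization.Away D.g) * algebraMap B' (Localization.Away D.g) (D.g ^ e) =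
      algebraMap B' (Localization.Away D.g) v)
    (huv : D.mkB u = D.mkB v) : D.q x = D.q y := by
  obtain ⟨w, hw⟩ := D.mkB_eq huv
  rw [Ideal.Quotient.eq, Ideal.mem_span_singleton']
  refine ⟨algebraMap B' D.B (w * D.g ^ (D.n - e - 1)), ?_⟩
  apply Subtype.ext
  apply (D.isUnit_pow e).mul_left_inj.1
  have hpow : D.g ^ D.n = D.g ^ (D.n - e - 1) * D.g * D.g ^ e := by
    rw [← pow_succ, ← pow_add]; congr 1; omega
  have e1 : ((algebraMap B' D.B (w * D.g ^ (D.n - e - 1)) * algebraMap B' D.B D.g : D.B) :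
      Localization.Away D.g) = algebraMap B' (Localization.Away D.g) (w * D.g ^ (D.n - e - 1) * D.g) := by
    rw [map_mul (algebraMap B' (Localization.Away D.g))]; rfl
  have e2 : ((x - y : D.B) : Localization.Away D.g) = (x : Localization.Away D.g) - y := rfl
  rw [e1, e2, sub_mul, hx, hy, ← map_sub, ← hw, ← map_mul, hpow]
  congr 1; ring

/-- the ring map `A → B/gB`. -/
noncomputable def ψ : A →+* D.B ⧸ Ideal.span {algebraMap B' D.B D.g} where
  toFun a := D.q (D.θ a)
  map_one' := by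
    rw [← map_one D.q]
    refine D.key _ _ D.c (by have := D.hn; omega) (D.j 1) (D.g ^ D.c) (D.θ_spec 1) ?_ ?_
    · show (1 : Localization.Away D.g) * _ = _
      rw [one_mul]
    · rw [D.hj, D.s_one, D.φ'_pow]
  map_mul' a b := by
    rw [← map_mul D.q]
    refine D.key _ _ (D.c + D.c) (by have := D.hn; omega) (D.j (a * b) * D.g ^ D.c)
      (D.j a * D.j b) ?_ ?_ ?_
    · rw [pow_add, map_mul, ← mul_assoc, D.θ_spec, map_mul]
    · show (D.θ a : Localization.Away D.g) * (D.θ b : Localization.Away D.g) * _ = _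
      rw [pow_add, map_mul, map_mul, ← D.θ_spec a, ← D.θ_spec b]; ring
    · rw [map_mul, map_mul, D.hj, D.hj, D.hj, ← D.φ'_pow, ← map_mul, ← map_mul, ← map_mul,
        ← map_mul, D.s_mul]
  map_zero' := by
    rw [← map_zero D.q]
    refine D.key _ _ D.c (by have := D.hn; omega) (D.j 0) 0 (D.θ_spec 0) ?_ ?_
    · show (0 : Localization.Away D.g) * _ = _
      rw [zero_mul, map_zero]
    · rw [D.hj, D.s_zero, map_zero, map_zero, map_zero]
  map_add' a b := by
    rw [← map_add D.q]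
    refine D.key _ _ D.c (by have := D.hn; omega) (D.j (a + b)) (D.j a + D.j b)
      (D.θ_spec _) ?_ ?_
    · show ((D.θ a : Localization.Away D.g) + (D.θ b : Localization.Away D.g)) * _ = _
      rw [add_mul, D.θ_spec, D.θ_spec, map_add]
    · rw [map_add, D.hj, D.hj, D.hj, D.s_add, map_add, map_add]

theorem ψ_apply (a : A) : D.ψ a = D.q (D.θ a) := rfl

theorem ψ_F : D.ψ (algebraMap A' A D.f) = 0 := by
  have h0 : D.q (algebraMap B' D.B D.g) = 0 :=
    Ideal.Quotient.eq_zero_iff_mem.2 (Ideal.mem_span_singleton_self _)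
  rw [ψ_apply, ← h0]
  refine D.key _ _ D.c (by have := D.hn; omega) (D.j (algebraMap A' A D.f)) (D.g * D.g ^ D.c)
    (D.θ_spec _) ?_ ?_
  · show algebraMap B' (Localization.Away D.g) D.g * _ = _
    rw [map_mul]
  · rw [D.hj, D.s_alg, map_mul, map_mul, D.φ'_pow, D.hφ', map_mul]

/-- the induced map `A/fA → B/gB`. -/
noncomputable def φ₀ : (A ⧸ Ideal.span {algebraMap A' A D.f}) →+*
    D.B ⧸ Ideal.span {algebraMap B' D.B D.g} :=
  Ideal.Quotient.lift _ D.ψ (by
    intro a ha
    obtain ⟨w, rfl⟩ := Ideal.mem_span_singleton'.1 ha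
    rw [map_mul, D.ψ_F, mul_zero])

theorem φ₀_mk (a : A) : D.φ₀ (Ideal.Quotient.mk _ a) = D.ψ a := Ideal.Quotient.lift_mk _ _ _

theorem φ₀_injective : Function.Injective D.φ₀ := by
  rw [injective_iff_map_eq_zero]
  intro x hx
  obtain ⟨a, rfl⟩ := Ideal.Quotient.mk_surjective x
  rw [φ₀_mk, ψ_apply, Ideal.Quotient.eq_zero_iff_mem, Ideal.mem_span_singleton'] at hx
  obtain ⟨y, hy⟩ := hx
  obtain ⟨b2, ⟨a2, ha2⟩, hb2⟩ := y.2
  -- in `L`: ι (j a) = ι (b2 * g)
  have h1 : D.j a = b2 * D.g := by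
    apply D.ι_inj
    rw [← D.θ_spec a, ← hy, map_mul, ← hb2]
    show (y : Localization.Away D.g) * algebraMap B' (Localization.Away D.g) D.g * _ = _
    ring
  have h2 : D.mkA (D.s a) = D.mkA (D.s a2 * D.f) := by
    apply D.φ'.injective
    rw [← D.hj, h1, map_mul, map_mul, map_mul, ha2, D.hφ']
  obtain ⟨w, hw⟩ := D.mkA_eq h2
  have h3 := congrArg (algebraMap A' A) hw
  rw [map_mul, map_pow, map_sub, map_mul, D.hs, D.hs] at h3
  rw [Ideal.Quotient.eq_zero_iff_mem, Ideal.mem_span_singleton']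
  have hpow : algebraMap A' A D.f ^ D.n =
      algebraMap A' A D.f ^ D.c * algebraMap A' A D.f ^ (D.n - D.c - 1) * algebraMap A' A D.f := by
    rw [mul_assoc, ← pow_succ, ← pow_add]; congr 1; have := D.hn; omega
  refine ⟨a2 + algebraMap A' A w * algebraMap A' A D.f ^ (D.n - D.c - 1), ?_⟩
  have hnz : algebraMap A' A D.f ^ D.c ∈ nonZeroDivisors A := pow_mem D.hf _
  have h4 : algebraMap A' A D.f ^ D.c *
      ((a2 + algebraMap A' A w * algebraMap A' A D.f ^ (D.n - D.c - 1)) * algebraMap A' A D.f - a)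
        = 0 := by
    rw [hpow] at h3
    linear_combination h3
  have h5 := (mem_nonZeroDivisors_iff_left.1 hnz) _ h4
  exact sub_eq_zero.1 h5

theorem φ₀_surjective : Function.Surjective D.φ₀ := by
  intro y'
  obtain ⟨x, rfl⟩ := Ideal.Quotient.mk_surjective y'
  obtain ⟨b', ⟨a, ha⟩, hx⟩ := x.2
  refine ⟨Ideal.Quotient.mk _ a, ?_⟩
  rw [φ₀_mk, ψ_apply]
  exact D.key _ _ D.c (by have := D.hn; omega) (D.j a) b' (D.θ_spec a) hx (by rw [D.hj, ha])

/-- the isomorphism `A/fA ≃ B/gB`. -/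
noncomputable def φ : (A ⧸ Ideal.span {algebraMap A' A D.f}) ≃+*
    D.B ⧸ Ideal.span {algebraMap B' D.B D.g} :=
  RingEquiv.ofBijective D.φ₀ ⟨D.φ₀_injective, D.φ₀_surjective⟩

theorem compat (a' : A') (b' : B') (h : D.φ' (D.mkA a') = D.mkB b') :
    D.φ (Ideal.Quotient.mk _ (algebraMap A' A a')) = D.q (algebraMap B' D.B b') := by
  unfold φ
  rw [RingEquiv.ofBijective_apply, φ₀_mk, ψ_apply]
  refine D.key _ _ D.c (by have := D.hn; omega) (D.j (algebraMap A' A a')) (b' * D.g ^ D.c)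
    (D.θ_spec _) ?_ ?_
  · show algebraMap B' (Localization.Away D.g) b' * _ = _
    rw [map_mul]
  · rw [D.hj, D.s_alg, map_mul, map_mul, D.φ'_pow, h, map_mul]

/-! ### finiteness -/

theorem mem_of_mkB_eq {K : Ideal B'} (hK : Ideal.span {D.g ^ D.n} ≤ K) {u v : B'}
    (h : D.mkB u = D.mkB v) (hv : v ∈ K) : u ∈ K := by
  have h1 : u - v ∈ Ideal.span {D.g ^ D.n} := (Ideal.Quotient.eq).1 h
  have : u = (u - v) + v := by ring
  rw [this]
  exact K.add_mem (hK h1) hv

theorem J_fg : D.J.FG := by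
  classical
  refine ⟨D.t.image D.j ∪ {D.g ^ D.n}, le_antisymm ?_ ?_⟩
  · rw [Ideal.span_le]
    intro x hx
    rw [Finset.coe_union, Finset.coe_image, Finset.coe_singleton] at hx
    rcases hx with ⟨a, _, rfl⟩ | hx
    · exact D.j_mem a
    · rw [Set.mem_singleton_iff] at hx
      rw [hx]
      exact D.pow_mem_J (by have := D.hn; omega)
  · set K : Ideal B' := Ideal.span ((D.t.image D.j ∪ {D.g ^ D.n} : Finset B') : Set B') with hKdef
    have hK : Ideal.span {D.g ^ D.n} ≤ K := by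
      rw [Ideal.span_singleton_le_iff_mem]
      apply Ideal.subset_span
      rw [Finset.coe_union, Finset.coe_singleton]
      exact Or.inr rfl
    have hP : ∀ a ∈ Submodule.span A' (D.t : Set A), D.j a ∈ K := by
      intro a ha
      induction ha using Submodule.span_induction with
      | mem x hx =>
        apply Ideal.subset_span
        rw [Finset.coe_union, Finset.coe_image]
        exact Or.inl ⟨x, hx, rfl⟩
      | zero =>
        refine D.mem_of_mkB_eq hK (v := 0) ?_ K.zero_mem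
        rw [D.hj, D.s_zero, map_zero, map_zero, map_zero]
      | add x y _ _ hx hy =>
        refine D.mem_of_mkB_eq hK (v := D.j x + D.j y) ?_ (K.add_mem hx hy)
        rw [map_add, D.hj, D.hj, D.hj, D.s_add, map_add, map_add]
      | smul r x _ hx =>
        refine D.mem_of_mkB_eq hK (v := D.j₀ r * D.j x) ?_ (K.mul_mem_left _ hx)
        rw [map_mul, D.hj, D.hj, ← D.hj₀, Algebra.smul_def, D.s_alg_mul, map_mul, map_mul]
    intro b hb
    obtain ⟨a, ha⟩ := hb
    refine D.mem_of_mkB_eq hK (v := D.j a) ?_ (hP a (by rw [D.ht]; trivial))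
    rw [D.hj, ha]

theorem finite : Module.Finite B' D.B := by
  have : Module.Finite B' D.J := Module.Finite.iff_fg.2 D.J_fg
  let Ψ₁ : D.J →ₗ[B'] Localization.Away D.g :=
    (LinearMap.mulRight B' D.ginv) ∘ₗ (Algebra.linearMap B' (Localization.Away D.g)) ∘ₗ
      (Submodule.subtype D.J)
  have hΨ₁ : ∀ b : D.J, Ψ₁ b = algebraMap B' (Localization.Away D.g) b * D.ginv := fun b => rfl
  have hmem : ∀ b : D.J, Ψ₁ b ∈ Subalgebra.toSubmodule D.B := by
    intro b
    rw [hΨ₁]
    exact ⟨b, b.2, by rw [mul_assoc, D.ginv_mul, mul_one]⟩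
  let Ψ : D.J →ₗ[B'] Subalgebra.toSubmodule D.B := LinearMap.codRestrict _ Ψ₁ hmem
  have hsurj : Function.Surjective Ψ := by
    rintro ⟨x, b', hb', hx⟩
    refine ⟨⟨b', hb'⟩, Subtype.ext ?_⟩
    show Ψ₁ ⟨b', hb'⟩ = x
    rw [hΨ₁]
    show algebraMap B' (Localization.Away D.g) b' * D.ginv = x
    rw [← hx, mul_assoc, D.mul_ginv, mul_one]
  exact Module.Finite.of_surjective Ψ hsurj

end Setup

end Groth.Agent.Lib.Helper64.EtLift
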