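import Mathlib

/-!
# Eventually numerical-polynomial functions `ℕ → K` with values in an abelian group
-/

set_option autoImplicit false

namespace Groth.Agent.Lib.Helper64.EvPoly

variable {K : Type*} [AddCommGroup K]

/-- `f n = ∑_{i<r} C(n,i) • a i` for all large `n`. -/
def EP (f : ℕ → K) : Prop :=
  ∃ (r : ℕ) (a : ℕ → K) (N : ℕ), ∀ n, N ≤ n → f n = ∑ i ∈ Finset.range r, ((n.choose i : ℕ) : ℤ) • a i

theorem EP.of_eventually_zero {f : ℕ → K} (h : ∃ N, ∀ n, N ≤ n → f n = 0) : EP f := by
  obtain ⟨N, hN⟩ := h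
  exact ⟨0, fun _ => 0, N, fun n hn => by simp [hN n hn]⟩

theorem EP.congr {f g : ℕ → K} (hf : EP f) (h : ∃ N, ∀ n, N ≤ n → f n = g n) : EP g := by
  obtain ⟨r, a, N, hN⟩ := hf
  obtain ⟨N', hN'⟩ := h
  exact ⟨r, a, max N N', fun n hn => by
    rw [← hN' n (le_trans (le_max_right _ _) hn), hN n (le_trans (le_max_left _ _) hn)]⟩

/-- normal form: coefficients vanish beyond `r`, and `r` can be enlarged. -/
theorem EP.exists_normal {f : ℕ → K} (hf : EP f) (r' : ℕ) :
    ∃ (r : ℕ) (a : ℕ → K) (N : ℕ), r' ≤ r ∧ (∀ i, r ≤ i → a i = 0) ∧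
      ∀ n, N ≤ n → f n = ∑ i ∈ Finset.range r, ((n.choose i : ℕ) : ℤ) • a i := by
  obtain ⟨r, a, N, hN⟩ := hf
  refine ⟨max r r', fun i => if i < r then a i else 0, N, le_max_right _ _, ?_, ?_⟩
  · intro i hi
    have : ¬ i < r := by
      have := le_trans (le_max_left r r') hi
      omega
    simp [this]
  · intro n hn
    rw [hN n hn]
    have hsub : Finset.range r ⊆ Finset.range (max r r') :=
      Finset.range_subset_range.mpr (le_max_left _ _)
    rw [← Finset.sum_subset hsub]
    · refine Finset.sum_congr rfl fun i hi => ?_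
      simp only [if_pos (Finset.mem_range.mp hi)]
    · intro i _ hi
      have : ¬ i < r := by simpa using hi
      simp [this]

theorem EP.add {f g : ℕ → K} (hf : EP f) (hg : EP g) : EP (fun n => f n + g n) := by
  obtain ⟨r, a, N, -, ha, hN⟩ := hf.exists_normal 0
  obtain ⟨r', b, N', hr', hb, hN'⟩ := hg.exists_normal r
  refine ⟨r', fun i => a i + b i, max N N', fun n hn => ?_⟩
  have h1 := hN n (le_trans (le_max_left _ _) hn)
  have h2 := hN' n (le_trans (le_max_right _ _) hn)
  simp only [smul_add, Finset.sum_add_distrib]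
  rw [h1, h2]
  congr 1
  refine Finset.sum_subset (Finset.range_subset_range.mpr hr') ?_
  intro i _ hi
  have : r ≤ i := by simpa using hi
  rw [ha i this, smul_zero]

theorem EP.neg {f : ℕ → K} (hf : EP f) : EP (fun n => - f n) := by
  obtain ⟨r, a, N, hN⟩ := hf
  refine ⟨r, fun i => - a i, N, fun n hn => ?_⟩
  show - f n = _
  rw [hN n hn]
  simp

theorem EP.sub {f g : ℕ → K} (hf : EP f) (hg : EP g) : EP (fun n => f n - g n) := by
  have := hf.add hg.neg
  simpa [sub_eq_add_neg] using this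

theorem sum_choose_succ (n r : ℕ) (a : ℕ → K) :
    ∑ i ∈ Finset.range (r + 1), (((n + 1).choose i : ℕ) : ℤ) • a i =
      ∑ i ∈ Finset.range (r + 1), ((n.choose i : ℕ) : ℤ) • a i +
        ∑ i ∈ Finset.range r, ((n.choose i : ℕ) : ℤ) • a (i + 1) := by
  rw [Finset.sum_range_succ', Finset.sum_range_succ' (fun i => ((n.choose i : ℕ) : ℤ) • a i)]
  simp only [Nat.choose_succ_succ, Nat.choose_zero_right, Nat.cast_add, add_smul,
    Finset.sum_add_distrib]
  abel

theorem EP.shift {f : ℕ → K} (hf : EP f) : EP (fun n => f (n + 1)) := by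
  obtain ⟨r, a, N, hr, ha, hN⟩ := hf.exists_normal 1
  obtain ⟨r₀, rfl⟩ : ∃ r₀, r = r₀ + 1 := ⟨r - 1, by omega⟩
  refine ⟨r₀ + 1, fun i => a i + a (i + 1), N, fun n hn => ?_⟩
  show f (n + 1) = _
  rw [hN (n + 1) (by omega), sum_choose_succ]
  simp only [smul_add, Finset.sum_add_distrib]
  congr 1
  rw [Finset.sum_range_succ, ha (r₀ + 1) le_rfl, smul_zero, add_zero]

/-- Discrete integration: if the first difference of `f` is eventually a numerical polynomial, so
is `f`. -/
theorem EP.of_diff {f : ℕ → K} (hf : EP (fun n => f (n + 1) - f n)) : EP f := by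
  obtain ⟨r, b, N, hN⟩ := hf
  let c : K := f N - ∑ i ∈ Finset.range r, ((N.choose (i + 1) : ℕ) : ℤ) • b i
  let a : ℕ → K := fun i => match i with
    | 0 => c
    | (i + 1) => b i
  refine ⟨r + 1, a, N, fun n hn => ?_⟩
  induction n, hn using Nat.le_induction with
  | base =>
    rw [Finset.sum_range_succ']
    simp only [Nat.choose_zero_right, Nat.cast_one, one_smul, a, c]
    abel
  | succ n hn ih =>
    have h1 : f (n + 1) = f n + ∑ i ∈ Finset.range r, ((n.choose i : ℕ) : ℤ) • b i := by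
      have := hN n hn
      simp only at this
      rw [← this]; abel
    rw [h1, ih, sum_choose_succ]

end Groth.Agent.Lib.Helper64.EvPoly
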