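import Mathlib

/-!
# Gluing finite extensions at finitely many primes inside `A_t` (helper64)

Explicit construction used for S6481: inside `T = A_t` we form the lattices
`M n = {x ∈ t^{-n}A : x ↦ B_i ⊂ (B_i)_t for all i}` and the subalgebra `A + 𝔪 • M n`
where `𝔪` is an ideal with `𝔪 • M (2n) ⊆ M n`.
-/

set_option autoImplicit false
universe u
open TensorProduct

namespace Groth.Agent.Lib.Helper64.GlueH1

/-- A ring hom into the range of an injective ring hom factors. -/
lemma exists_factor {B E C : Type*} [CommRing B] [CommRing E] [CommRing C] (β : B →+* E)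
    (hβ : Function.Injective β) (f : C →+* E) (hf : ∀ c, f c ∈ β.range) :
    ∃ g : C →+* B, ∀ c, β (g c) = f c := by
  have hf' : ∀ c, ∃ b, β b = f c := fun c => RingHom.mem_range.mp (hf c)
  choose g0 hg0 using hf'
  refine ⟨{ toFun := g0
            map_one' := hβ (by rw [hg0, map_one, map_one])
            map_mul' := fun x y => hβ (by rw [hg0, map_mul, map_mul, hg0, hg0])
            map_zero' := hβ (by rw [hg0, map_zero, map_zero])
            map_add' := fun x y => hβ (by rw [hg0, map_add, map_add, hg0, hg0]) }, hg0⟩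

section Single

variable {A : Type u} [CommRing A] (p : Ideal A) [p.IsPrime]
  (Bp : Type u) [CommRing Bp] [Algebra (Localization.AtPrime p) Bp]

/-- The structure map `A → A_p → Bp`. -/
noncomputable def kap : A →+* Bp :=
  (algebraMap (Localization.AtPrime p) Bp).comp (algebraMap A (Localization.AtPrime p))

lemma kap_apply (a : A) : kap p Bp a =
    algebraMap (Localization.AtPrime p) Bp (algebraMap A (Localization.AtPrime p) a) := rfl

variable (C : Type u) [CommRing C] [Algebra A C]

lemma algebraMap_smul_one_tmul (s : A) (x : C) :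
    algebraMap A (Localization.AtPrime p) s • ((1 : Localization.AtPrime p) ⊗ₜ[A] x) =
      (1 : Localization.AtPrime p) ⊗ₜ[A] (s • x) := by
  rw [TensorProduct.smul_tmul', smul_eq_mul, mul_one, Algebra.algebraMap_eq_smul_one,
    TensorProduct.smul_tmul]

lemma exists_one_tmul (z : Localization.AtPrime p ⊗[A] C) :
    ∃ s ∈ p.primeCompl, ∃ x : C,
      algebraMap A (Localization.AtPrime p) s • z = (1 : Localization.AtPrime p) ⊗ₜ[A] x := by
  induction z using TensorProduct.induction_on with
  | zero => exact ⟨1, p.primeCompl.one_mem, 0, by simp⟩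
  | tmul α c =>
    obtain ⟨⟨a, s⟩, rfl⟩ := IsLocalization.mk'_surjective p.primeCompl α
    refine ⟨s.1, s.2, a • c, ?_⟩
    rw [TensorProduct.smul_tmul', smul_eq_mul, mul_comm, IsLocalization.mk'_spec,
      Algebra.algebraMap_eq_smul_one, TensorProduct.smul_tmul]
  | add z1 z2 h1 h2 =>
    obtain ⟨s1, hs1, x1, e1⟩ := h1
    obtain ⟨s2, hs2, x2, e2⟩ := h2
    refine ⟨s1 * s2, p.primeCompl.mul_mem hs1 hs2, s2 • x1 + s1 • x2, ?_⟩
    have e1' : algebraMap A (Localization.AtPrime p) (s1 * s2) • z1 =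
        (1 : Localization.AtPrime p) ⊗ₜ[A] (s2 • x1) := by
      rw [map_mul, mul_comm, mul_smul, e1, algebraMap_smul_one_tmul]
    have e2' : algebraMap A (Localization.AtPrime p) (s1 * s2) • z2 =
        (1 : Localization.AtPrime p) ⊗ₜ[A] (s1 • x2) := by
      rw [map_mul, mul_smul, e2, algebraMap_smul_one_tmul]
    rw [smul_add, e1', e2', TensorProduct.tmul_add]

/-- `Bp` is the localization of `C` at `p`: criterion giving `A_p ⊗ C ≃ Bp`. -/
theorem nonempty_algEquiv_of_loc (σ : C →+* Bp)
    (hσ : ∀ a, σ (algebraMap A C a) = kap p Bp a)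
    (hsurj : ∀ b : Bp, ∃ s ∈ p.primeCompl, ∃ x : C, σ x = kap p Bp s * b)
    (hker : ∀ x : C, σ x = 0 → ∃ s ∈ p.primeCompl, s • x = 0) :
    Nonempty (Localization.AtPrime p ⊗[A] C ≃ₐ[Localization.AtPrime p] Bp) := by
  letI : Algebra A Bp := (kap p Bp).toAlgebra
  haveI : IsScalarTower A (Localization.AtPrime p) Bp :=
    IsScalarTower.of_algebraMap_eq (fun a => rfl)
  let σa : C →ₐ[A] Bp := { σ with commutes' := hσ }
  let Φ : Localization.AtPrime p ⊗[A] C →ₐ[Localization.AtPrime p] Bp :=
    Algebra.TensorProduct.lift (Algebra.ofId _ _) σa (fun _ _ => Commute.all _ _)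
  have hΦ : ∀ (α : Localization.AtPrime p) (c : C),
      Φ (α ⊗ₜ c) = algebraMap (Localization.AtPrime p) Bp α * σ c := fun α c => by
    simp only [Φ, Algebra.TensorProduct.lift_tmul]
    rfl
  refine ⟨AlgEquiv.ofBijective Φ ⟨?_, ?_⟩⟩
  · rw [injective_iff_map_eq_zero]
    intro z hz
    obtain ⟨s, hs, x, hx⟩ := exists_one_tmul p C z
    have h1 : σ x = 0 := by
      have := congrArg Φ hx
      rw [map_smul, hz, smul_zero, hΦ, map_one, one_mul] at this
      exact this.symm
    obtain ⟨s', hs', hx'⟩ := hker x h1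
    have h2 : algebraMap A (Localization.AtPrime p) (s' * s) • z = 0 := by
      rw [map_mul, mul_smul, hx, algebraMap_smul_one_tmul, hx', TensorProduct.tmul_zero]
    have hu : IsUnit (algebraMap A (Localization.AtPrime p) (s' * s)) :=
      IsLocalization.map_units (Localization.AtPrime p)
        (⟨s' * s, p.primeCompl.mul_mem hs' hs⟩ : p.primeCompl)
    exact hu.smul_eq_zero.mp h2
  · intro b
    obtain ⟨s, hs, x, hx⟩ := hsurj b
    refine ⟨(IsLocalization.mk' (Localization.AtPrime p) (1 : A) (⟨s, hs⟩ : p.primeCompl)) ⊗ₜ x, ?_⟩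
    rw [hΦ, hx, kap_apply, ← mul_assoc, ← map_mul]
    have : IsLocalization.mk' (Localization.AtPrime p) (1 : A) (⟨s, hs⟩ : p.primeCompl) *
        algebraMap A (Localization.AtPrime p) s = 1 := by
      have := IsLocalization.mk'_spec (Localization.AtPrime p) (1 : A) (⟨s, hs⟩ : p.primeCompl)
      rw [map_one] at this
      exact this
    rw [this, map_one, one_mul]

end Single

section Away

variable {A : Type u} [CommRing A] (t : A) (p : Ideal A) [p.IsPrime]
  (Bp : Type u) [CommRing Bp] [Algebra (Localization.AtPrime p) Bp]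

/-- Image of `t` in `Bp`. -/
noncomputable def tB : Bp := kap p Bp t

/-- `(Bp)_t`. -/
abbrev Bt : Type u := Localization.Away (tB t p Bp)

/-- `Bp → (Bp)_t`. -/
noncomputable def bet : Bp →+* Bt t p Bp := algebraMap Bp (Bt t p Bp)

lemma isUnit_bet_kap : IsUnit (((bet t p Bp).comp (kap p Bp)) t) :=
  IsLocalization.Away.algebraMap_isUnit (S := Bt t p Bp) (tB t p Bp)

/-- `A_t → (Bp)_t`. -/
noncomputable def rho : Localization.Away t →+* Bt t p Bp :=
  IsLocalization.Away.lift t (g := (bet t p Bp).comp (kap p Bp)) (isUnit_bet_kap t p Bp)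

lemma rho_algebraMap (a : A) :
    rho t p Bp (algebraMap A (Localization.Away t) a) = bet t p Bp (kap p Bp a) := by
  unfold rho
  rw [IsLocalization.Away.lift_eq]
  rfl

lemma tB_mem_nonZeroDivisors
    (hreg : IsSMulRegular Bp (algebraMap A (Localization.AtPrime p) t)) :
    tB t p Bp ∈ nonZeroDivisors Bp := by
  rw [mem_nonZeroDivisors_iff_left]
  intro x hx
  apply hreg
  show (algebraMap A (Localization.AtPrime p) t) • x =
    (algebraMap A (Localization.AtPrime p) t) • (0 : Bp)
  rw [smul_zero, Algebra.smul_def]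
  exact hx

lemma bet_injective (hreg : IsSMulRegular Bp (algebraMap A (Localization.AtPrime p) t)) :
    Function.Injective (bet t p Bp) :=
  IsLocalization.injective (Bt t p Bp) (M := Submonoid.powers (tB t p Bp))
    (Submonoid.powers_le.mpr (tB_mem_nonZeroDivisors t p Bp hreg))

lemma rho_eq_zero (hinj : Function.Injective (algebraMap (Localization.AtPrime p) Bp))
    (hreg : IsSMulRegular Bp (algebraMap A (Localization.AtPrime p) t))
    (x : Localization.Away t) (hx : rho t p Bp x = 0) :
    ∃ s ∈ p.primeCompl, algebraMap A (Localization.Away t) s * x = 0 := by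
  obtain ⟨N, a, hxa⟩ := IsLocalization.Away.surj t x
  have h1 : rho t p Bp (algebraMap A _ a) = 0 := by
    rw [← hxa, map_mul, hx, zero_mul]
  rw [rho_algebraMap] at h1
  have h2 : kap p Bp a = 0 := bet_injective t p Bp hreg (by rw [h1, map_zero])
  have h3 : algebraMap A (Localization.AtPrime p) a = 0 :=
    hinj (by rw [map_zero]; exact h2)
  obtain ⟨m, hm⟩ := (IsLocalization.map_eq_zero_iff p.primeCompl (Localization.AtPrime p) a).mp h3
  refine ⟨m.1, m.2, ?_⟩
  have hu : IsUnit (algebraMap A (Localization.Away t) t ^ N) :=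
    IsLocalization.Away.algebraMap_pow_isUnit (S := Localization.Away t) t N
  have h4 : algebraMap A (Localization.Away t) m.1 * x *
      (algebraMap A (Localization.Away t) t ^ N) = 0 := by
    rw [mul_assoc, hxa, ← map_mul, hm, map_zero]
  exact (hu.mul_left_eq_zero).mp h4

/-- The inverse of `t` in `A_t`. -/
noncomputable def invt : Localization.Away t := IsLocalization.Away.invSelf t

lemma t_mul_invt : algebraMap A (Localization.Away t) t * invt t = 1 :=
  IsLocalization.Away.mul_invSelf t

lemma t_pow_mul_invt_pow (n : ℕ) :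
    algebraMap A (Localization.Away t) t ^ n * invt t ^ n = 1 := by
  rw [← mul_pow, t_mul_invt, one_pow]

lemma bet_tB_pow_mul_rho_invt_pow (n : ℕ) :
    bet t p Bp (tB t p Bp) ^ n * rho t p Bp (invt t) ^ n = 1 := by
  have := congrArg (rho t p Bp) (t_pow_mul_invt_pow t n)
  rw [map_mul, map_one, map_pow, map_pow, rho_algebraMap] at this
  exact this

/-- `t^{-n} A ⊆ A_t`. -/
noncomputable def W (n : ℕ) : Submodule A (Localization.Away t) := Submodule.span A {invt t ^ n}

lemma mem_W {n : ℕ} {x : Localization.Away t} :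
    x ∈ W t n ↔ ∃ a : A, algebraMap A (Localization.Away t) t ^ n * x =
      algebraMap A (Localization.Away t) a := by
  unfold W
  rw [Submodule.mem_span_singleton]
  have hti := t_pow_mul_invt_pow t n
  constructor
  · rintro ⟨a, rfl⟩
    refine ⟨a, ?_⟩
    rw [Algebra.smul_def]
    linear_combination (algebraMap A (Localization.Away t) a) * hti
  · rintro ⟨a, ha⟩
    refine ⟨a, ?_⟩
    rw [Algebra.smul_def]
    linear_combination (-(invt t ^ n)) * ha + x * hti

instance [IsNoetherianRing A] (n : ℕ) : IsNoetherian A (W t n) :=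
  isNoetherian_span_of_finite A (Set.finite_singleton _)

lemma algebraMap_mem_W (n : ℕ) (a : A) : algebraMap A (Localization.Away t) a ∈ W t n :=
  (mem_W t).mpr ⟨t ^ n * a, by rw [map_mul, map_pow]⟩

end Away

section Family

variable {A : Type u} [CommRing A] (t : A) {r : ℕ} (q : Fin r → Ideal A)
  [hq : ∀ i, (q i).IsPrime]
  (B : Fin r → Type u) [∀ i, CommRing (B i)] [∀ i, Algebra (Localization.AtPrime (q i)) (B i)]

/-- `x ∈ A_t` lands in `B_i ⊆ (B_i)_t`. -/
def InB (i : Fin r) (x : Localization.Away t) : Prop :=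
  rho t (q i) (B i) x ∈ (bet t (q i) (B i)).range

lemma inB_algebraMap (i : Fin r) (a : A) :
    InB t q B i (algebraMap A (Localization.Away t) a) :=
  ⟨kap (q i) (B i) a, (rho_algebraMap t (q i) (B i) a).symm⟩

lemma inB_zero (i : Fin r) : InB t q B i 0 := by
  unfold InB; rw [map_zero]; exact zero_mem _

lemma inB_add {i : Fin r} {x y : Localization.Away t} (hx : InB t q B i x)
    (hy : InB t q B i y) : InB t q B i (x + y) := by
  unfold InB at *; rw [map_add]; exact add_mem hx hy

lemma inB_mul {i : Fin r} {x y : Localization.Away t} (hx : InB t q B i x)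
    (hy : InB t q B i y) : InB t q B i (x * y) := by
  unfold InB at *; rw [map_mul]; exact mul_mem hx hy

/-- The lattice `M n`. -/
noncomputable def M (n : ℕ) : Submodule A (Localization.Away t) where
  carrier := {x | x ∈ W t n ∧ ∀ i, InB t q B i x}
  add_mem' := fun {x y} hx hy =>
    ⟨add_mem hx.1 hy.1, fun i => inB_add t q B (hx.2 i) (hy.2 i)⟩
  zero_mem' := ⟨zero_mem _, fun i => inB_zero t q B i⟩
  smul_mem' := fun a x hx => ⟨Submodule.smul_mem _ a hx.1, fun i => by
    rw [Algebra.smul_def]; exact inB_mul t q B (inB_algebraMap t q B i a) (hx.2 i)⟩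

lemma mem_M {n : ℕ} {x : Localization.Away t} :
    x ∈ M t q B n ↔ x ∈ W t n ∧ ∀ i, InB t q B i x := Iff.rfl

lemma M_le_W (n : ℕ) : M t q B n ≤ W t n := fun _ hx => hx.1

lemma mul_mem_M2 {n : ℕ} {x y : Localization.Away t} (hx : x ∈ M t q B n)
    (hy : y ∈ M t q B n) : x * y ∈ M t q B (2 * n) := by
  refine ⟨?_, fun i => inB_mul t q B (hx.2 i) (hy.2 i)⟩
  obtain ⟨a1, h1⟩ := (mem_W t).mp hx.1
  obtain ⟨a2, h2⟩ := (mem_W t).mp hy.1
  refine (mem_W t).mpr ⟨a1 * a2, ?_⟩
  rw [map_mul, ← h1, ← h2]
  ring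

variable (n : ℕ)

/-- The colon ideal `(M n : M 2n)`. -/
def bb : Ideal A where
  carrier := {a | ∀ y ∈ M t q B (2 * n), algebraMap A (Localization.Away t) a * y ∈ M t q B n}
  add_mem' := fun {a b} ha hb y hy => by
    rw [map_add, add_mul]; exact add_mem (ha y hy) (hb y hy)
  zero_mem' := fun y _ => by rw [map_zero, zero_mul]; exact zero_mem _
  smul_mem' := fun c a ha y hy => by
    rw [smul_eq_mul, map_mul, mul_assoc, ← Algebra.smul_def]
    exact Submodule.smul_mem _ _ (ha y hy)

lemma mem_bb {a : A} : a ∈ bb t q B n ↔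
    ∀ y ∈ M t q B (2 * n), algebraMap A (Localization.Away t) a * y ∈ M t q B n := Iff.rfl

lemma pow_mem_bb : t ^ n ∈ bb t q B n := by
  rw [mem_bb]
  intro y hy
  refine ⟨?_, fun j => inB_mul t q B (inB_algebraMap t q B j _) (hy.2 j)⟩
  obtain ⟨a, ha⟩ := (mem_W t).mp hy.1
  refine (mem_W t).mpr ⟨a, ?_⟩
  rw [map_pow, ← ha]
  ring

section Hyp

variable
  (hinj : ∀ i, Function.Injective (algebraMap (Localization.AtPrime (q i)) (B i)))
  (hreg : ∀ i, IsSMulRegular (B i) (algebraMap A (Localization.AtPrime (q i)) t))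
  (hn : ∀ i, ∀ b : B i, ((algebraMap A (Localization.AtPrime (q i)) t) ^ n) • b ∈
    (algebraMap (Localization.AtPrime (q i)) (B i)).range)

include hn in
lemma exists_kap_eq (i : Fin r) (b : B i) : ∃ a : A, ∃ s ∈ (q i).primeCompl,
    kap (q i) (B i) a = tB t (q i) (B i) ^ n * b * kap (q i) (B i) s := by
  obtain ⟨α, hα⟩ := hn i b
  obtain ⟨⟨a, s⟩, rfl⟩ := IsLocalization.mk'_surjective (q i).primeCompl α
  refine ⟨a, s.1, s.2, ?_⟩
  have h1 : algebraMap A (Localization.AtPrime (q i)) a =
      IsLocalization.mk' (Localization.AtPrime (q i)) a s *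
        algebraMap A (Localization.AtPrime (q i)) s.1 :=
    (IsLocalization.mk'_spec _ a s).symm
  rw [kap_apply, h1, map_mul, hα, Algebra.smul_def, map_pow]
  rfl

include hinj hreg hn in
lemma exists_smul_mem_W (i : Fin r) (y : Localization.Away t) (hy : InB t q B i y) :
    ∃ s ∈ (q i).primeCompl, algebraMap A (Localization.Away t) s * y ∈ W t n := by
  obtain ⟨b, hb⟩ := hy
  obtain ⟨a, s1, hs1, h2⟩ := exists_kap_eq t q B n hn i b
  have h3 : rho t (q i) (B i) (algebraMap A _ t ^ n * y * algebraMap A _ s1 - algebraMap A _ a)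
      = 0 := by
    rw [map_sub, map_mul, map_mul, map_pow, rho_algebraMap, rho_algebraMap, rho_algebraMap, h2,
      ← hb]
    simp only [map_mul, map_pow]
    exact sub_self _
  obtain ⟨s2, hs2, h4⟩ := rho_eq_zero t (q i) (B i) (hinj i) (hreg i) _ h3
  refine ⟨s1 * s2, mul_mem hs1 hs2, (mem_W t).mpr ⟨s2 * a, ?_⟩⟩
  rw [map_mul, map_mul]
  linear_combination h4

include hinj hreg hn in
lemma exists_smul_mem_M (i : Fin r) (y : Localization.Away t) (hy : y ∈ M t q B (2 * n)) :
    ∃ s ∈ (q i).primeCompl, algebraMap A (Localization.Away t) s * y ∈ M t q B n := by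
  obtain ⟨s, hs, h⟩ := exists_smul_mem_W t q B n hinj hreg hn i y (hy.2 i)
  exact ⟨s, hs, h, fun j => inB_mul t q B (inB_algebraMap t q B j s) (hy.2 j)⟩

include hinj hreg hn in
lemma exists_smul_M2_le [IsNoetherianRing A] (i : Fin r) : ∃ s ∈ (q i).primeCompl,
    ∀ y ∈ M t q B (2 * n), algebraMap A (Localization.Away t) s * y ∈ M t q B n := by
  classical
  have hfg : (M t q B (2 * n)).FG :=
    (isNoetherian_submodule.mp (inferInstance : IsNoetherian A (W t (2 * n)))) _
      (M_le_W t q B (2 * n))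
  obtain ⟨S, hS⟩ := hfg
  have key := exists_smul_mem_M t q B n hinj hreg hn i
  choose! f hf1 hf2 using key
  have hSM : ∀ y ∈ S, y ∈ M t q B (2 * n) := fun y hy => hS ▸ Submodule.subset_span hy
  refine ⟨∏ y ∈ S, f y, Submonoid.prod_mem _ (fun y hy => hf1 y (hSM y hy)), ?_⟩
  intro y hy
  rw [← hS] at hy
  induction hy using Submodule.span_induction with
  | mem x h =>
    rw [← Finset.mul_prod_erase S f (Finset.mem_coe.mp h), map_mul,
      mul_comm (algebraMap A _ (f x)), mul_assoc, ← Algebra.smul_def]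
    exact Submodule.smul_mem _ _ (hf2 x (hSM x (Finset.mem_coe.mp h)))
  | zero => rw [mul_zero]; exact zero_mem _
  | add x y _ _ hx hy => rw [mul_add]; exact add_mem hx hy
  | smul a x _ hx => rw [mul_smul_comm]; exact Submodule.smul_mem _ _ hx

include hinj hreg hn in
lemma exists_pow_le_bb [IsNoetherianRing A] [IsLocalRing A]
    (hV : ∀ J : Ideal A, J.IsPrime → t ∈ J →
      J = IsLocalRing.maximalIdeal A ∨ ∃ i, J = q i) :
    ∃ c : ℕ, IsLocalRing.maximalIdeal A ^ c ≤ bb t q B n := by
  apply Ideal.exists_pow_le_of_le_radical_of_fg _ (IsNoetherian.noetherian _)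
  rw [Ideal.radical_eq_sInf]
  refine le_sInf ?_
  rintro J ⟨hJ, hJp⟩
  have htJ : t ∈ J := hJp.mem_of_pow_mem n (hJ (pow_mem_bb t q B n))
  rcases hV J hJp htJ with h | ⟨i, h⟩
  · exact h.ge
  · exfalso
    obtain ⟨s, hs, hs'⟩ := exists_smul_M2_le t q B n hinj hreg hn i
    have : s ∈ q i := by
      rw [← h]; exact hJ ((mem_bb t q B n).mpr hs')
    exact (Ideal.mem_primeCompl_iff.mp hs) this

variable (mm : Ideal A)

/-- The underlying submodule `A + 𝔪 M n` of the glued algebra. -/
noncomputable def Csm : Submodule A (Localization.Away t) :=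
  LinearMap.range (Algebra.linearMap A (Localization.Away t)) ⊔ mm • M t q B n

lemma N0_le_M : mm • M t q B n ≤ M t q B n := Submodule.smul_le_right

lemma N0_mul (hc : mm ≤ bb t q B n) {u u' : Localization.Away t}
    (hu : u ∈ mm • M t q B n) (hu' : u' ∈ mm • M t q B n) : u * u' ∈ mm • M t q B n := by
  refine Submodule.smul_induction_on hu ?_ ?_
  · intro c1 hc1 y1 hy1
    refine Submodule.smul_induction_on hu' ?_ ?_
    · intro c2 hc2 y2 hy2
      have e : (c1 • y1) * (c2 • y2) = c1 • (algebraMap A (Localization.Away t) c2 * (y1 * y2)) := by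
        simp only [Algebra.smul_def]; ring
      rw [e]
      exact Submodule.smul_mem_smul hc1 ((mem_bb t q B n).mp (hc hc2) _ (mul_mem_M2 t q B hy1 hy2))
    · intro x y hx hy
      rw [mul_add]; exact add_mem hx hy
  · intro x y hx hy
    rw [add_mul]; exact add_mem hx hy

lemma Csm_one : (1 : Localization.Away t) ∈ Csm t q B n mm :=
  Submodule.mem_sup_left ⟨1, by simp⟩

lemma Csm_mul (hc : mm ≤ bb t q B n) {x y : Localization.Away t}
    (hx : x ∈ Csm t q B n mm) (hy : y ∈ Csm t q B n mm) : x * y ∈ Csm t q B n mm := by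
  obtain ⟨x1, ⟨a, rfl⟩, u, hu, rfl⟩ := Submodule.mem_sup.mp hx
  obtain ⟨y1, ⟨a', rfl⟩, u', hu', rfl⟩ := Submodule.mem_sup.mp hy
  have e : (Algebra.linearMap A (Localization.Away t) a + u) *
      (Algebra.linearMap A (Localization.Away t) a' + u') =
      Algebra.linearMap A (Localization.Away t) (a * a') + (a • u' + a' • u + u * u') := by
    simp only [Algebra.linearMap_apply, Algebra.smul_def, map_mul]; ring
  rw [e]
  exact Submodule.add_mem_sup ⟨a * a', rfl⟩
    (add_mem (add_mem (Submodule.smul_mem _ _ hu') (Submodule.smul_mem _ _ hu))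
      (N0_mul t q B n mm hc hu hu'))

/-- The glued algebra as a subalgebra of `A_t`. -/
noncomputable def Csub (hc : mm ≤ bb t q B n) : Subalgebra A (Localization.Away t) :=
  Submodule.toSubalgebra (Csm t q B n mm) (Csm_one t q B n mm)
    (fun _ _ hx hy => Csm_mul t q B n mm hc hx hy)

lemma mem_Csub (hc : mm ≤ bb t q B n) {x : Localization.Away t} :
    x ∈ Csub t q B n mm hc ↔ x ∈ Csm t q B n mm := Submodule.mem_toSubalgebra

lemma Csm_le_W : Csm t q B n mm ≤ W t n :=
  sup_le (by rintro _ ⟨a, rfl⟩; exact algebraMap_mem_W t n a)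
    ((N0_le_M t q B n mm).trans (M_le_W t q B n))

lemma Csm_inB (i : Fin r) {x : Localization.Away t} (hx : x ∈ Csm t q B n mm) :
    InB t q B i x := by
  obtain ⟨x1, ⟨a, rfl⟩, u, hu, rfl⟩ := Submodule.mem_sup.mp hx
  exact inB_add t q B (inB_algebraMap t q B i a) ((N0_le_M t q B n mm hu).2 i)

lemma Csub_injective (htnz : t ∈ nonZeroDivisors A) (hc : mm ≤ bb t q B n) :
    Function.Injective (algebraMap A (Csub t q B n mm hc)) := by
  intro a b h
  have h' : algebraMap A (Localization.Away t) a = algebraMap A (Localization.Away t) b :=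
    congrArg Subtype.val h
  exact IsLocalization.injective (Localization.Away t) (Submonoid.powers_le.mpr htnz) h'

lemma Csub_finite [IsNoetherianRing A] (hc : mm ≤ bb t q B n) :
    Module.Finite A (Csub t q B n mm hc) := by
  have h2 : Subalgebra.toSubmodule (Csub t q B n mm hc) = Csm t q B n mm :=
    Submodule.toSubalgebra_toSubmodule _ _ _
  have h3 : (Subalgebra.toSubmodule (Csub t q B n mm hc)).FG := by
    rw [h2]
    exact (isNoetherian_submodule.mp (inferInstance : IsNoetherian A (W t n))) _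
      (Csm_le_W t q B n mm)
  exact Module.Finite.iff_fg.mpr h3

lemma Csub_smul_mem (hc : mm ≤ bb t q B n) :
    ∀ rr ∈ (Ideal.span {t}) ^ n, ∀ b : Csub t q B n mm hc,
      rr • b ∈ (algebraMap A (Csub t q B n mm hc)).range := by
  intro rr hrr b
  rw [Ideal.span_singleton_pow, Ideal.mem_span_singleton'] at hrr
  obtain ⟨a', rfl⟩ := hrr
  obtain ⟨a, ha⟩ := (mem_W t).mp (Csm_le_W t q B n mm ((mem_Csub t q B n mm hc).mp b.2))
  refine ⟨a' * a, Subtype.ext ?_⟩
  show algebraMap A (Localization.Away t) (a' * a) = (a' * t ^ n) • (b : Localization.Away t)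
  rw [Algebra.smul_def, map_mul, map_mul, map_pow, mul_assoc, ha]

include hn in
lemma exists_rho_eq
    (hav1 : ∀ i, ∃ s ∈ (q i).primeCompl, s ∈ mm)
    (hav2 : ∀ i, ∃ s ∈ (q i).primeCompl, ∀ j, j ≠ i → ∀ x ∈ W t n,
      InB t q B j (algebraMap A (Localization.Away t) s * x))
    (i : Fin r) (b : B i) :
    ∃ s ∈ (q i).primeCompl, ∃ x ∈ mm • M t q B n,
      rho t (q i) (B i) x = bet t (q i) (B i) (kap (q i) (B i) s * b) := by
  obtain ⟨a, s1, hs1, h2⟩ := exists_kap_eq t q B n hn i b
  obtain ⟨s2, hs2, hs2m⟩ := hav1 i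
  obtain ⟨s3, hs3, hs3'⟩ := hav2 i
  have hx0W : algebraMap A (Localization.Away t) a * invt t ^ n ∈ W t n := by
    rw [← Algebra.smul_def]; exact Submodule.smul_mem _ _ (Submodule.subset_span rfl)
  have hρt' := bet_tB_pow_mul_rho_invt_pow t (q i) (B i) n
  have hρx0 : rho t (q i) (B i) (algebraMap A (Localization.Away t) a * invt t ^ n) =
      bet t (q i) (B i) (kap (q i) (B i) s1 * b) := by
    rw [map_mul, map_pow, rho_algebraMap, h2]
    simp only [map_mul, map_pow]
    linear_combination (bet t (q i) (B i) b * bet t (q i) (B i) (kap (q i) (B i) s1)) * hρt'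
  have hx1 : algebraMap A (Localization.Away t) s3 *
      (algebraMap A (Localization.Away t) a * invt t ^ n) ∈ M t q B n := by
    refine ⟨?_, fun j => ?_⟩
    · rw [← Algebra.smul_def]; exact Submodule.smul_mem _ _ hx0W
    · by_cases hj : j = i
      · subst hj
        exact ⟨kap (q j) (B j) s3 * (kap (q j) (B j) s1 * b), by
          rw [map_mul (rho t (q j) (B j)), rho_algebraMap, hρx0, map_mul]⟩
      · exact hs3' j hj _ hx0W
  refine ⟨s2 * s3 * s1, mul_mem (mul_mem hs2 hs3) hs1,
    algebraMap A (Localization.Away t) s2 * (algebraMap A (Localization.Away t) s3 *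
      (algebraMap A (Localization.Away t) a * invt t ^ n)), ?_, ?_⟩
  · rw [← Algebra.smul_def]; exact Submodule.smul_mem_smul hs2m hx1
  · rw [map_mul (rho t (q i) (B i)), map_mul (rho t (q i) (B i)), rho_algebraMap, rho_algebraMap,
      hρx0]
    simp only [map_mul]
    ring

include hinj hreg hn in
/-- Main gluing statement. -/
theorem exists_glue [IsNoetherianRing A] (htnz : t ∈ nonZeroDivisors A)
    (hc : mm ≤ bb t q B n)
    (hav1 : ∀ i, ∃ s ∈ (q i).primeCompl, s ∈ mm)
    (hav2 : ∀ i, ∃ s ∈ (q i).primeCompl, ∀ j, j ≠ i → ∀ x ∈ W t n,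
      InB t q B j (algebraMap A (Localization.Away t) s * x)) :
    Function.Injective (algebraMap A (Csub t q B n mm hc)) ∧
    Module.Finite A (Csub t q B n mm hc) ∧
    (∀ rr ∈ (Ideal.span {t}) ^ n, ∀ b : Csub t q B n mm hc,
      rr • b ∈ (algebraMap A (Csub t q B n mm hc)).range) ∧
    ∀ i, Nonempty (Localization.AtPrime (q i) ⊗[A] (Csub t q B n mm hc)
      ≃ₐ[Localization.AtPrime (q i)] B i) := by
  refine ⟨Csub_injective t q B n mm htnz hc, Csub_finite t q B n mm hc,
    Csub_smul_mem t q B n mm hc, fun i => ?_⟩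
  have hβ := bet_injective t (q i) (B i) (hreg i)
  obtain ⟨σ, hσ⟩ := exists_factor (bet t (q i) (B i)) hβ
    ((rho t (q i) (B i)).comp (Csub t q B n mm hc).val.toRingHom)
    (fun x => Csm_inB t q B n mm i ((mem_Csub t q B n mm hc).mp x.2))
  have hσ' : ∀ x : Csub t q B n mm hc,
      bet t (q i) (B i) (σ x) = rho t (q i) (B i) (x : Localization.Away t) := hσ
  refine nonempty_algEquiv_of_loc (q i) (B i) (Csub t q B n mm hc) σ ?_ ?_ ?_
  · intro a
    apply hβ
    rw [hσ']
    exact rho_algebraMap t (q i) (B i) a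
  · intro b
    obtain ⟨s, hs, x, hx, hρ⟩ := exists_rho_eq t q B n hn mm hav1 hav2 i b
    refine ⟨s, hs, ⟨x, (mem_Csub t q B n mm hc).mpr (Submodule.mem_sup_right hx)⟩, ?_⟩
    apply hβ
    rw [hσ']
    exact hρ
  · intro x hx
    have h0 : rho t (q i) (B i) (x : Localization.Away t) = 0 := by
      rw [← hσ', hx, map_zero]
    obtain ⟨s, hs, hs0⟩ := rho_eq_zero t (q i) (B i) (hinj i) (hreg i) _ h0
    refine ⟨s, hs, Subtype.ext ?_⟩
    show s • (x : Localization.Away t) = 0
    rw [Algebra.smul_def]; exact hs0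

end Hyp

section Avoid

variable [IsNoetherianRing A]

include hq in
lemma dim_lemma [IsLocalRing A] (hA : ringKrullDim A = 2) (htnz : t ∈ nonZeroDivisors A)
    (hqm : ∀ i, q i ≠ IsLocalRing.maximalIdeal A)
    (hV : ∀ J : Ideal A, J.IsPrime → t ∈ J →
      J = IsLocalRing.maximalIdeal A ∨ ∃ i, J = q i)
    (P : Ideal A) [hP : P.IsPrime] (htP : t ∈ P) (j : Fin r) (hPj : P ≤ q j) : P = q j := by
  rcases hV P hP htP with h | ⟨l, h⟩
  · exfalso
    apply hqm j
    exact ((IsLocalRing.maximalIdeal.isMaximal A).eq_of_le (hq j).ne_top (h ▸ hPj)).symm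
  · by_contra hne
    have hlj : q l ≤ q j := h ▸ hPj
    have hlt : q l < q j := lt_of_le_of_ne hlj (fun e => hne (h.trans e))
    have htl : t ∈ q l := h ▸ htP
    obtain ⟨p0, hp0, hp0l⟩ := Ideal.exists_minimalPrimes_le (I := ⊥) (J := q l) bot_le
    haveI : p0.IsPrime := hp0.1.1
    have htp0 : t ∉ p0 := fun h' =>
      Set.disjoint_left.mp (Ideal.disjoint_nonZeroDivisors_of_mem_minimalPrimes hp0) h' htnz
    have hlt0 : p0 < q l := lt_of_le_of_ne hp0l (fun e => htp0 (e ▸ htl))
    have hltm : q j < IsLocalRing.maximalIdeal A :=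
      lt_of_le_of_ne (IsLocalRing.le_maximalIdeal (hq j).ne_top) (hqm j)
    have e1 := Ideal.height_strict_mono_of_isPrime_of_isPrime hlt0
    have e2 := Ideal.height_strict_mono_of_isPrime_of_isPrime hlt
    have e3 := Ideal.height_strict_mono_of_isPrime_of_isPrime hltm
    have e4 : ((IsLocalRing.maximalIdeal A).height : WithBot ℕ∞) ≤ 2 :=
      hA ▸ Ideal.height_le_ringKrullDim_of_ne_top (Ideal.IsPrime.ne_top')
    have g1 : (1 : ℕ∞) ≤ (q l).height :=
      le_trans le_add_self (Order.add_one_le_of_lt e1)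
    have g2 : (2 : ℕ∞) ≤ (q j).height := by
      have := le_trans (add_le_add g1 (le_refl 1)) (Order.add_one_le_of_lt e2)
      rwa [one_add_one_eq_two] at this
    have g3 : (3 : ℕ∞) ≤ (IsLocalRing.maximalIdeal A).height := by
      have := le_trans (add_le_add g2 (le_refl 1)) (Order.add_one_le_of_lt e3)
      have e23 : (2 : ℕ∞) + 1 = 3 := by norm_num
      rwa [e23] at this
    have g4 : (IsLocalRing.maximalIdeal A).height ≤ 2 := WithBot.coe_le_coe.mp e4
    exact absurd (g3.trans g4) (by norm_num)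

lemma exists_avoid_one
    (hdim : ∀ (P : Ideal A) [P.IsPrime], t ∈ P → ∀ j, P ≤ q j → P = q j)
    (htq : ∀ i, t ∈ q i) (hqinj : Function.Injective q) (i j : Fin r) (hji : j ≠ i) :
    ∃ e ∈ (q i).primeCompl, ∀ x ∈ W t n,
      InB t q B j (algebraMap A (Localization.Away t) e * x) := by
  haveI : IsNoetherianRing (Localization.AtPrime (q j)) :=
    IsLocalization.isNoetherianRing (q j).primeCompl _ inferInstance
  set tA : Localization.AtPrime (q j) := algebraMap A (Localization.AtPrime (q j)) t with htA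
  -- Claim 1
  have claim1 : ∀ e : A, algebraMap A (Localization.AtPrime (q j)) e ∈ (Ideal.span {tA}) ^ n →
      ∀ x ∈ W t n, InB t q B j (algebraMap A (Localization.Away t) e * x) := by
    intro e he x hx
    rw [Ideal.span_singleton_pow, Ideal.mem_span_singleton'] at he
    obtain ⟨α, hα⟩ := he
    obtain ⟨a, rfl⟩ := Submodule.mem_span_singleton.mp hx
    refine ⟨algebraMap (Localization.AtPrime (q j)) (B j) α * kap (q j) (B j) a, ?_⟩
    have hke : kap (q j) (B j) e =
        algebraMap (Localization.AtPrime (q j)) (B j) α * tB t (q j) (B j) ^ n := by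
      rw [kap_apply, ← hα, map_mul, map_pow]
      rfl
    have hρt' := bet_tB_pow_mul_rho_invt_pow t (q j) (B j) n
    rw [Algebra.smul_def, map_mul (rho t (q j) (B j)), map_mul (rho t (q j) (B j)), map_pow,
      rho_algebraMap, rho_algebraMap, hke]
    simp only [map_mul, map_pow]
    linear_combination (-(bet t (q j) (B j) (algebraMap (Localization.AtPrime (q j)) (B j) α) *
      bet t (q j) (B j) (kap (q j) (B j) a))) * hρt'
  -- Claim 2
  have claim2 : ∃ e : A, algebraMap A (Localization.AtPrime (q j)) e ∈ (Ideal.span {tA}) ^ n ∧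
      e ∉ q i := by
    by_contra H
    push Not at H
    have hrad : IsLocalRing.maximalIdeal (Localization.AtPrime (q j)) ≤
        ((Ideal.span {tA}) ^ n).radical := by
      rw [Ideal.radical_eq_sInf]
      refine le_sInf ?_
      rintro P ⟨hP, hPp⟩
      have htP : tA ∈ P := hPp.mem_of_pow_mem n
        (hP (Ideal.pow_mem_pow (Ideal.mem_span_singleton_self _) n))
      haveI := hPp
      have hp : P.comap (algebraMap A (Localization.AtPrime (q j))) = q j :=
        hdim _ (show t ∈ P.comap _ from htP) j (fun x hx =>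
          (IsLocalization.AtPrime.to_map_mem_maximal_iff (Localization.AtPrime (q j)) (q j) x).mp
            (IsLocalRing.le_maximalIdeal hPp.ne_top hx))
      have e1 : IsLocalRing.maximalIdeal (Localization.AtPrime (q j)) = P := by
        rw [← Localization.AtPrime.map_eq_maximalIdeal]
        have h5 := IsLocalization.map_under (q j).primeCompl (Localization.AtPrime (q j)) P
        rw [show P.under A = q j from hp] at h5
        exact h5
      exact e1.le
    obtain ⟨k, hk⟩ := Ideal.exists_pow_le_of_le_radical_of_fg hrad (IsNoetherian.noetherian _)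
    have h1 : (q j) ^ k ≤ q i := by
      intro x hx
      apply H x
      apply hk
      have : algebraMap A (Localization.AtPrime (q j)) x ∈
          Ideal.map (algebraMap A (Localization.AtPrime (q j))) ((q j) ^ k) :=
        Ideal.mem_map_of_mem _ hx
      rwa [Ideal.map_pow, Localization.AtPrime.map_eq_maximalIdeal] at this
    have h2 : q j ≤ q i := Ideal.IsPrime.le_of_pow_le h1
    exact hji (hqinj (hdim (q j) (htq j) i h2))
  obtain ⟨e, he1, he2⟩ := claim2
  exact ⟨e, he2, claim1 e he1⟩

lemma exists_avoid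
    (hdim : ∀ (P : Ideal A) [P.IsPrime], t ∈ P → ∀ j, P ≤ q j → P = q j)
    (htq : ∀ i, t ∈ q i) (hqinj : Function.Injective q) (i : Fin r) :
    ∃ s ∈ (q i).primeCompl, ∀ j, j ≠ i → ∀ x ∈ W t n,
      InB t q B j (algebraMap A (Localization.Away t) s * x) := by
  classical
  have key : ∀ j, ∃ e ∈ (q i).primeCompl, j ≠ i → ∀ x ∈ W t n,
      InB t q B j (algebraMap A (Localization.Away t) e * x) := by
    intro j
    by_cases hj : j = i
    · exact ⟨1, (q i).primeCompl.one_mem, fun h => absurd hj h⟩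
    · obtain ⟨e, he, h⟩ := exists_avoid_one t q B n hdim htq hqinj i j hj
      exact ⟨e, he, fun _ => h⟩
  choose e he1 he2 using key
  refine ⟨∏ j, e j, Submonoid.prod_mem _ (fun j _ => he1 j), ?_⟩
  intro j hj x hx
  rw [← Finset.mul_prod_erase Finset.univ e (Finset.mem_univ j), map_mul,
    mul_comm (algebraMap A _ (e j)), mul_assoc]
  exact inB_mul t q B (inB_algebraMap t q B j _) (he2 j hj x hx)

end Avoid

end Family

end Groth.Agent.Lib.Helper64.GlueH1
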