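import Mathlib

/-!
# Graded modules: component maps and homogeneous submodules (helper library for S9662)
-/

set_option autoImplicit false
universe u

namespace Groth.Agent.Lib.Helper64.GrHilb

open DirectSum

variable {A S : Type*} [CommRing A] [CommRing S] [Algebra A S]
  (𝒜 : ℕ → Submodule A S) [GradedAlgebra 𝒜]
  {M : Type*} [AddCommGroup M] [Module A M] [Module S M] [IsScalarTower A S M]
  (ℳ : ℕ → Submodule A M) [DirectSum.Decomposition ℳ] [SetLike.GradedSMul 𝒜 ℳ]

/-- The `n`-th component map. -/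
noncomputable def pr (n : ℕ) : M →ₗ[A] M :=
  (ℳ n).subtype ∘ₗ (DirectSum.component A ℕ (fun i => ℳ i) n) ∘ₗ
    (DirectSum.decomposeLinearEquiv ℳ).toLinearMap

theorem pr_apply (n : ℕ) (m : M) : pr ℳ n m = (DirectSum.decompose ℳ m n : M) := rfl

theorem pr_mem (n : ℕ) (m : M) : pr ℳ n m ∈ ℳ n := by
  rw [pr_apply]; exact Subtype.property _

theorem pr_of_mem_same {n : ℕ} {m : M} (hm : m ∈ ℳ n) : pr ℳ n m = m := by
  rw [pr_apply, DirectSum.decompose_of_mem_same ℳ hm]

theorem pr_of_mem_ne {k n : ℕ} {m : M} (hm : m ∈ ℳ k) (h : k ≠ n) : pr ℳ n m = 0 := by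
  rw [pr_apply, DirectSum.decompose_of_mem_ne ℳ hm h]

open scoped Classical in
theorem sum_pr (m : M) : ∑ i ∈ (DirectSum.decompose ℳ m).support, pr ℳ i m = m :=
  DirectSum.sum_support_decompose ℳ m

/-- Component of `s • m` for homogeneous `s` of degree `k`. -/
theorem pr_smul_add {k : ℕ} {s : S} (hs : s ∈ 𝒜 k) (m : M) (n : ℕ) :
    pr ℳ (k + n) (s • m) = s • pr ℳ n m := by
  classical
  conv_lhs => rw [← sum_pr ℳ m, Finset.smul_sum, map_sum]
  have hmem : ∀ i, s • pr ℳ i m ∈ ℳ (k + i) := fun i =>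
    SetLike.GradedSMul.smul_mem hs (pr_mem ℳ i m)
  by_cases hn : n ∈ (DirectSum.decompose ℳ m).support
  · rw [Finset.sum_eq_single n]
    · exact pr_of_mem_same ℳ (hmem n)
    · intro i _ hi
      exact pr_of_mem_ne ℳ (hmem i) (by omega)
    · intro h; exact absurd hn h
  · rw [Finset.sum_eq_zero]
    · have : pr ℳ n m = 0 := by
        rw [pr_apply]
        have := DFinsupp.notMem_support_iff.mp hn
        rw [this]; rfl
      rw [this, smul_zero]
    · intro i hi
      refine pr_of_mem_ne ℳ (hmem i) ?_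
      intro h
      have : i = n := by omega
      exact hn (this ▸ hi)

theorem pr_smul_lt {k : ℕ} {s : S} (hs : s ∈ 𝒜 k) (m : M) {j : ℕ} (hj : j < k) :
    pr ℳ j (s • m) = 0 := by
  classical
  conv_lhs => rw [← sum_pr ℳ m, Finset.smul_sum, map_sum]
  refine Finset.sum_eq_zero fun i _ => ?_
  have hmem : s • pr ℳ i m ∈ ℳ (k + i) := SetLike.GradedSMul.smul_mem hs (pr_mem ℳ i m)
  exact pr_of_mem_ne ℳ hmem (by omega)

/-- A homogeneous `S`-submodule: closed under taking components. -/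
def IsHomog (P : Submodule S M) : Prop := ∀ m ∈ P, ∀ n, pr ℳ n m ∈ P

omit [Algebra A S] [IsScalarTower A S M] in
theorem isHomog_bot : IsHomog ℳ (⊥ : Submodule S M) := by
  intro m hm n
  rw [Submodule.mem_bot] at hm ⊢
  rw [hm, map_zero]

omit [Algebra A S] [IsScalarTower A S M] in
theorem isHomog_top : IsHomog ℳ (⊤ : Submodule S M) := fun _ _ _ => Submodule.mem_top

end Groth.Agent.Lib.Helper64.GrHilb
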