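import Mathlib
import Groth.Agent.S3194

/-!
# Classes of subquotients in `K'₀(A)` (helper library for S9662)
-/

set_option autoImplicit false
universe u

namespace Groth.Agent.Lib.Helper64.GrHilb

open Groth.Agent.S3194

variable {A : Type u} [CommRing A] {M : Type u} [AddCommGroup M] [Module A M]

/-- The subquotient `W / (W ∩ W')`. -/
abbrev sq (W' W : Submodule A M) : Type u := ↥W ⧸ W'.comap W.subtype

/-- The class of the subquotient `W / (W ∩ W')` in `K'₀(A)`. -/
noncomputable def csq (W' W : Submodule A M) : KZero.K0sub (P A) :=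
  KZero.clSub (P A) (ModuleCat.of A (sq W' W))

theorem csq_eq_zero {W' W : Submodule A M} (h : W ≤ W') : csq W' W = 0 := by
  have : Subsingleton (sq W' W) := by
    apply Submodule.Quotient.subsingleton_iff.mpr
    rw [eq_top_iff]
    intro w _
    exact h w.2
  exact cl_zero _

theorem csq_add {W'' W' W : Submodule A M} (h1 : W'' ≤ W') (h2 : W' ≤ W)
    [IsNoetherian A ↥W] : csq W'' W = csq W'' W' + csq W' W := by
  have : IsNoetherian A ↥W' := isNoetherian_of_le h2
  let f : sq W'' W' →ₗ[A] sq W'' W :=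
    Submodule.mapQ _ _ (Submodule.inclusion h2) (by
      intro w hw
      exact hw)
  let g : sq W'' W →ₗ[A] sq W' W :=
    Submodule.mapQ _ _ LinearMap.id (by
      intro w hw
      exact h1 hw)
  refine rel f g ?_ ?_ ?_
  · intro y
    obtain ⟨w, rfl⟩ := Submodule.Quotient.mk_surjective _ y
    constructor
    · intro hy
      have hw : (w : M) ∈ W' := by
        have := (Submodule.Quotient.mk_eq_zero _).mp hy
        exact this
      exact ⟨Submodule.Quotient.mk ⟨w, hw⟩, rfl⟩
    · rintro ⟨z, hz⟩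
      obtain ⟨w', rfl⟩ := Submodule.Quotient.mk_surjective _ z
      rw [← hz]
      show Submodule.Quotient.mk _ = 0
      rw [Submodule.Quotient.mk_eq_zero]
      exact w'.2
  · rw [← LinearMap.ker_eq_bot, LinearMap.ker_eq_bot']
    intro z hz
    obtain ⟨w', rfl⟩ := Submodule.Quotient.mk_surjective _ z
    have := (Submodule.Quotient.mk_eq_zero _).mp hz
    exact (Submodule.Quotient.mk_eq_zero _).mpr this
  · intro y
    obtain ⟨w, rfl⟩ := Submodule.Quotient.mk_surjective _ y
    exact ⟨Submodule.Quotient.mk w, rfl⟩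

theorem csq_congr_left {W₁' W₂' : Submodule A M} (h : W₁' = W₂') (W : Submodule A M) :
    csq W₁' W = csq W₂' W := by rw [h]

/-- First isomorphism theorem for subquotients. -/
theorem csq_map (φ : M →ₗ[A] M) (W V' : Submodule A M) [IsNoetherian A ↥W] :
    csq (W ⊓ V'.comap φ) W = csq V' (W.map φ ⊔ V') := by
  let ψ : ↥W →ₗ[A] sq V' (W.map φ ⊔ V') :=
    (Submodule.mkQ _) ∘ₗ (LinearMap.codRestrict (W.map φ ⊔ V') (φ ∘ₗ W.subtype) (fun w =>
      (le_sup_left : W.map φ ≤ W.map φ ⊔ V') ⟨w, w.2, rfl⟩))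
  have hψ : Function.Surjective ψ := by
    intro y
    obtain ⟨⟨z, hz⟩, rfl⟩ := Submodule.Quotient.mk_surjective _ y
    obtain ⟨u, ⟨w, hw, rfl⟩, v, hv, rfl⟩ := Submodule.mem_sup.mp hz
    refine ⟨⟨w, hw⟩, ?_⟩
    show Submodule.Quotient.mk _ = Submodule.Quotient.mk _
    rw [Submodule.Quotient.eq]
    show (φ w - (φ w + v) : M) ∈ V'
    rw [sub_add_cancel_left]
    exact V'.neg_mem hv
  have hker : LinearMap.ker ψ = (W ⊓ V'.comap φ).comap W.subtype := by
    ext w
    rw [LinearMap.mem_ker]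
    show Submodule.Quotient.mk _ = 0 ↔ _
    rw [Submodule.Quotient.mk_eq_zero]
    show φ w ∈ V' ↔ _
    simp only [Submodule.mem_comap, Submodule.subtype_apply, Submodule.mem_inf, SetLike.coe_mem,
      true_and]
  have : Module.Finite A (sq V' (W.map φ ⊔ V')) := Module.Finite.of_surjective ψ hψ
  have e : sq (W ⊓ V'.comap φ) W ≃ₗ[A] sq V' (W.map φ ⊔ V') :=
    (Submodule.quotEquivOfEq _ _ hker.symm).trans (ψ.quotKerEquivOfSurjective hψ)
  exact cl_iso e

end Groth.Agent.Lib.Helper64.GrHilb
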