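import Mathlib
import Groth.Agent.Lib.Helper64.GrHilbA
import Groth.Agent.Lib.Helper64.GrHilbB
import Groth.Agent.Lib.Helper64.EvPoly

/-!
# K'₀-valued Hilbert polynomial of a graded module (helper library for S9662)
-/

set_option autoImplicit false
set_option linter.unusedSectionVars false
universe u

namespace Groth.Agent.Lib.Helper64.GrHilb

open DirectSum Groth.Agent.Lib.Helper64.EvPoly

variable {A S : Type u} [CommRing A] [CommRing S] [Algebra A S]
  (𝒜 : ℕ → Submodule A S) [GradedAlgebra 𝒜]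
  {M : Type u} [AddCommGroup M] [Module A M] [Module S M] [IsScalarTower A S M]
  (ℳ : ℕ → Submodule A M) [DirectSum.Decomposition ℳ] [SetLike.GradedSMul 𝒜 ℳ]

/-- Degree-`n` piece of an `S`-submodule. -/
def piece (P : Submodule S M) (n : ℕ) : Submodule A M := P.restrictScalars A ⊓ ℳ n

theorem mem_piece {P : Submodule S M} {n : ℕ} {m : M} : m ∈ piece ℳ P n ↔ m ∈ P ∧ m ∈ ℳ n :=
  Iff.rfl

theorem piece_mono {P Q : Submodule S M} (h : P ≤ Q) (n : ℕ) : piece ℳ P n ≤ piece ℳ Q n :=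
  fun _ hm => ⟨h hm.1, hm.2⟩

theorem pr_smul_succ {s : S} (hs : s ∈ 𝒜 1) (m : M) (n : ℕ) :
    pr ℳ (n + 1) (s • m) = s • pr ℳ n m := by
  rw [add_comm]; exact pr_smul_add 𝒜 ℳ hs m n

theorem pr_smul_zero {s : S} (hs : s ∈ 𝒜 1) (m : M) : pr ℳ 0 (s • m) = 0 :=
  pr_smul_lt 𝒜 ℳ hs m Nat.zero_lt_one

/-- To prove a property of `s • y` for all `s`, it suffices to treat homogeneous `s`. -/
theorem smul_induction {C : M → Prop} (h0 : C 0) (hadd : ∀ a b, C a → C b → C (a + b)) (y : M)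
    (h : ∀ k, ∀ s ∈ 𝒜 k, C (s • y)) (s : S) : C (s • y) := by
  classical
  rw [← DirectSum.sum_support_decompose 𝒜 s, Finset.sum_smul]
  refine Finset.sum_induction _ C hadd h0 ?_
  intro k _
  exact h k _ (Subtype.property _)

/-- The predicate used to show that `ℳ n` is a Noetherian `A`-module. -/
theorem noeth_aux (h0 : ∀ s ∈ 𝒜 0, s ∈ Set.range (algebraMap A S)) (n : ℕ) (T : Set M)
    (hT : T ⊆ ℳ n) (y : M) (hy : y ∈ Submodule.span S T) :
    (∀ j, j < n → pr ℳ j y = 0) ∧ pr ℳ n y ∈ Submodule.span A T := by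
  induction hy using Submodule.span_induction with
  | mem t ht =>
    refine ⟨fun j hj => pr_of_mem_ne ℳ (hT ht) (by omega), ?_⟩
    rw [pr_of_mem_same ℳ (hT ht)]
    exact Submodule.subset_span ht
  | zero => exact ⟨fun j _ => map_zero _, by rw [map_zero]; exact Submodule.zero_mem _⟩
  | add a b _ _ ha hb =>
    exact ⟨fun j hj => by rw [map_add, ha.1 j hj, hb.1 j hj, add_zero],
      by rw [map_add]; exact Submodule.add_mem _ ha.2 hb.2⟩
  | smul s y _ hy =>
    refine smul_induction 𝒜 (C := fun z => (∀ j, j < n → pr ℳ j z = 0) ∧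
      pr ℳ n z ∈ Submodule.span A T) ?_ ?_ y ?_ s
    · exact ⟨fun j _ => map_zero _, by rw [map_zero]; exact Submodule.zero_mem _⟩
    · intro a b ha hb
      exact ⟨fun j hj => by rw [map_add, ha.1 j hj, hb.1 j hj, add_zero],
        by rw [map_add]; exact Submodule.add_mem _ ha.2 hb.2⟩
    · intro k s hs
      have key : ∀ j, j ≤ n → (j < n ∨ 0 < k) → pr ℳ j (s • y) = 0 := by
        intro j hj hjk
        by_cases hkj : j < k
        · exact pr_smul_lt 𝒜 ℳ hs y hkj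
        · obtain ⟨j', rfl⟩ : ∃ j', j = k + j' := ⟨j - k, by omega⟩
          rw [pr_smul_add 𝒜 ℳ hs, hy.1 j' (by omega), smul_zero]
      refine ⟨fun j hj => key j hj.le (Or.inl hj), ?_⟩
      by_cases hk : k = 0
      · subst hk
        have := pr_smul_add 𝒜 ℳ hs y n
        rw [zero_add] at this
        rw [this]
        obtain ⟨a, rfl⟩ := h0 s hs
        rw [algebraMap_smul]
        exact Submodule.smul_mem _ _ hy.2
      · rw [key n le_rfl (Or.inr (Nat.pos_of_ne_zero hk))]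
        exact Submodule.zero_mem _

theorem isNoetherian_piece (h0 : ∀ s ∈ 𝒜 0, s ∈ Set.range (algebraMap A S)) [IsNoetherian S M]
    (n : ℕ) : IsNoetherian A ↥(ℳ n) := by
  rw [isNoetherian_def]
  intro W
  apply Submodule.fg_of_fg_map_injective (ℳ n).subtype (ℳ n).injective_subtype
  set W' : Submodule A M := W.map (ℳ n).subtype with hW'
  have hW'le : (W' : Set M) ⊆ ℳ n := by
    rintro _ ⟨w, -, rfl⟩
    exact w.2
  have hfg : (Submodule.span S (W' : Set M)).FG := IsNoetherian.noetherian _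
  obtain ⟨T, hTsub, hTspan⟩ := (Submodule.fg_span_iff_fg_span_finset_subset (W' : Set M)).mp hfg
  refine ⟨T, le_antisymm (Submodule.span_le.mpr hTsub) ?_⟩
  intro w hw
  have h1 : w ∈ Submodule.span S (T : Set M) := by
    rw [← hTspan]; exact Submodule.subset_span hw
  have h2 := (noeth_aux 𝒜 ℳ h0 n (T : Set M) (hTsub.trans hW'le) w h1).2
  rwa [pr_of_mem_same ℳ (hW'le hw)] at h2

/-- If `S₊ Q ⊆ P` then the pieces of `Q` lie in `P` in large degrees. -/
theorem exists_piece_le (P Q : Submodule S M) (hQ : IsHomog ℳ Q) [IsNoetherian S M]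
    (hpos : ∀ k, 0 < k → ∀ s ∈ 𝒜 k, ∀ q ∈ Q, s • q ∈ P) :
    ∃ D, ∀ n, D < n → piece ℳ Q n ≤ piece ℳ P n := by
  classical
  obtain ⟨G, hG⟩ : Q.FG := IsNoetherian.noetherian Q
  let D := G.sup (fun g => (DirectSum.decompose ℳ g).support.sup id)
  have hD : ∀ g ∈ G, ∀ n, D < n → pr ℳ n g = 0 := by
    intro g hg n hn
    have hns : n ∉ (DirectSum.decompose ℳ g).support := by
      intro hmem
      have h1 : n ≤ (DirectSum.decompose ℳ g).support.sup id := Finset.le_sup (f := id) hmem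
      have h2 : (DirectSum.decompose ℳ g).support.sup id ≤ D :=
        Finset.le_sup (f := fun g => (DirectSum.decompose ℳ g).support.sup id) hg
      omega
    rw [pr_apply, DFinsupp.notMem_support_iff.mp hns]; rfl
  have key : ∀ y ∈ Submodule.span S (G : Set M), y ∈ Q ∧ ∀ n, D < n → pr ℳ n y ∈ P := by
    intro y hy
    induction hy using Submodule.span_induction with
    | mem g hg =>
      refine ⟨hG ▸ Submodule.subset_span hg, fun n hn => ?_⟩
      rw [hD g hg n hn]; exact Submodule.zero_mem _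
    | zero => exact ⟨Submodule.zero_mem _, fun n _ => by rw [map_zero]; exact Submodule.zero_mem _⟩
    | add a b _ _ ha hb =>
      exact ⟨Submodule.add_mem _ ha.1 hb.1, fun n hn => by
        rw [map_add]; exact Submodule.add_mem _ (ha.2 n hn) (hb.2 n hn)⟩
    | smul s y _ hy =>
      refine ⟨Submodule.smul_mem _ _ hy.1, ?_⟩
      refine smul_induction 𝒜 (C := fun z => ∀ n, D < n → pr ℳ n z ∈ P) ?_ ?_ y ?_ s
      · intro n _; rw [map_zero]; exact Submodule.zero_mem _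
      · intro a b ha hb n hn
        rw [map_add]; exact Submodule.add_mem _ (ha n hn) (hb n hn)
      · intro k s hs n hn
        by_cases hnk : n < k
        · rw [pr_smul_lt 𝒜 ℳ hs y hnk]; exact Submodule.zero_mem _
        · obtain ⟨n', rfl⟩ : ∃ n', n = k + n' := ⟨n - k, by omega⟩
          rw [pr_smul_add 𝒜 ℳ hs]
          by_cases hn' : D < n'
          · exact Submodule.smul_mem _ _ (hy.2 n' hn')
          · exact hpos k (by omega) s hs _ (hQ y hy.1 n')
  refine ⟨D, fun n hn q hq => ⟨?_, hq.2⟩⟩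
  have hqQ : q ∈ Submodule.span S (G : Set M) := by rw [hG]; exact hq.1
  have := (key q hqQ).2 n hn
  rwa [pr_of_mem_same ℳ hq.2] at this

/-- Multiplication by `x` as an `A`-linear map. -/
noncomputable def mulA (x : S) : M →ₗ[A] M := (LinearMap.lsmul S M x).restrictScalars A

@[simp] theorem mulA_apply (x : S) (m : M) : mulA (A := A) x m = x • m := rfl

theorem isHomog_inf_colon {P Q : Submodule S M} (hP : IsHomog ℳ P) (hQ : IsHomog ℳ Q) {x : S}
    (hx : x ∈ 𝒜 1) : IsHomog ℳ (Q ⊓ P.comap (LinearMap.lsmul S M x)) := by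
  intro m hm n
  refine ⟨hQ m hm.1 n, ?_⟩
  show x • pr ℳ n m ∈ P
  rw [← pr_smul_succ 𝒜 ℳ hx]
  exact hP _ hm.2 _

theorem isHomog_sup_map {P Q : Submodule S M} (hP : IsHomog ℳ P) (hQ : IsHomog ℳ Q) {x : S}
    (hx : x ∈ 𝒜 1) : IsHomog ℳ (P ⊔ Q.map (LinearMap.lsmul S M x)) := by
  intro m hm n
  obtain ⟨p, hp, _, ⟨q, hq, rfl⟩, rfl⟩ := Submodule.mem_sup.mp hm
  rw [map_add]
  refine Submodule.add_mem _ (Submodule.mem_sup_left (hP p hp n)) ?_
  show pr ℳ n (x • q) ∈ _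
  cases n with
  | zero => rw [pr_smul_zero 𝒜 ℳ hx]; exact Submodule.zero_mem _
  | succ n =>
    rw [pr_smul_succ 𝒜 ℳ hx]
    exact Submodule.mem_sup_right ⟨pr ℳ n q, hQ q hq n, rfl⟩

theorem smul_mem_succ {x : S} (hx : x ∈ 𝒜 1) {m : M} {n : ℕ} (hm : m ∈ ℳ n) :
    x • m ∈ ℳ (n + 1) := by
  have : x • m ∈ ℳ (1 + n) := SetLike.GradedSMul.smul_mem hx hm
  rwa [add_comm] at this

theorem piece_inf_colon (P Q : Submodule S M) {x : S} (hx : x ∈ 𝒜 1) (n : ℕ) :
    piece ℳ Q n ⊓ (piece ℳ P (n + 1)).comap (mulA (A := A) x) =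
      piece ℳ (Q ⊓ P.comap (LinearMap.lsmul S M x)) n := by
  ext m
  constructor
  · rintro ⟨⟨h1, h2⟩, h3, -⟩
    exact ⟨⟨h1, h3⟩, h2⟩
  · rintro ⟨⟨h1, h3⟩, h2⟩
    exact ⟨⟨h1, h2⟩, h3, smul_mem_succ 𝒜 ℳ hx h2⟩

theorem piece_sup_map {P Q : Submodule S M} (hP : IsHomog ℳ P) (hQ : IsHomog ℳ Q) {x : S}
    (hx : x ∈ 𝒜 1) (n : ℕ) :
    piece ℳ (P ⊔ Q.map (LinearMap.lsmul S M x)) (n + 1) =
      piece ℳ P (n + 1) ⊔ (piece ℳ Q n).map (mulA (A := A) x) := by
  apply le_antisymm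
  · rintro z ⟨hz1, hz2⟩
    obtain ⟨p, hp, _, ⟨q, hq, rfl⟩, rfl⟩ := Submodule.mem_sup.mp hz1
    have hz : pr ℳ (n + 1) (p + x • q) = p + x • q := pr_of_mem_same ℳ hz2
    show p + x • q ∈ _
    rw [← hz, map_add, pr_smul_succ 𝒜 ℳ hx]
    refine Submodule.add_mem _ (Submodule.mem_sup_left ⟨hP p hp _, pr_mem ℳ _ _⟩)
      (Submodule.mem_sup_right ⟨pr ℳ n q, ⟨hQ q hq n, pr_mem ℳ _ _⟩, rfl⟩)
  · refine sup_le (piece_mono ℳ le_sup_left _) ?_
    rintro _ ⟨q, ⟨hq1, hq2⟩, rfl⟩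
    exact ⟨Submodule.mem_sup_right ⟨q, hq1, rfl⟩, smul_mem_succ 𝒜 ℳ hx hq2⟩

/-- The key relation: the difference of consecutive classes of `Q/P` is expressed through the
kernel and cokernel of multiplication by `x`. -/
theorem csq_step {P Q : Submodule S M} (hPQ : P ≤ Q) (hP : IsHomog ℳ P) (hQ : IsHomog ℳ Q)
    {x : S} (hx : x ∈ 𝒜 1) (hN : ∀ n, IsNoetherian A ↥(ℳ n)) (n : ℕ) :
    csq (piece ℳ P (n + 1)) (piece ℳ Q (n + 1)) - csq (piece ℳ P n) (piece ℳ Q n) =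
      csq (piece ℳ (P ⊔ Q.map (LinearMap.lsmul S M x)) (n + 1)) (piece ℳ Q (n + 1)) -
        csq (piece ℳ P n) (piece ℳ (Q ⊓ P.comap (LinearMap.lsmul S M x)) n) := by
  have hNQ : ∀ n, IsNoetherian A ↥(piece ℳ Q n) := fun n =>
    have := hN n
    isNoetherian_of_le (inf_le_right : piece ℳ Q n ≤ ℳ n)
  have hPQ' : P ≤ Q ⊓ P.comap (LinearMap.lsmul S M x) := fun p hp =>
    ⟨hPQ hp, P.smul_mem x hp⟩
  have := hNQ n
  have := hNQ (n + 1)
  have i1 := csq_add (piece_mono ℳ hPQ' n)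
    (piece_mono ℳ (inf_le_left : Q ⊓ P.comap (LinearMap.lsmul S M x) ≤ Q) n)
  have i2 := csq_map (mulA (A := A) x) (piece ℳ Q n) (piece ℳ P (n + 1))
  rw [piece_inf_colon 𝒜 ℳ P Q hx] at i2
  have i4 : (piece ℳ Q n).map (mulA (A := A) x) ⊔ piece ℳ P (n + 1) =
      piece ℳ (P ⊔ Q.map (LinearMap.lsmul S M x)) (n + 1) := by
    rw [piece_sup_map 𝒜 ℳ hP hQ hx, sup_comm]
  rw [i4] at i2
  have i3 := csq_add (W'' := piece ℳ P (n + 1))
    (W' := piece ℳ (P ⊔ Q.map (LinearMap.lsmul S M x)) (n + 1)) (W := piece ℳ Q (n + 1))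
    (piece_mono ℳ le_sup_left _)
    (piece_mono ℳ (sup_le hPQ (by
      rintro _ ⟨q, hq, rfl⟩
      exact Q.smul_mem x hq)) _)
  rw [i3, i1, i2]
  abel

end Groth.Agent.Lib.Helper64.GrHilb
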