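import Mathlib
import Groth.Agent.Lib.Helper64.GrHilbC

/-!
# K'₀-valued Hilbert polynomial of a graded module: the induction (helper library for S9662)
-/

set_option autoImplicit false
set_option linter.unusedSectionVars false
universe u

namespace Groth.Agent.Lib.Helper64.GrHilb

open DirectSum Groth.Agent.Lib.Helper64.EvPoly Groth.Agent.S3194

variable {A S : Type u} [CommRing A] [CommRing S] [Algebra A S]
  (𝒜 : ℕ → Submodule A S) [GradedAlgebra 𝒜]
  {M : Type u} [AddCommGroup M] [Module A M] [Module S M] [IsScalarTower A S M]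
  (ℳ : ℕ → Submodule A M) [DirectSum.Decomposition ℳ] [SetLike.GradedSMul 𝒜 ℳ]

theorem ep_csq_aux [IsNoetherian S M] (hN : ∀ n, IsNoetherian A ↥(ℳ n))
    (r : ℕ) (x : Fin r → S) (hx : ∀ i, x i ∈ 𝒜 1)
    (hgen : ∀ k, 0 < k → ∀ s ∈ 𝒜 k, s ∈ Ideal.span (Set.range x)) :
    ∀ j, j ≤ r → ∀ P Q : Submodule S M, P ≤ Q → IsHomog ℳ P → IsHomog ℳ Q →
      (∀ i : Fin r, j ≤ (i : ℕ) → ∀ q ∈ Q, x i • q ∈ P) →
      EP (fun n => csq (piece ℳ P n) (piece ℳ Q n)) := by
  intro j
  induction j with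
  | zero =>
    intro _ P Q hPQ hP hQ hkill
    have hspan : ∀ s ∈ Ideal.span (Set.range x), ∀ q ∈ Q, s • q ∈ P := by
      intro s hs'
      induction hs' using Submodule.span_induction with
      | mem t ht =>
        obtain ⟨i, rfl⟩ := ht
        exact hkill i (Nat.zero_le _)
      | zero => intro q _; rw [zero_smul]; exact Submodule.zero_mem _
      | add a b _ _ ha hb =>
        intro q hq; rw [add_smul]; exact Submodule.add_mem _ (ha q hq) (hb q hq)
      | smul t a _ ha =>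
        intro q hq; rw [smul_eq_mul, mul_smul]; exact Submodule.smul_mem _ _ (ha q hq)
    have hpos : ∀ k, 0 < k → ∀ s ∈ 𝒜 k, ∀ q ∈ Q, s • q ∈ P :=
      fun k hk s hs => hspan s (hgen k hk s hs)
    obtain ⟨D, hD⟩ := exists_piece_le 𝒜 ℳ P Q hQ hpos
    exact EP.of_eventually_zero ⟨D + 1, fun n hn => csq_eq_zero (hD n (by omega))⟩
  | succ j ih =>
    intro hj P Q hPQ hP hQ hkill
    set x₀ : S := x ⟨j, by omega⟩ with hx₀
    have hx₀1 : x₀ ∈ 𝒜 1 := hx _
    have e1 := ih (by omega) P (Q ⊓ P.comap (LinearMap.lsmul S M x₀))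
      (fun p hp => ⟨hPQ hp, P.smul_mem x₀ hp⟩) hP (isHomog_inf_colon 𝒜 ℳ hP hQ hx₀1) (by
        intro i hi q hq
        by_cases hij : (i : ℕ) = j
        · have : i = ⟨j, by omega⟩ := Fin.ext hij
          rw [this]
          exact hq.2
        · exact hkill i (by omega) q hq.1)
    have e2 := ih (by omega) (P ⊔ Q.map (LinearMap.lsmul S M x₀)) Q
      (sup_le hPQ (by
        rintro _ ⟨q, hq, rfl⟩
        exact Q.smul_mem x₀ hq)) (isHomog_sup_map 𝒜 ℳ hP hQ hx₀1) hQ (by
        intro i hi q hq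
        by_cases hij : (i : ℕ) = j
        · have : i = ⟨j, by omega⟩ := Fin.ext hij
          rw [this]
          exact Submodule.mem_sup_right ⟨q, hq, rfl⟩
        · exact Submodule.mem_sup_left (hkill i (by omega) q hq))
    apply EP.of_diff
    have e3 := (EP.shift e2).sub e1
    refine e3.congr ⟨0, fun n _ => ?_⟩
    exact (csq_step 𝒜 ℳ hPQ hP hQ hx₀1 hN n).symm

theorem piece_top (n : ℕ) : piece ℳ (⊤ : Submodule S M) n = ℳ n := by
  ext m
  exact ⟨fun h => h.2, fun h => ⟨trivial, h⟩⟩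

theorem csq_bot_top (hN : ∀ n, IsNoetherian A ↥(ℳ n)) (n : ℕ) :
    csq (piece ℳ (⊥ : Submodule S M) n) (piece ℳ (⊤ : Submodule S M) n) =
      KZero.clSub (P A) (ModuleCat.of A ↥(ℳ n)) := by
  have := hN n
  have hbot : (piece ℳ (⊥ : Submodule S M) n).comap (piece ℳ (⊤ : Submodule S M) n).subtype = ⊥ := by
    rw [eq_bot_iff]
    rintro ⟨w, hw⟩ hw'
    have : w = 0 := by
      have h1 : w ∈ (⊥ : Submodule S M) := hw'.1
      simpa using h1
    subst this
    rfl
  have : IsNoetherian A ↥(piece ℳ (⊤ : Submodule S M) n) := by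
    rw [piece_top]; infer_instance
  exact cl_iso ((Submodule.quotEquivOfEqBot _ hbot).trans (LinearEquiv.ofEq _ _ (piece_top ℳ n)))

/-- The `K'₀(A)`-valued Hilbert function of a finitely generated graded module is eventually a
numerical polynomial. -/
theorem ep_cl [IsNoetherian S M] (h0 : ∀ s ∈ 𝒜 0, s ∈ Set.range (algebraMap A S))
    (r : ℕ) (x : Fin r → S) (hx : ∀ i, x i ∈ 𝒜 1)
    (hgen : ∀ k, 0 < k → ∀ s ∈ 𝒜 k, s ∈ Ideal.span (Set.range x)) :
    EP (fun n => KZero.clSub (P A) (ModuleCat.of A ↥(ℳ n))) := by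
  have hN := isNoetherian_piece 𝒜 ℳ h0
  have h := ep_csq_aux 𝒜 ℳ hN r x hx hgen r le_rfl ⊥ ⊤ bot_le (isHomog_bot ℳ) (isHomog_top ℳ)
    (fun i hi => absurd i.2 (by omega))
  exact h.congr ⟨0, fun n _ => csq_bot_top ℳ hN n⟩

end Groth.Agent.Lib.Helper64.GrHilb
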