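import Mathlib
import Groth.Agent.Lib.Helper64.MinRed
import Groth.Agent.Lib.Helper64.FibreConeDim

/-!
# ℤ-graded domains of dimension one over an algebraically closed field

Helper library for S18653: the graded pieces have dimension `≤ 1`, and the ring is a semigroup ring.
-/

set_option autoImplicit false
universe u

namespace Groth.Agent.Lib.Helper64.GradedDimOne

open DirectSum

section general

variable {k : Type*} [CommRing k] {R : Type*} [CommRing R] [Algebra k R]
  (𝒜 : ℤ → Submodule k R) [GradedAlgebra 𝒜]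

/-- A finite sum of homogeneous elements of pairwise distinct degrees vanishes only if every term
does. -/
theorem eq_zero_of_sum_eq_zero {ι : Type*} (s : Finset ι) (g : ι → ℤ) (hg : Set.InjOn g s)
    (r : ι → R) (hr : ∀ i ∈ s, r i ∈ 𝒜 (g i)) (h : ∑ i ∈ s, r i = 0) : ∀ i ∈ s, r i = 0 := by
  classical
  intro i₀ hi₀
  have h1 : GradedRing.proj 𝒜 (g i₀) (∑ i ∈ s, r i) = 0 := by rw [h, map_zero]
  rw [map_sum, Finset.sum_eq_single i₀] at h1
  · rw [GradedRing.proj_apply, DirectSum.decompose_of_mem_same 𝒜 (hr i₀ hi₀)] at h1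
    exact h1
  · intro i hi hne
    rw [GradedRing.proj_apply]
    exact DirectSum.decompose_of_mem_ne 𝒜 (hr i hi) (fun e => hne (hg hi hi₀ e))
  · intro h; exact absurd hi₀ h

/-- Evaluating a homogeneous polynomial of degree `j` at elements of degree `n` gives an element of
degree `j * n`. -/
theorem aeval_mem_of_isHomogeneous {σ : Type*} {P : MvPolynomial σ k} {j : ℕ}
    (hP : P.IsHomogeneous j) {n : ℤ} (z : σ → R) (hz : ∀ i, z i ∈ 𝒜 n) :
    MvPolynomial.aeval z P ∈ 𝒜 ((j : ℤ) * n) := by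
  classical
  rw [MvPolynomial.aeval_def, MvPolynomial.eval₂_eq]
  refine Submodule.sum_mem _ fun d hd => ?_
  rw [← Algebra.smul_def]
  refine Submodule.smul_mem _ _ ?_
  have h1 : ∏ i ∈ d.support, z i ^ d i ∈ 𝒜 (∑ i ∈ d.support, d i • n) :=
    SetLike.prod_pow_mem_graded 𝒜 _ _ _ (fun i _ => hz i)
  have h2 : ∑ i ∈ d.support, d i • n = (j : ℤ) * n := by
    rw [← Finset.sum_smul, ← hP.degree_eq_sum_deg_support hd]; simp
  rwa [h2] at h1

/-- If a polynomial vanishes at elements of the same nonzero degree, so does each homogeneous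
component. -/
theorem aeval_homogeneousComponent_eq_zero {σ : Type*} (P : MvPolynomial σ k) {n : ℤ} (hn : n ≠ 0)
    (z : σ → R) (hz : ∀ i, z i ∈ 𝒜 n) (h : MvPolynomial.aeval z P = 0) (j : ℕ) :
    MvPolynomial.aeval z (MvPolynomial.homogeneousComponent j P) = 0 := by
  classical
  by_cases hj : j ∈ Finset.range (P.totalDegree + 1)
  · have h1 : ∑ i ∈ Finset.range (P.totalDegree + 1),
        MvPolynomial.aeval z (MvPolynomial.homogeneousComponent i P) = 0 := by
      rw [← map_sum, MvPolynomial.sum_homogeneousComponent, h]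
    refine eq_zero_of_sum_eq_zero 𝒜 _ (fun i : ℕ => (i : ℤ) * n) ?_ _ ?_ h1 j hj
    · intro a _ b _ hab
      have := mul_right_cancel₀ hn hab
      exact_mod_cast this
    · intro i _
      exact aeval_mem_of_isHomogeneous 𝒜 (MvPolynomial.homogeneousComponent_isHomogeneous i P) z hz
  · rw [Finset.mem_range, not_lt] at hj
    rw [MvPolynomial.homogeneousComponent_eq_zero _ _ (by omega), map_zero]

end general

section coeff

variable {k : Type*} [CommRing k]

/-- A homogeneous polynomial in two variables which vanishes at `(X, 1)` is zero. -/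
theorem eq_zero_of_aeval_X_one_eq_zero {P : MvPolynomial (Fin 2) k} {j : ℕ}
    (hP : P.IsHomogeneous j)
    (h : MvPolynomial.aeval (![Polynomial.X, 1] : Fin 2 → Polynomial k) P = 0) : P = 0 := by
  classical
  by_contra hne
  obtain ⟨m₀, hm₀⟩ := MvPolynomial.support_nonempty.mpr hne |>.exists_mem
  have hdeg : ∀ m ∈ P.support, m 0 + m 1 = j := by
    intro m hm
    have := hP (MvPolynomial.mem_support_iff.mp hm)
    rw [← this, Finsupp.weight_apply, Finsupp.sum_fintype _ _ (by simp)]
    simp [Fin.sum_univ_two]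
  have h1 : MvPolynomial.aeval (![Polynomial.X, 1] : Fin 2 → Polynomial k) P =
      ∑ m ∈ P.support, Polynomial.C (P.coeff m) * Polynomial.X ^ (m 0) := by
    rw [MvPolynomial.aeval_def, MvPolynomial.eval₂_eq']
    refine Finset.sum_congr rfl fun m _ => ?_
    simp [Fin.prod_univ_two]
  rw [h1] at h
  have h2 := congrArg (fun q : Polynomial k => q.coeff (m₀ 0)) h
  simp only [Polynomial.finset_sum_coeff, Polynomial.coeff_C_mul_X_pow, Polynomial.coeff_zero] at h2
  rw [Finset.sum_eq_single m₀] at h2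
  · simp only [if_true] at h2
    exact (MvPolynomial.mem_support_iff.mp hm₀) h2
  · intro m hm hne'
    rw [if_neg]
    intro e
    apply hne'
    have e1 := hdeg m hm
    have e2 := hdeg m₀ hm₀
    ext i
    fin_cases i
    · exact e.symm
    · simp only [Fin.mk_one]; omega
  · intro h'; exact absurd hm₀ h'

end coeff

section field

variable {k : Type u} [Field k] {R : Type u} [CommRing R] [IsDomain R] [Algebra k R]
  (𝒜 : ℤ → Submodule k R) [GradedAlgebra 𝒜]

theorem algebraicIndependent_of_transcendental {n : ℤ} (hn : n ≠ 0) {x y : R} (hx : x ∈ 𝒜 n)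
    (hy : y ∈ 𝒜 n) (hy0 : y ≠ 0)
    (hu : Transcendental k (algebraMap R (FractionRing R) x / algebraMap R (FractionRing R) y)) :
    AlgebraicIndependent k ![x, y] := by
  set K := FractionRing R
  set u := algebraMap R K x / algebraMap R K y with hu_def
  have hy' : algebraMap R K y ≠ 0 := by
    intro h; exact hy0 ((IsFractionRing.to_map_eq_zero_iff (K := K)).mp h)
  rw [algebraicIndependent_iff_injective_aeval, injective_iff_map_eq_zero]
  intro P hP
  rw [← MvPolynomial.sum_homogeneousComponent P]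
  refine Finset.sum_eq_zero fun j _ => ?_
  have hz : ∀ i, (![x, y] : Fin 2 → R) i ∈ 𝒜 n := by
    intro i; fin_cases i
    · simpa using hx
    · simpa using hy
  have h1 := aeval_homogeneousComponent_eq_zero 𝒜 P hn ![x, y] hz hP j
  have hPj : (MvPolynomial.homogeneousComponent j P).IsHomogeneous j :=
    MvPolynomial.homogeneousComponent_isHomogeneous j P
  generalize MvPolynomial.homogeneousComponent j P = Pj at h1 hPj
  apply eq_zero_of_aeval_X_one_eq_zero hPj
  have h2 : Polynomial.aeval u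
      (MvPolynomial.aeval (![Polynomial.X, 1] : Fin 2 → Polynomial k) Pj) = 0 := by
    have e1 : (Polynomial.aeval u).comp
        (MvPolynomial.aeval (![Polynomial.X, 1] : Fin 2 → Polynomial k)) =
        MvPolynomial.aeval (![u, 1] : Fin 2 → K) := by
      apply MvPolynomial.algHom_ext
      intro i; fin_cases i <;> simp
    have e2 : MvPolynomial.aeval (fun i => algebraMap R K y * (![u, 1] : Fin 2 → K) i) Pj =
        algebraMap R K (MvPolynomial.aeval ![x, y] Pj) := by
      have : (fun i => algebraMap R K y * (![u, 1] : Fin 2 → K) i) =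
          fun i => algebraMap R K ((![x, y] : Fin 2 → R) i) := by
        funext i; fin_cases i
        · simp only [hu_def, Fin.zero_eta, Matrix.cons_val_zero]
          rw [mul_div_cancel₀ _ hy']
        · simp
      rw [this]
      exact MvPolynomial.aeval_algebraMap_apply K ![x, y] Pj
    rw [MinRed.aeval_mul_of_isHomogeneous hPj, h1, map_zero] at e2
    have := (mul_eq_zero.mp e2).resolve_left (pow_ne_zero _ hy')
    rw [← e1] at this
    exact this
  by_contra hne
  exact hu ⟨_, hne, h2⟩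

/-- In a `ℤ`-graded domain of finite type and dimension `< 2` over an algebraically closed field,
any two homogeneous elements of the same nonzero degree are proportional. -/
theorem exists_smul_eq [IsAlgClosed k] [Algebra.FiniteType k R] (hdim : ringKrullDim R < 2) {n : ℤ}
    (hn : n ≠ 0) {x y : R} (hx : x ∈ 𝒜 n) (hy : y ∈ 𝒜 n) (hy0 : y ≠ 0) : ∃ c : k, x = c • y := by
  set K := FractionRing R
  set u := algebraMap R K x / algebraMap R K y with hu_def
  have hy' : algebraMap R K y ≠ 0 := by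
    intro h; exact hy0 ((IsFractionRing.to_map_eq_zero_iff (K := K)).mp h)
  by_cases halg : IsAlgebraic k u
  · have hint : IsIntegral k u := halg.isIntegral
    have hdeg := IsAlgClosed.degree_eq_one_of_irreducible k (minpoly.irreducible hint)
    obtain ⟨c, hc⟩ := minpoly.mem_range_of_degree_eq_one k u hdeg
    refine ⟨c, ?_⟩
    apply IsFractionRing.injective R K
    rw [Algebra.smul_def, map_mul, ← IsScalarTower.algebraMap_apply, hc, hu_def,
      div_mul_cancel₀ _ hy']
  · have h2 := FibreCone.natCast_le_ringKrullDim_of_algebraicIndependent ![x, y]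
      (algebraicIndependent_of_transcendental 𝒜 hn hx hy hy0 halg)
    exfalso
    have := lt_of_le_of_lt h2 hdim
    exact absurd this (by decide)

end field

section main

variable {k : Type*} [Field k] {R : Type*} [CommRing R] [IsDomain R] [Algebra k R]
  (𝒜 : ℤ → Submodule k R) [GradedAlgebra 𝒜]

/-- A nonnegatively graded domain whose graded pieces are all of dimension `≤ 1` is a semigroup
ring. -/
theorem exists_semigroup_equiv (hpos : ∀ n : ℤ, n < 0 → 𝒜 n = ⊥)
    (hprop : ∀ n, ∀ x ∈ 𝒜 n, ∀ y ∈ 𝒜 n, y ≠ 0 → ∃ c : k, x = c • y)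
    (hne : ∃ n : ℤ, 0 < n ∧ 𝒜 n ≠ ⊥) :
    ∃ H : AddSubmonoid ℕ, Nonempty (R ≃ₐ[k] AddMonoidAlgebra k H) ∧ (𝒜 1 ≠ ⊥ → H = ⊤) := by
  classical
  let S : Set ℤ := {n | 𝒜 n ≠ ⊥}
  have hS_nonneg : ∀ n ∈ S, 0 ≤ n := by
    intro n hn
    by_contra h
    exact hn (hpos n (not_le.mp h))
  have hS_ex : ∀ n ∈ S, ∃ x ∈ 𝒜 n, x ≠ 0 := fun n hn => (Submodule.ne_bot_iff _).mp hn
  have hS_of : ∀ n x, x ∈ 𝒜 n → x ≠ 0 → n ∈ S :=
    fun n x hx h0 => (Submodule.ne_bot_iff _).mpr ⟨x, hx, h0⟩
  have hS_add : ∀ n m, n ∈ S → m ∈ S → n + m ∈ S := by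
    intro n m hn hm
    obtain ⟨x, hx, hx0⟩ := hS_ex n hn
    obtain ⟨y, hy, hy0⟩ := hS_ex m hm
    exact hS_of _ (x * y) (SetLike.mul_mem_graded hx hy) (mul_ne_zero hx0 hy0)
  have hS_zero : (0 : ℤ) ∈ S := hS_of 0 1 (SetLike.one_mem_graded 𝒜) one_ne_zero
  have hS_nsmul : ∀ (j : ℕ) n, n ∈ S → (j : ℤ) * n ∈ S := by
    intro j n hn
    induction j with
    | zero => simpa using hS_zero
    | succ j ih => push_cast; rw [add_mul, one_mul]; exact hS_add _ _ ih hn
  have hD : ∃ δ : ℕ, 0 < δ ∧ ∃ p q : ℤ, p ∈ S ∧ q ∈ S ∧ p - q = δ := by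
    obtain ⟨n, hn0, hn⟩ := hne
    exact ⟨n.toNat, by omega, n, 0, hn, hS_zero, by omega⟩
  obtain ⟨hd0, p, q, hp, hq, hpq⟩ := Nat.find_spec hD
  have hdmin : ∀ δ : ℕ, 0 < δ → (∃ p q : ℤ, p ∈ S ∧ q ∈ S ∧ p - q = δ) → Nat.find hD ≤ δ :=
    fun δ h1 h2 => Nat.find_min' hD ⟨h1, h2⟩
  generalize Nat.find hD = d at hd0 hpq hdmin
  have hdvd : ∀ n ∈ S, (d : ℤ) ∣ n := by
    intro n hn
    have hn0 := hS_nonneg n hn
    rw [Int.dvd_iff_emod_eq_zero]
    by_contra hr
    have hdpos : (0 : ℤ) < d := by exact_mod_cast hd0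
    have hr1 : 0 ≤ n % d := Int.emod_nonneg _ hdpos.ne'
    have hr2 : n % d < d := Int.emod_lt_of_pos _ hdpos
    have hdiv : 0 ≤ n / d := Int.ediv_nonneg hn0 hdpos.le
    obtain ⟨j, hj⟩ := Int.eq_ofNat_of_zero_le hdiv
    have key : (n + (j : ℤ) * q) - (j : ℤ) * p = ((n % d).toNat : ℤ) := by
      have h1 := Int.emod_add_mul_ediv n d
      rw [Int.toNat_of_nonneg hr1, ← hj]
      rw [← hpq] at h1 ⊢
      linear_combination (-1 : ℤ) * h1
    have := hdmin (n % d).toNat (by omega)
      ⟨n + (j : ℤ) * q, (j : ℤ) * p, hS_add _ _ hn (hS_nsmul j q hq), hS_nsmul j p hp, key⟩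
    omega
  obtain ⟨a, ha, ha0⟩ := hS_ex p hp
  obtain ⟨b, hb, hb0⟩ := hS_ex q hq
  let H : AddSubmonoid ℕ :=
    { carrier := {j | (d : ℤ) * j ∈ S}
      zero_mem' := by simpa using hS_zero
      add_mem' := by
        intro i j hi hj
        simp only [Set.mem_ofPred_eq] at hi hj ⊢
        push_cast; rw [mul_add]; exact hS_add _ _ hi hj }
  have hex : ∀ j : H, ∃ x ∈ 𝒜 ((d : ℤ) * ((j : ℕ) : ℤ)), x * b ^ (j : ℕ) = a ^ (j : ℕ) := by
    rintro ⟨j, hj⟩
    obtain ⟨x₀, hx₀, hx₀0⟩ := hS_ex _ hj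
    have h1 : x₀ * b ^ j ∈ 𝒜 ((j : ℤ) * p) := by
      have := SetLike.mul_mem_graded hx₀ (SetLike.pow_mem_graded j hb)
      have e : (d : ℤ) * (j : ℤ) + j • q = (j : ℤ) * p := by
        rw [← hpq]; simp only [nsmul_eq_mul]; ring
      rwa [e] at this
    have h2 : a ^ j ∈ 𝒜 ((j : ℤ) * p) := by
      have := SetLike.pow_mem_graded j ha
      simpa only [nsmul_eq_mul] using this
    obtain ⟨c, hc⟩ := hprop _ _ h2 _ h1 (mul_ne_zero hx₀0 (pow_ne_zero _ hb0))
    exact ⟨c • x₀, Submodule.smul_mem _ _ hx₀, by rw [smul_mul_assoc, ← hc]⟩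
  choose t ht_mem ht_eq using hex
  have ht_ne : ∀ j, t j ≠ 0 := by
    intro j h
    have := ht_eq j
    rw [h, zero_mul] at this
    exact pow_ne_zero _ ha0 this.symm
  have ht_zero : t 0 = 1 := by
    have := ht_eq 0
    simpa using this
  have ht_add : ∀ i j, t (i + j) = t i * t j := by
    intro i j
    have h1 := ht_eq (i + j)
    have h2 : (t i * t j) * b ^ ((i + j : H) : ℕ) = a ^ ((i + j : H) : ℕ) := by
      rw [AddSubmonoid.coe_add, pow_add, pow_add, ← ht_eq i, ← ht_eq j]; ring
    exact mul_right_cancel₀ (pow_ne_zero _ hb0) (h1.trans h2.symm)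
  let τ : Multiplicative H →* R :=
    { toFun := fun h => t h.toAdd
      map_one' := ht_zero
      map_mul' := fun x y => ht_add _ _ }
  let Φ : AddMonoidAlgebra k H →ₐ[k] R := AddMonoidAlgebra.lift k R H τ
  have hΦinj : Function.Injective Φ := by
    rw [injective_iff_map_eq_zero]
    intro f hf
    have hf' : ∑ h ∈ f.coeff.support, f.coeff h • t h = 0 := by
      have := AddMonoidAlgebra.lift_apply (R := k) τ f
      rw [← hf]
      exact this.symm
    have hz := eq_zero_of_sum_eq_zero 𝒜 f.coeff.support (fun h : H => (d : ℤ) * ((h : ℕ) : ℤ))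
      (by
        intro x _ y _ hxy
        have hdpos : (d : ℤ) ≠ 0 := by exact_mod_cast hd0.ne'
        have := mul_left_cancel₀ hdpos hxy
        exact Subtype.ext (by exact_mod_cast this))
      (fun h => f.coeff h • t h) (fun h _ => Submodule.smul_mem _ _ (ht_mem h)) hf'
    rw [← AddMonoidAlgebra.coeff_eq_zero]
    ext h
    by_contra hh
    have hmem : h ∈ f.coeff.support := Finsupp.mem_support_iff.mpr hh
    have := hz h hmem
    rcases smul_eq_zero.mp this with h0 | h0
    · exact hh h0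
    · exact ht_ne h h0
  have hΦsurj : Function.Surjective Φ := by
    intro r
    induction r using DirectSum.Decomposition.inductionOn 𝒜 with
    | zero => exact ⟨0, map_zero _⟩
    | @homogeneous n x =>
      by_cases hx0 : (x : R) = 0
      · exact ⟨0, by rw [hx0, map_zero]⟩
      · have hnS : n ∈ S := hS_of n x x.2 hx0
        obtain ⟨j', hj'⟩ := hdvd n hnS
        have hdpos : (0 : ℤ) < d := by exact_mod_cast hd0
        have hj0 : 0 ≤ j' := by
          have := hS_nonneg n hnS
          rw [hj'] at this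
          exact nonneg_of_mul_nonneg_right this hdpos
        lift j' to ℕ using hj0
        have hjH : j' ∈ H := by
          show (d : ℤ) * j' ∈ S
          rw [← hj']; exact hnS
        obtain ⟨c, hc⟩ := hprop n x x.2 (t ⟨j', hjH⟩) (by rw [hj']; exact ht_mem ⟨j', hjH⟩) (ht_ne _)
        refine ⟨AddMonoidAlgebra.single ⟨j', hjH⟩ c, ?_⟩
        show AddMonoidAlgebra.lift k R H τ _ = _
        rw [AddMonoidAlgebra.lift_single]
        exact hc.symm
    | add x y hx hy =>
      obtain ⟨x', rfl⟩ := hx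
      obtain ⟨y', rfl⟩ := hy
      exact ⟨x' + y', map_add _ _ _⟩
  refine ⟨H, ⟨(AlgEquiv.ofBijective Φ ⟨hΦinj, hΦsurj⟩).symm⟩, ?_⟩
  intro h1
  have h1S : (1 : ℤ) ∈ S := h1
  have hd1 : d = 1 := by
    have := hdvd 1 h1S
    have := Int.natAbs_dvd_natAbs.mpr this
    simpa using this
  have h1H : (1 : ℕ) ∈ H := by
    show (d : ℤ) * ((1 : ℕ) : ℤ) ∈ S
    rw [hd1]; simpa using h1S
  rw [eq_top_iff]
  intro j _
  have := AddSubmonoid.nsmul_mem H h1H j
  simpa using this

end main

end Groth.Agent.Lib.Helper64.GradedDimOne
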