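import Mathlib

/-!
# `Hom(M, N/IⁿN)` via a presentation and Artin–Rees

Helper library for S7136.
-/

set_option autoImplicit false
universe u

namespace Groth.Agent.Lib.Helper64.HomML

variable {A : Type*} [CommRing A]

/-- Values of a map in `J • ⊤` (submodule of `Hom(X, N)`) lie in `J • ⊤`. -/
theorem apply_mem_of_mem_smul_top {X N : Type*} [AddCommGroup X] [Module A X] [AddCommGroup N]
    [Module A N] (J : Ideal A) {f : X →ₗ[A] N} (hf : f ∈ (J • ⊤ : Submodule A (X →ₗ[A] N)))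
    (v : X) : f v ∈ (J • ⊤ : Submodule A N) := by
  refine Submodule.smul_induction_on hf ?_ ?_
  · intro a ha g _
    rw [LinearMap.smul_apply]
    exact Submodule.smul_mem_smul ha Submodule.mem_top
  · intro g₁ g₂ h₁ h₂
    rw [LinearMap.add_apply]
    exact Submodule.add_mem _ h₁ h₂

/-- For a finite free module `F = Fin r → A`, a map `F → N` with values in `J • ⊤` lies in
`J • Hom(F, N)`. -/
theorem mem_smul_top_of_forall_apply_mem {N : Type*} [AddCommGroup N] [Module A N] (J : Ideal A)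
    {r : ℕ} (f : (Fin r → A) →ₗ[A] N) (hf : ∀ v, f v ∈ (J • ⊤ : Submodule A N)) :
    f ∈ (J • ⊤ : Submodule A ((Fin r → A) →ₗ[A] N)) := by
  classical
  let lam : Fin r → N →ₗ[A] ((Fin r → A) →ₗ[A] N) := fun i =>
    (LinearMap.lcomp A N (LinearMap.proj i : (Fin r → A) →ₗ[A] A)) ∘ₗ
      (LinearMap.ringLmapEquivSelf A A N).symm.toLinearMap
  have hlam : ∀ i n v, lam i n v = v i • n := by
    intro i n v
    simp [lam]
  have hsum : f = ∑ i, lam i (f (Pi.single i 1)) := by
    apply LinearMap.pi_ext'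
    intro j
    apply LinearMap.ext_ring
    simp only [LinearMap.coe_comp, LinearMap.coe_single, Function.comp_apply, LinearMap.coe_sum,
      Finset.sum_apply, hlam]
    rw [Finset.sum_eq_single j]
    · simp
    · intro i _ hij
      simp [Pi.single_eq_of_ne hij]
    · intro h; exact absurd (Finset.mem_univ j) h
  rw [hsum]
  refine Submodule.sum_mem _ fun i _ => ?_
  have : (J • ⊤ : Submodule A N) ≤ Submodule.comap (lam i) (J • ⊤) :=
    Submodule.smul_top_le_comap_smul_top J (lam i)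
  exact this (hf _)

/-- Descend a map along a surjection. -/
theorem exists_descend {F M N : Type*} [AddCommGroup F] [Module A F] [AddCommGroup M] [Module A M]
    [AddCommGroup N] [Module A N] (π : F →ₗ[A] M) (hπ : Function.Surjective π) (x : F →ₗ[A] N)
    (h : LinearMap.ker π ≤ LinearMap.ker x) : ∃ φ : M →ₗ[A] N, φ ∘ₗ π = x := by
  refine ⟨(LinearMap.ker π).liftQ x h ∘ₗ (π.quotKerEquivOfSurjective hπ).symm.toLinearMap, ?_⟩
  ext v
  simp only [LinearMap.coe_comp, LinearEquiv.coe_coe, Function.comp_apply]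
  have : (π.quotKerEquivOfSurjective hπ).symm (π v) = Submodule.Quotient.mk v := by
    rw [LinearEquiv.symm_apply_eq]
    rfl
  rw [this, Submodule.liftQ_apply]

section main

variable {A : Type u} [CommRing A] [IsNoetherianRing A] (I : Ideal A) (M N : Type u)
  [AddCommGroup M] [Module A M] [Module.Finite A M] [AddCommGroup N] [Module A N]
  [Module.Finite A N]

/-- Every map `M → N/IᵐN` agrees modulo `I^(m-c)` with the reduction of a map `M → N`. -/
theorem exists_lift_mod : ∃ c : ℕ, ∀ (m : ℕ) (ψ : M →ₗ[A] N ⧸ (I ^ m • ⊤ : Submodule A N)),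
    ∃ φ : M →ₗ[A] N, ∀ u : M, ∃ y ∈ (I ^ (m - c) • ⊤ : Submodule A N),
      ψ u = Submodule.Quotient.mk (φ u + y) := by
  obtain ⟨r, π, hπ⟩ := Module.Finite.exists_fin' A M
  obtain ⟨s, ρ₀, hρ₀⟩ := Module.Finite.exists_fin' A (LinearMap.ker π)
  let ρ : (Fin s → A) →ₗ[A] (Fin r → A) := (LinearMap.ker π).subtype ∘ₗ ρ₀
  have hρ : LinearMap.range ρ = LinearMap.ker π := by
    rw [LinearMap.range_comp, LinearMap.range_eq_top.mpr hρ₀, Submodule.map_top,
      Submodule.range_subtype]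
  let T : ((Fin r → A) →ₗ[A] N) →ₗ[A] ((Fin s → A) →ₗ[A] N) := LinearMap.lcomp A N ρ
  obtain ⟨c, hc⟩ := Ideal.exists_pow_inf_eq_pow_smul I (LinearMap.range T)
  refine ⟨c, fun m ψ => ?_⟩
  obtain ⟨x, hx⟩ := Module.projective_lifting_property
    (Submodule.mkQ (I ^ m • ⊤ : Submodule A N)) (ψ ∘ₗ π) (Submodule.mkQ_surjective _)
  have hTx : T x ∈ (I ^ m • ⊤ : Submodule A ((Fin s → A) →ₗ[A] N)) := by
    apply mem_smul_top_of_forall_apply_mem
    intro w
    have h1 : (Submodule.mkQ (I ^ m • ⊤ : Submodule A N)) (x (ρ w)) = 0 := by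
      have h := LinearMap.congr_fun hx (ρ w)
      simp only [LinearMap.comp_apply] at h
      rw [h]
      have h' : π (ρ w) = 0 := by
        have : ρ w ∈ LinearMap.ker π := by rw [← hρ]; exact LinearMap.mem_range_self _ _
        exact this
      rw [h', map_zero]
    rwa [Submodule.mkQ_apply, Submodule.Quotient.mk_eq_zero] at h1
  obtain ⟨z, hz, hTz⟩ :
      ∃ z ∈ (I ^ (m - c) • ⊤ : Submodule A ((Fin r → A) →ₗ[A] N)), T z = T x := by
    by_cases hcm : c ≤ m
    · have h2 : T x ∈ I ^ m • ⊤ ⊓ LinearMap.range T := ⟨hTx, LinearMap.mem_range_self _ _⟩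
      rw [hc m hcm] at h2
      have h3 : I ^ (m - c) • (I ^ c • ⊤ ⊓ LinearMap.range T) ≤
          Submodule.map T (I ^ (m - c) • ⊤) := by
        rw [Submodule.map_smul'', Submodule.map_top]
        exact Submodule.smul_mono le_rfl inf_le_right
      obtain ⟨z, hz, hTz⟩ := h3 h2
      exact ⟨z, hz, hTz⟩
    · refine ⟨x, ?_, rfl⟩
      have : m - c = 0 := by omega
      rw [this, pow_zero, Ideal.one_eq_top, Submodule.top_smul]
      exact Submodule.mem_top
  have hker : LinearMap.ker π ≤ LinearMap.ker (x - z) := by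
    rw [← hρ]
    rintro _ ⟨w, rfl⟩
    rw [LinearMap.mem_ker]
    have : T (x - z) = 0 := by rw [map_sub, hTz, sub_self]
    exact LinearMap.congr_fun this w
  obtain ⟨φ, hφ⟩ := exists_descend π hπ (x - z) hker
  refine ⟨φ, fun u => ?_⟩
  obtain ⟨v, rfl⟩ := hπ u
  refine ⟨z v, apply_mem_of_mem_smul_top _ hz v, ?_⟩
  have h1 := LinearMap.congr_fun hx v
  have h2 := LinearMap.congr_fun hφ v
  simp only [LinearMap.comp_apply, LinearMap.sub_apply, Submodule.mkQ_apply] at h1 h2
  rw [← h1, h2, sub_add_cancel]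

/-- A map `M → N` with image in `IⁿN` lies, after multiplying by `I^c`, in `Iⁿ Hom(M, N)`. -/
theorem exists_smul_mem_of_range_le : ∃ c : ℕ, ∀ (n : ℕ) (φ : M →ₗ[A] N),
    (∀ u, φ u ∈ (I ^ n • ⊤ : Submodule A N)) →
      ∀ c' : ℕ, c ≤ c' → ∀ a ∈ I ^ c', a • φ ∈ (I ^ n • ⊤ : Submodule A (M →ₗ[A] N)) := by
  obtain ⟨r, π, hπ⟩ := Module.Finite.exists_fin' A M
  let E : (M →ₗ[A] N) →ₗ[A] ((Fin r → A) →ₗ[A] N) := LinearMap.lcomp A N π
  have hE : Function.Injective E := by
    intro φ₁ φ₂ h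
    ext u
    obtain ⟨v, rfl⟩ := hπ u
    exact LinearMap.congr_fun h v
  obtain ⟨c, hc⟩ := Ideal.exists_pow_inf_eq_pow_smul I (LinearMap.range E)
  refine ⟨c, fun n φ hφ c' hcc' a ha' => ?_⟩
  have ha : a ∈ I ^ c := Ideal.pow_le_pow_right hcc' ha'
  by_cases hcn : c ≤ n
  · have h1 : E φ ∈ I ^ n • ⊤ ⊓ LinearMap.range E :=
      ⟨mem_smul_top_of_forall_apply_mem _ _ (fun v => hφ (π v)), LinearMap.mem_range_self _ _⟩
    rw [hc n hcn] at h1
    have h3 : I ^ (n - c) • (I ^ c • ⊤ ⊓ LinearMap.range E) ≤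
        Submodule.map E (I ^ (n - c) • ⊤) := by
      rw [Submodule.map_smul'', Submodule.map_top]
      exact Submodule.smul_mono le_rfl inf_le_right
    obtain ⟨φ', hφ', hEφ'⟩ := h3 h1
    have : φ' = φ := hE hEφ'
    subst this
    have : a • φ' ∈ (I ^ c • (I ^ (n - c) • ⊤) : Submodule A (M →ₗ[A] N)) :=
      Submodule.smul_mem_smul ha hφ'
    rwa [← Submodule.mul_smul, ← pow_add, Nat.add_sub_cancel' hcn] at this
  · have h1 : a • φ ∈ (I ^ c • ⊤ : Submodule A (M →ₗ[A] N)) :=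
      Submodule.smul_mem_smul ha Submodule.mem_top
    exact Submodule.smul_mono_left (Ideal.pow_le_pow_right (by omega)) h1

end main

end Groth.Agent.Lib.Helper64.HomML
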