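import Groth.Agent.Lib.Helper64.ArtLength
import Groth.Agent.Lib.Helper64.ArtFibre
import Groth.Agent.Lib.Helper9.ArtTangent
import Groth.Agent.S12707

/-!
# A hull satisfying (H4) is universal (helper64)

* `exists_dualMap_of_smallExt`: for a small extension `p : A' ⟶ A` and a fibre product `B = A' ×_A A'` there is a
  morphism `q : B ⟶ k[ε]` which together with the first projection is jointly injective
  (`B ≅ A' ×_k k[ε]`).
* `isUniversal_of_isMiniversal_of_hSq`: a miniversal family of a functor with `H0` and `HSq` (Schlessinger's (H4))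
  is universal.
-/

set_option autoImplicit false
universe u v

namespace Groth.Agent.Lib.Helper64

open ArtFun ArtFun.Art CategoryTheory

variable {Λ : Type u} {k : Type u} [CommRing Λ] [Field k] [Algebra Λ k]

theorem exists_dualMap_of_smallExt {B A' A : Art Λ k} (p₁ p₂ : B ⟶ A') (p : A' ⟶ A)
    (h : IsFibreProd p₁ p₂ p p) (hp : IsSmallExt p) :
    ∃ q : B ⟶ dual Λ k, ∀ b b' : B, p₁ b = p₁ b' → q b = q b' → b = b' := by
  classical
  obtain ⟨-, hne, hprin, hmK⟩ := hp
  obtain ⟨t, ht⟩ := hprin.principal
  have ht' : RingHom.ker p.toAlgHom = Ideal.span {t} := ht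
  have htne : t ≠ 0 := by
    intro h0
    apply hne
    rw [ht', h0, Ideal.span_singleton_eq_bot]
  have htker : t ∈ RingHom.ker p.toAlgHom := by
    rw [ht']; exact Ideal.mem_span_singleton_self t
  have hmt : ∀ a ∈ IsLocalRing.maximalIdeal A', a * t = 0 := by
    intro a ha
    have : a * t ∈ IsLocalRing.maximalIdeal A' * RingHom.ker p.toAlgHom := Ideal.mul_mem_mul ha htker
    rwa [hmK, Ideal.mem_bot] at this
  have hwd : ∀ c c' : A', c * t = c' * t → A'.res c = A'.res c' := by
    intro c c' hcc
    have h1 : (c - c') * t = 0 := by rw [sub_mul, hcc, sub_self]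
    have h2 : c - c' ∈ IsLocalRing.maximalIdeal A' := by
      rw [IsLocalRing.mem_maximalIdeal, mem_nonunits_iff]
      intro hu
      exact htne ((hu.mul_right_eq_zero).mp h1)
    rw [Art.mem_maximalIdeal_iff, map_sub, sub_eq_zero] at h2
    exact h2
  have hex : ∀ b : B, ∃ c : A', c * t = p₂ b - p₁ b := by
    intro b
    have hb : p₂ b - p₁ b ∈ RingHom.ker p.toAlgHom := by
      rw [RingHom.mem_ker, map_sub, sub_eq_zero]
      exact (h.w_apply b).symm
    rw [ht'] at hb
    exact Ideal.mem_span_singleton'.mp hb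
  choose c hc using hex
  let D : B → k := fun b => A'.res (c b)
  have hadd : ∀ a b, D (a + b) = D a + D b := by
    intro a b
    show A'.res (c (a + b)) = A'.res (c a) + A'.res (c b)
    rw [← map_add]
    apply hwd
    rw [hc, add_mul, hc, hc, map_add, map_add]
    ring
  have hmul : ∀ a b, D (a * b) = B.res a * D b + D a * B.res b := by
    intro a b
    show A'.res (c (a * b)) = B.res a * A'.res (c b) + A'.res (c a) * B.res b
    rw [← Art.res_app p₂ a, ← Art.res_app p₁ b, ← map_mul, ← map_mul, ← map_add]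
    apply hwd
    rw [hc, add_mul, mul_assoc, hc, mul_right_comm, hc, map_mul, map_mul]
    ring
  have halg : ∀ x : Λ, D (algebraMap Λ B x) = 0 := by
    intro x
    show A'.res (c (algebraMap Λ B x)) = 0
    rw [← map_zero A'.res]
    apply hwd
    rw [hc, zero_mul]
    have e1 : p₂ (algebraMap Λ B x) = algebraMap Λ A' x := p₂.toAlgHom.commutes x
    have e2 : p₁ (algebraMap Λ B x) = algebraMap Λ A' x := p₁.toAlgHom.commutes x
    rw [e1, e2, sub_self]
  refine ⟨⟨Groth.Agent.Lib.Helper9.dualHomOfDeriv B.res D hadd hmul halg,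
    AlgHom.ext fun _ => rfl⟩, ?_⟩
  intro b b' h1 h2
  have hD : D b = D b' := congrArg TrivSqZeroExt.snd h2
  have h3 : c b - c b' ∈ IsLocalRing.maximalIdeal A' := by
    rw [Art.mem_maximalIdeal_iff, map_sub, sub_eq_zero]
    exact hD
  have h4 : (c b - c b') * t = 0 := hmt _ h3
  rw [sub_mul, hc, hc, h1, sub_eq_zero] at h4
  apply h.inj _ _ h1
  have := congrArg (fun x => x + p₁ b') h4
  simpa using this

variable [IsNoetherianRing Λ] [Module.Finite Λ k]

/-- **Hull + (H4) ⇒ pro-representable**: a miniversal family of a functor satisfying `H0` and `HSq` is universal. -/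
theorem isUniversal_of_isMiniversal_of_hSq {F : Art Λ k ⥤ Type v} (h0 : H0 F) (hsq : HSq F)
    (R : CRing Λ k) (ξ : Family R.carrier R.res F) (hξ : IsMiniversal ξ) : IsUniversal ξ := by
  classical
  obtain ⟨hvers, hbij⟩ := hξ
  obtain ⟨hne, hsub⟩ := h0
  have hξsurj : ∀ A : Art Λ k, Function.Surjective (ξ.app A) := by
    intro A a
    let φ₀ : HomSet R.carrier R.res (base Λ k) := ⟨R.res, AlgHom.id_comp _⟩
    obtain ⟨ψ, -, hψ⟩ := hvers (toBase A) A.res_surjective φ₀ a (Subsingleton.elim _ _)
    exact ⟨ψ, hψ⟩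
  have key : ∀ ⦃A B : Art Λ k⦄ (p : B ⟶ A), Function.Surjective p →
      (Function.Injective (ξ.app A) → Function.Injective (ξ.app B)) := by
    apply Groth.Agent.S12707.result
      (fun A B p => Function.Injective (ξ.app A) → Function.Injective (ξ.app B))
    · -- isomorphisms
      intro A B e he hA φ₁ φ₂ hφ
      have h1 : HomSet.map e φ₁ = HomSet.map e φ₂ := by
        apply hA
        rw [ξ.natural, ξ.natural, hφ]
      have h2 := congrArg (HomSet.map (inv e)) h1
      have h3 : ∀ φ : HomSet R.carrier R.res B, HomSet.map (inv e) (HomSet.map e φ) = φ := by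
        intro φ
        apply Subtype.ext
        apply AlgHom.ext
        intro r
        show (e ≫ inv e) (φ.1 r) = φ.1 r
        rw [IsIso.hom_inv_id]
        rfl
      rw [h3, h3] at h2
      exact h2
    · -- small extensions
      intro A A' p hp hA φ₁ φ₂ hφ
      have hpsurj : Function.Surjective p := hp.1
      have h1 : HomSet.map p φ₁ = HomSet.map p φ₂ := by
        apply hA
        rw [ξ.natural, ξ.natural, hφ]
      have hres : Function.Surjective
          (A'.res.comp (AlgHom.pullbackFst p.toAlgHom p.toAlgHom)) := by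
        intro x
        obtain ⟨a, ha⟩ := A'.res_surjective x
        exact ⟨⟨(a, a), rfl⟩, ha⟩
      have hfp := isFibreProd_pullbackArt p p hres
      obtain ⟨ψ, hψ1, hψ2⟩ := IsFibreProd.exists_liftHomSet hfp φ₁ φ₂ h1
      obtain ⟨δ, hδ1, hδ2⟩ := IsFibreProd.exists_lift hfp (𝟙 A') (𝟙 A') rfl
      have hδφ1 : HomSet.map (pullbackArtFst p p hres) (HomSet.map δ φ₁) = φ₁ := by
        apply Subtype.ext
        apply AlgHom.ext
        intro r
        show (δ ≫ pullbackArtFst p p hres) (φ₁.1 r) = φ₁.1 r
        rw [hδ1]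
        rfl
      have hδφ2 : HomSet.map (pullbackArtSnd p p hres) (HomSet.map δ φ₁) = φ₁ := by
        apply Subtype.ext
        apply AlgHom.ext
        intro r
        show (δ ≫ pullbackArtSnd p p hres) (φ₁.1 r) = φ₁.1 r
        rw [hδ2]
        rfl
      -- HSq: ξ ψ = ξ (δ φ₁)
      have h5 : ξ.app _ ψ = ξ.app _ (HomSet.map δ φ₁) := by
        apply (hsq _ _ p hfp hp).1
        apply FibProd.ext
        · show F.map (pullbackArtFst p p hres) (ξ.app _ ψ) =
            F.map (pullbackArtFst p p hres) (ξ.app _ (HomSet.map δ φ₁))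
          rw [← ξ.natural, ← ξ.natural, hψ1, hδφ1]
        · show F.map (pullbackArtSnd p p hres) (ξ.app _ ψ) =
            F.map (pullbackArtSnd p p hres) (ξ.app _ (HomSet.map δ φ₁))
          rw [← ξ.natural, ← ξ.natural, hψ2, hδφ2, hφ]
      obtain ⟨q, hq⟩ := exists_dualMap_of_smallExt _ _ p hfp hp
      have h6 : HomSet.map q ψ = HomSet.map q (HomSet.map δ φ₁) := by
        apply hbij.1
        rw [ξ.natural, ξ.natural, h5]
      have h7 : ψ = HomSet.map δ φ₁ := by
        apply Subtype.ext
        apply AlgHom.ext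
        intro r
        apply hq
        · have e1 := congrArg (fun x : HomSet R.carrier R.res A' => x.1 r) hψ1
          have e2 := congrArg (fun x : HomSet R.carrier R.res A' => x.1 r) hδφ1
          exact e1.trans e2.symm
        · exact congrArg (fun x : HomSet R.carrier R.res (dual Λ k) => x.1 r) h6
      rw [← hψ2, h7, hδφ2]
    · -- compositions
      intro A B C p q hp hq hA
      exact hp (hq hA)
  intro A
  refine ⟨?_, hξsurj A⟩
  apply key (toBase A) A.res_surjective
  intro φ ψ _
  apply Subtype.ext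
  have e1 : φ.1 = R.res := (AlgHom.id_comp _).symm.trans φ.2
  have e2 : ψ.1 = R.res := (AlgHom.id_comp _).symm.trans ψ.2
  rw [e1, e2]

end Groth.Agent.Lib.Helper64
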