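/-
helper64: the pullback of an invertible module along a morphism whose image is a single point is
trivial; consequently intersection numbers with contracted vertical components vanish (S7935).
-/
import Mathlib
import Groth.Prelude.Def_ArSurf
import Groth.Agent.Lib.QCoh.Invertible
import Groth.Agent.Lib.Helper77.VerDeg2

set_option autoImplicit false
set_option linter.style.haveILetI false
set_option linter.unusedSectionVars false
set_option linter.unusedVariables false

universe u

open CategoryTheory CategoryTheory.Limits AlgebraicGeometry TopologicalSpace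

namespace Groth.Agent.Lib.Helper64.InterContracted

open Groth.Agent.Lib.QCoh

/-- an invertible module pulls back to the trivial module along a morphism with one-point image. -/
theorem pullback_trivial_of_range_singleton {E Y : Scheme.{u}} (h : E ⟶ Y) (y : Y)
    (hE : Set.range h.base = {y}) (M : Y.Modules) (hM : PicF.IsInvertible M) :
    Nonempty ((Scheme.Modules.pullback h).obj M ≅ Coh.structureModule E) := by
  obtain ⟨V, hyV, ⟨i⟩⟩ := hM y
  have hr : Set.range h.base ⊆ Set.range V.ι.base := by
    rw [hE, Scheme.Opens.range_ι]
    intro z hz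
    rw [Set.mem_singleton_iff] at hz
    rw [hz]; exact hyV
  let g : E ⟶ (V : Scheme.{u}) := IsOpenImmersion.lift V.ι h hr
  have hg : g ≫ V.ι = h := IsOpenImmersion.lift_fac V.ι h hr
  exact ⟨(Scheme.Modules.pullbackCongr hg.symm).app M ≪≫
    ((Scheme.Modules.pullbackComp g V.ι).app M).symm ≪≫
    (Scheme.Modules.pullback g).mapIso ((Scheme.Modules.restrictFunctorIsoPullback V.ι).app M).symm ≪≫
    (Scheme.Modules.pullback g).mapIso i ≪≫ pullbackUnitIso g⟩

theorem inter_eq_zero (R : Type u) [CommRing R] [IsDomain R] [IsDiscreteValuationRing R]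
    (X Y : Over (Spec (CommRingCat.of R))) (f : X ⟶ Y)
    (E : ArSurf.VertComp R X) (y : Y.left)
    (hE : Set.range ((E.ι ≫ f.left).base : E.curve.left → Y.left) = {y})
    (M : Y.left.Modules) (hM : PicF.IsInvertible M) :
    ArSurf.inter R X ((Scheme.Modules.pullback f.left).obj M) E = 0 := by
  obtain ⟨e⟩ := pullback_trivial_of_range_singleton (E.ι ≫ f.left) y hE M hM
  have e' : (Scheme.Modules.pullback E.ι).obj ((Scheme.Modules.pullback f.left).obj M) ≅
      Coh.structureModule E.curve.left :=
    (Scheme.Modules.pullbackComp E.ι f.left).app M ≪≫ e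
  unfold ArSurf.inter ArSurf.curveDeg
  rw [Groth.Agent.Lib.Helper77.VerDeg.eulerCharLE_congr _ e' 1, sub_self]

end Groth.Agent.Lib.Helper64.InterContracted
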