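import Mathlib.RingTheory.Kaehler.Basic
import Mathlib.LinearAlgebra.Dual.Lemmas
import Mathlib.RingTheory.TensorProduct.Basic

/-!
# Functionals on `k ⊗[S] Ω[S⁄R]` are derivations `S → k` (helper64)
-/

set_option autoImplicit false

namespace Groth.Agent.Lib.Helper64

open TensorProduct KaehlerDifferential

variable {R S k : Type*} [CommRing R] [CommRing S] [Algebra R S] [Field k] [Algebra S k]
  [Algebra R k] [IsScalarTower R S k]

/-- the functional attached to a derivation -/
noncomputable def derivFunctional (D : Derivation R S k) : k ⊗[S] Ω[S⁄R] →ₗ[k] k :=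
  LinearMap.liftBaseChange k D.liftKaehlerDifferential

lemma derivFunctional_tmul (D : Derivation R S k) (c : k) (s : S) :
    derivFunctional D (c ⊗ₜ KaehlerDifferential.D R S s) = c * D s := by
  rw [derivFunctional, LinearMap.liftBaseChange_tmul, Derivation.liftKaehlerDifferential_comp_D,
    smul_eq_mul]

lemma exists_deriv_of_functional (ℓ : k ⊗[S] Ω[S⁄R] →ₗ[k] k) :
    ∃ D : Derivation R S k, derivFunctional D = ℓ := by
  let L : Ω[S⁄R] →ₗ[S] k := (ℓ.restrictScalars S).comp (TensorProduct.mk S k Ω[S⁄R] 1)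
  refine ⟨L.compDer (KaehlerDifferential.D R S), ?_⟩
  apply TensorProduct.AlgebraTensorModule.ext
  intro c ω
  have hL : (L.compDer (KaehlerDifferential.D R S)).liftKaehlerDifferential = L := by
    apply Derivation.liftKaehlerDifferential_unique
    rw [Derivation.liftKaehlerDifferential_comp]
  rw [derivFunctional, LinearMap.liftBaseChange_tmul, hL]
  change c • ℓ ((1 : k) ⊗ₜ ω) = ℓ (c ⊗ₜ ω)
  rw [← map_smul, TensorProduct.smul_tmul', smul_eq_mul, mul_one]

lemma eq_zero_of_forall_derivFunctional (v : k ⊗[S] Ω[S⁄R])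
    (h : ∀ D : Derivation R S k, derivFunctional D v = 0) : v = 0 := by
  rw [← Module.forall_dual_apply_eq_zero_iff k]
  intro ℓ
  obtain ⟨D, rfl⟩ := exists_deriv_of_functional ℓ
  exact h D

end Groth.Agent.Lib.Helper64

namespace Groth.Agent.Lib.Helper64

open TensorProduct KaehlerDifferential

section Map

variable {R S₁ S₂ k : Type*} [CommRing R] [CommRing S₁] [CommRing S₂] [Field k] [Algebra R S₁]
  [Algebra R S₂] [Algebra S₁ S₂] [IsScalarTower R S₁ S₂] [Algebra S₁ k] [Algebra S₂ k]
  [IsScalarTower S₁ S₂ k]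

variable (R S₁ S₂ k) in
/-- the map `k ⊗ Ω[S₁⁄R] → k ⊗ Ω[S₂⁄R]` -/
noncomputable def kaehlerMapK : k ⊗[S₁] Ω[S₁⁄R] →ₗ[k] k ⊗[S₂] Ω[S₂⁄R] :=
  (LinearMap.baseChange k (KaehlerDifferential.mapBaseChange R S₁ S₂)).comp
    (TensorProduct.AlgebraTensorModule.cancelBaseChange S₁ S₂ k k Ω[S₁⁄R]).symm.toLinearMap

lemma kaehlerMapK_tmul (c : k) (s : S₁) :
    kaehlerMapK R S₁ S₂ k (c ⊗ₜ KaehlerDifferential.D R S₁ s) =
      c ⊗ₜ KaehlerDifferential.D R S₂ (algebraMap S₁ S₂ s) := by
  simp [kaehlerMapK]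

lemma kaehlerMapK_surjective (h : Function.Surjective (algebraMap S₁ S₂)) :
    Function.Surjective (kaehlerMapK R S₁ S₂ k) := by
  have h1 : Function.Surjective (KaehlerDifferential.mapBaseChange R S₁ S₂) := by
    intro y
    obtain ⟨x, rfl⟩ := KaehlerDifferential.map_surjective_of_surjective R R S₁ S₂ h y
    exact ⟨1 ⊗ₜ x, by simp⟩
  have h2 : Function.Surjective
      (LinearMap.baseChange k (KaehlerDifferential.mapBaseChange R S₁ S₂)) := by
    rw [LinearMap.baseChange_eq_ltensor]
    exact LinearMap.lTensor_surjective k h1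
  exact h2.comp (LinearEquiv.surjective _)

variable [Algebra R k] [IsScalarTower R S₂ k] [IsScalarTower R S₁ k]

lemma derivFunctional_comp_kaehlerMapK (D : Derivation R S₂ k) :
    (derivFunctional D).comp (kaehlerMapK R S₁ S₂ k) = derivFunctional (D.compAlgebraMap S₁) := by
  obtain ⟨D', hD'⟩ := exists_deriv_of_functional ((derivFunctional D).comp (kaehlerMapK R S₁ S₂ k))
  rw [← hD']
  congr 1
  ext s
  have h1 := derivFunctional_tmul D' 1 s
  rw [hD', LinearMap.comp_apply, kaehlerMapK_tmul, derivFunctional_tmul, one_mul, one_mul] at h1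
  exact h1.symm

end Map

end Groth.Agent.Lib.Helper64
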