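import Mathlib

/-!
# Length of `M / I^n M` for an ideal with `d` generators

`length_quot_pow_le`: `length (M / I^n M) ≤ length (M / I M) * C(n + d, d)` when `I` is generated by
`d` elements (no finiteness hypotheses; lengths in `ℕ∞`).
-/

namespace Groth.Agent.Lib.Helper64.LengthPow

open Submodule
open scoped Pointwise

universe u

variable {R : Type u} [CommRing R]

/-- One inductive step: quotient by `I^(n+1)` versus quotient by `I^n` and by `I^(n+1) + aM`. -/
theorem length_step {M : Type u} [AddCommGroup M] [Module R M] (I : Ideal R) (a : R) (ha : a ∈ I)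
    (n : ℕ) :
    Module.length R (M ⧸ (I ^ (n + 1) • (⊤ : Submodule R M))) ≤
      Module.length R (M ⧸ (I ^ n • (⊤ : Submodule R M))) +
        Module.length R (M ⧸ (I ^ (n + 1) • (⊤ : Submodule R M) ⊔ a • (⊤ : Submodule R M))) := by
  set N1 : Submodule R M := I ^ (n + 1) • ⊤ with hN1
  set N0 : Submodule R M := I ^ n • ⊤ with hN0
  set P : Submodule R M := N1 ⊔ a • ⊤ with hP
  have hle : N0 ≤ Submodule.comap (LinearMap.lsmul R M a) N1 := by
    rw [hN0, Submodule.smul_le]
    intro r hr m _
    change a • (r • m) ∈ N1
    rw [smul_smul, hN1, pow_succ']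
    exact Submodule.smul_mem_smul (Ideal.mul_mem_mul ha hr) trivial
  let φ : (M ⧸ N0) →ₗ[R] (M ⧸ N1) := Submodule.mapQ N0 N1 (LinearMap.lsmul R M a) hle
  let ψ : (M ⧸ N1) →ₗ[R] (M ⧸ P) := Submodule.factor (le_sup_left : N1 ≤ P)
  have hψ : Function.Surjective ψ := Submodule.factor_surjective _
  have h1 := Module.length_eq_add_of_exact (LinearMap.ker ψ).subtype ψ
    (Submodule.subtype_injective _) hψ (LinearMap.exact_subtype_ker_map ψ)
  have hker : LinearMap.ker ψ ≤ LinearMap.range φ := by
    intro x hx
    induction x using Submodule.Quotient.induction_on with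
    | H m =>
      have hm : m ∈ P := by
        have : ψ (Submodule.Quotient.mk m) = Submodule.Quotient.mk m := rfl
        rw [LinearMap.mem_ker, this, Submodule.Quotient.mk_eq_zero] at hx
        exact hx
      obtain ⟨y, hy, z, hz, rfl⟩ := Submodule.mem_sup.mp hm
      obtain ⟨w, -, rfl⟩ := (Submodule.mem_smul_pointwise_iff_exists _ _ _).mp hz
      refine ⟨Submodule.Quotient.mk w, ?_⟩
      change (Submodule.Quotient.mk (a • w) : M ⧸ N1) = Submodule.Quotient.mk (y + a • w)
      rw [eq_comm, Submodule.Quotient.eq]
      simpa using hy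
  have h2 : Module.length R (LinearMap.ker ψ) ≤ Module.length R (LinearMap.range φ) :=
    Module.length_le_of_injective (Submodule.inclusion hker) (Submodule.inclusion_injective hker)
  have h3 : Module.length R (LinearMap.range φ) ≤ Module.length R (M ⧸ N0) :=
    Module.length_le_of_surjective φ.rangeRestrict φ.surjective_rangeRestrict
  rw [h1]
  exact add_le_add (h2.trans h3) le_rfl

theorem length_quot_pow_le (d : ℕ) :
    ∀ (M : Type u) [AddCommGroup M] [Module R M] (g : Fin d → R) (n : ℕ),
      Module.length R (M ⧸ ((Ideal.span (Set.range g)) ^ n • (⊤ : Submodule R M))) ≤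
        Module.length R (M ⧸ (Ideal.span (Set.range g) • (⊤ : Submodule R M))) *
          ((n + d).choose d : ℕ∞) := by
  induction d with
  | zero =>
    intro M _ _ g n
    have hI : Ideal.span (Set.range g) = ⊥ := by
      rw [Ideal.span_eq_bot]
      rintro x ⟨i, -⟩
      exact i.elim0
    rw [hI]
    simp only [Nat.choose_zero_right, Nat.cast_one, mul_one]
    have hle : ((⊥ : Ideal R) • (⊤ : Submodule R M)) ≤ (⊥ : Ideal R) ^ n • (⊤ : Submodule R M) := by
      rw [Submodule.bot_smul]; exact bot_le
    exact Module.length_le_of_surjective (Submodule.factor hle) (Submodule.factor_surjective hle)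
  | succ d ih =>
    intro M _ _ g n
    set I : Ideal R := Ideal.span (Set.range g) with hI
    set a : R := g 0 with ha
    set J : Ideal R := Ideal.span (Set.range (fun i : Fin d => g i.succ)) with hJ
    have haI : a ∈ I := Ideal.subset_span ⟨0, rfl⟩
    have hJI : J ≤ I := Ideal.span_mono (by rintro x ⟨i, rfl⟩; exact ⟨i.succ, rfl⟩)
    have hIJ : I ≤ J ⊔ Ideal.span {a} := by
      rw [hI, Ideal.span_le]
      rintro x ⟨i, rfl⟩
      refine Fin.cases ?_ (fun j => ?_) i
      · exact Ideal.mem_sup_right (Ideal.subset_span rfl)
      · exact Ideal.mem_sup_left (Ideal.subset_span ⟨j, rfl⟩)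
    set ℓ := Module.length R (M ⧸ (I • (⊤ : Submodule R M))) with hℓ
    -- the module M̄ = M / aM
    let Mb := M ⧸ (a • (⊤ : Submodule R M))
    -- (4) length(M̄ / J M̄) ≤ ℓ
    have h4 : Module.length R (Mb ⧸ (J • (⊤ : Submodule R Mb))) ≤ ℓ := by
      let τ₀ : M →ₗ[R] (Mb ⧸ (J • (⊤ : Submodule R Mb))) :=
        (Submodule.mkQ _) ∘ₗ (Submodule.mkQ (a • (⊤ : Submodule R M)))
      have hτ : I • (⊤ : Submodule R M) ≤ LinearMap.ker τ₀ := by
        rw [Submodule.smul_le]
        intro r hr m _
        obtain ⟨j, hj, c, hc, rfl⟩ := Submodule.mem_sup.mp (hIJ hr)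
        obtain ⟨c', rfl⟩ := Ideal.mem_span_singleton'.mp hc
        rw [LinearMap.mem_ker]
        change Submodule.Quotient.mk (Submodule.Quotient.mk ((j + c' * a) • m)) = 0
        rw [Submodule.Quotient.mk_eq_zero]
        have : (Submodule.Quotient.mk ((j + c' * a) • m) : Mb) =
            j • Submodule.Quotient.mk m := by
          rw [add_smul, Submodule.Quotient.mk_add, Submodule.Quotient.mk_smul]
          have : (Submodule.Quotient.mk ((c' * a) • m) : Mb) = 0 := by
            rw [Submodule.Quotient.mk_eq_zero, mul_comm, mul_smul]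
            exact (Submodule.mem_smul_pointwise_iff_exists _ _ _).mpr ⟨_, trivial, rfl⟩
          rw [this, add_zero]
        rw [this]
        exact Submodule.smul_mem_smul hj trivial
      let τ := Submodule.liftQ _ τ₀ hτ
      have hτs : Function.Surjective τ := by
        intro x
        induction x using Submodule.Quotient.induction_on with
        | H y =>
          induction y using Submodule.Quotient.induction_on with
          | H m => exact ⟨Submodule.Quotient.mk m, rfl⟩
      exact Module.length_le_of_surjective τ hτs
    induction n with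
    | zero =>
      have : Subsingleton (M ⧸ (I ^ 0 • (⊤ : Submodule R M))) := by
        rw [pow_zero, Ideal.one_eq_top, Submodule.top_smul]
        exact Submodule.Quotient.subsingleton_iff.mpr rfl
      rw [Module.length_eq_zero]
      exact zero_le
    | succ n ihn =>
      have h1 := length_step (M := M) I a haI n
      -- (2) length(M/P) ≤ length(M̄/J^(n+1) M̄)
      have h2 : Module.length R (M ⧸ (I ^ (n + 1) • (⊤ : Submodule R M) ⊔ a • (⊤ : Submodule R M))) ≤
          Module.length R (Mb ⧸ (J ^ (n + 1) • (⊤ : Submodule R Mb))) := by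
        set P : Submodule R M := I ^ (n + 1) • (⊤ : Submodule R M) ⊔ a • (⊤ : Submodule R M) with hP
        have hθ₀ : a • (⊤ : Submodule R M) ≤ LinearMap.ker (Submodule.mkQ P) := by
          rw [Submodule.ker_mkQ]; exact le_sup_right
        let θ : Mb →ₗ[R] (M ⧸ P) := Submodule.liftQ _ (Submodule.mkQ P) hθ₀
        have hθ : J ^ (n + 1) • (⊤ : Submodule R Mb) ≤ LinearMap.ker θ := by
          rw [Submodule.smul_le]
          intro r hr y _
          induction y using Submodule.Quotient.induction_on with
          | H m =>
            rw [LinearMap.mem_ker]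
            change (Submodule.Quotient.mk (r • m) : M ⧸ P) = 0
            rw [Submodule.Quotient.mk_eq_zero]
            exact le_sup_left (a := I ^ (n + 1) • (⊤ : Submodule R M))
              (Submodule.smul_mem_smul (Ideal.pow_right_mono hJI _ hr) trivial)
        let θ' := Submodule.liftQ _ θ hθ
        have hθs : Function.Surjective θ' := by
          intro x
          induction x using Submodule.Quotient.induction_on with
          | H m => exact ⟨Submodule.Quotient.mk (Submodule.Quotient.mk m), rfl⟩
        exact Module.length_le_of_surjective θ' hθs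
      have h3 := ih Mb (fun i : Fin d => g i.succ) (n + 1)
      calc Module.length R (M ⧸ (I ^ (n + 1) • (⊤ : Submodule R M)))
          ≤ Module.length R (M ⧸ (I ^ n • (⊤ : Submodule R M))) +
            Module.length R (M ⧸ (I ^ (n + 1) • (⊤ : Submodule R M) ⊔ a • (⊤ : Submodule R M))) := h1
        _ ≤ ℓ * ((n + (d + 1)).choose (d + 1) : ℕ∞) + ℓ * ((n + 1 + d).choose d : ℕ∞) := by
            refine add_le_add ihn (h2.trans (h3.trans ?_))
            exact mul_le_mul' h4 le_rfl
        _ = ℓ * ((n + 1 + (d + 1)).choose (d + 1) : ℕ∞) := by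
            rw [← mul_add]
            congr 1
            have : (n + 1 + (d + 1)).choose (d + 1) =
                (n + 1 + d).choose d + (n + (d + 1)).choose (d + 1) := by
              have e1 : n + 1 + (d + 1) = (n + 1 + d) + 1 := by ring
              have e2 : n + (d + 1) = n + 1 + d := by ring
              rw [e1, Nat.choose_succ_succ, e2]
            rw [this, Nat.cast_add, add_comm]

end Groth.Agent.Lib.Helper64.LengthPow
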