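/-
helper64: nilpotent cone (S14377), part A: triangularization of nilpotent endomorphisms / matrices
over a field.
-/
import Mathlib

set_option autoImplicit false
universe u
open Module

namespace Groth.Agent.Lib.Helper64.Nil

section lin

variable {K : Type u} [Field K]

/-- A nilpotent endomorphism of a finite dimensional space has a basis in which it is
strictly lower triangular. -/
theorem exists_basis_lower : ∀ (n : ℕ) (V : Type u) [AddCommGroup V] [Module K V]
    [FiniteDimensional K V] (_hn : finrank K V = n) (f : V →ₗ[K] V) (_hf : IsNilpotent f),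
    ∃ b : Basis (Fin n) K V, ∀ j, f (b j) ∈ Submodule.span K (b '' {i | j < i}) := by
  intro n
  induction n with
  | zero =>
    intro V _ _ _ hn f _
    exact ⟨Module.finBasisOfFinrankEq K V hn, fun j => j.elim0⟩
  | succ n ih =>
    intro V _ _ _ hn f hf
    haveI : Nontrivial V := Module.nontrivial_of_finrank_pos (R := K) (by omega)
    -- range f ≠ ⊤
    have hrange : LinearMap.range f < ⊤ := by
      rw [lt_top_iff_ne_top]
      intro htop
      obtain ⟨m, hm⟩ := hf
      have hsurj : Function.Surjective f := LinearMap.range_eq_top.mp htop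
      have hsurj' : Function.Surjective (f ^ m) := by
        rw [Module.End.coe_pow]
        exact hsurj.iterate m
      rw [hm] at hsurj'
      obtain ⟨x, y, hxy⟩ := exists_pair_ne V
      obtain ⟨x', hx'⟩ := hsurj' x
      obtain ⟨y', hy'⟩ := hsurj' y
      apply hxy
      rw [← hx', ← hy']
      simp
    obtain ⟨φ, hφ0, hφ⟩ := Submodule.exists_le_ker_of_lt_top _ hrange
    obtain ⟨y, hy⟩ : ∃ y, φ y ≠ 0 := by
      by_contra hcon
      push_neg at hcon
      exact hφ0 (LinearMap.ext hcon)
    set W := LinearMap.ker φ with hW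
    have hstab : ∀ x ∈ W, f x ∈ W := fun x _ => hφ (LinearMap.mem_range_self f x)
    have hWrank : finrank K W = n := by
      have h1 := LinearMap.finrank_range_add_finrank_ker φ
      have h2 : LinearMap.range φ = ⊤ := by
        rw [LinearMap.range_eq_top]
        intro c
        refine ⟨(c / φ y) • y, ?_⟩
        rw [map_smul, smul_eq_mul, div_mul_cancel₀ _ hy]
      rw [h2, finrank_top, Module.finrank_self, hn] at h1
      have h3 : finrank K W = finrank K (LinearMap.ker φ) := rfl
      omega
    have hf' : IsNilpotent (f.restrict hstab) := by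
      obtain ⟨m, hm⟩ := hf
      refine ⟨m, ?_⟩
      rw [Module.End.pow_restrict m hstab]
      ext x
      simp [hm]
    obtain ⟨b', hb'⟩ := ih W hWrank (f.restrict hstab) hf'
    have hli : ∀ (c : K), ∀ x ∈ W, c • y + x = 0 → c = 0 := by
      intro c x hx hc
      have := congrArg φ hc
      rw [map_add, map_smul, LinearMap.mem_ker.mp hx, add_zero, map_zero, smul_eq_mul] at this
      exact (mul_eq_zero.mp this).resolve_right hy
    have hsp : ∀ z : V, ∃ c : K, z + c • y ∈ W := by
      intro z
      refine ⟨-(φ z / φ y), ?_⟩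
      rw [LinearMap.mem_ker, map_add, map_smul, smul_eq_mul, neg_mul, div_mul_cancel₀ _ hy,
        add_neg_cancel]
    let b := Basis.mkFinCons y b' hli hsp
    have hb : (b : Fin (n + 1) → V) = Fin.cons y ((↑) ∘ b') := Basis.coe_mkFinCons y b' hli hsp
    have hb0 : b 0 = y := by rw [hb]; rfl
    have hbs : ∀ i : Fin n, b i.succ = (b' i : V) := by intro i; rw [hb]; rfl
    refine ⟨b, ?_⟩
    -- W as a span
    have hWspan : ∀ (s : Set (Fin n)), Submodule.map W.subtype (Submodule.span K (b' '' s)) =
        Submodule.span K (b '' (Fin.succ '' s)) := by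
      intro s
      rw [Submodule.map_span]
      congr 1
      ext v
      constructor
      · rintro ⟨_, ⟨i, hi, rfl⟩, rfl⟩
        exact ⟨i.succ, ⟨i, hi, rfl⟩, hbs i⟩
      · rintro ⟨_, ⟨i, hi, rfl⟩, rfl⟩
        exact ⟨b' i, ⟨i, hi, rfl⟩, (hbs i).symm⟩
    intro j
    refine Fin.cases ?_ (fun j' => ?_) j
    · -- f y ∈ W = span of all b' i
      have h1 : f (b 0) ∈ W := hφ (LinearMap.mem_range_self f _)
      have h2 : Submodule.map W.subtype (Submodule.span K (b' '' Set.univ)) = W := by
        rw [Set.image_univ, b'.span_eq, Submodule.map_subtype_top]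
      rw [← h2, hWspan] at h1
      refine Submodule.span_mono (Set.image_mono ?_) h1
      rintro _ ⟨i, -, rfl⟩
      exact Fin.succ_pos i
    · have h1 := hb' j'
      have h2 : f (b j'.succ) = ((f.restrict hstab) (b' j') : V) := by
        rw [hbs]; rfl
      rw [h2]
      have h3 : ((f.restrict hstab) (b' j') : V) ∈
          Submodule.map W.subtype (Submodule.span K (b' '' {i | j' < i})) :=
        ⟨_, h1, rfl⟩
      rw [hWspan] at h3
      refine Submodule.span_mono (Set.image_mono ?_) h3
      rintro _ ⟨i, hi, rfl⟩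
      exact Fin.succ_lt_succ_iff.mpr hi

/-- Matrix form: a nilpotent matrix over a field is `P * L * adjugate P` with `P` invertible and
`L` strictly lower triangular. -/
theorem exists_conj_lower {n : ℕ} (N : Matrix (Fin n) (Fin n) K) (hN : IsNilpotent N) :
    ∃ (P L : Matrix (Fin n) (Fin n) K), IsUnit P.det ∧ (∀ i j, i ≤ j → L i j = 0) ∧
      P * L * Matrix.adjugate P = N := by
  classical
  let f : (Fin n → K) →ₗ[K] (Fin n → K) := Matrix.toLin' N
  have hf : IsNilpotent f := hN.map (Matrix.toLinAlgEquiv' (R := K) (n := Fin n))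
  obtain ⟨b, hb⟩ := exists_basis_lower n (Fin n → K) (Module.finrank_fin_fun K) f hf
  let e := Pi.basisFun K (Fin n)
  let L₀ := LinearMap.toMatrix b b f
  let P := e.toMatrix b
  let Q := b.toMatrix e
  have hPQ : P * Q = 1 := Basis.toMatrix_mul_toMatrix_flip e b
  have hN' : LinearMap.toMatrix e e f = N := by
    rw [LinearMap.toMatrix_eq_toMatrix']
    exact LinearMap.toMatrix'_toLin' N
  have hL₀ : Q * N * P = L₀ := by
    rw [← hN']
    exact basis_toMatrix_mul_linearMap_toMatrix_mul_basis_toMatrix b e b e f
  have hQP : Q * P = 1 := Basis.toMatrix_mul_toMatrix_flip b e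
  have hdet : IsUnit P.det := Matrix.isUnit_det_of_right_inverse hPQ
  have hadj : Matrix.adjugate P = P.det • Q := by
    calc Matrix.adjugate P = Matrix.adjugate P * (P * Q) := by rw [hPQ, Matrix.mul_one]
      _ = (Matrix.adjugate P * P) * Q := by rw [Matrix.mul_assoc]
      _ = P.det • Q := by rw [Matrix.adjugate_mul, Matrix.smul_mul, Matrix.one_mul]
  refine ⟨P, (P.det)⁻¹ • L₀, hdet, ?_, ?_⟩
  · intro i j hij
    rw [Matrix.smul_apply]
    have h1 := (b.mem_span_image).mp (hb j)
    have h2 : i ∉ ((b.repr (f (b j))).support : Set (Fin n)) := by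
      intro hi
      have h4 : j < i := h1 hi
      exact absurd hij (not_le.mpr h4)
    have h3 : b.repr (f (b j)) i = 0 := by
      simpa using h2
    simp only [L₀, LinearMap.toMatrix_apply, h3, smul_zero]
  · rw [hadj, ← hL₀]
    have hd : P.det ≠ 0 := hdet.ne_zero
    simp only [Matrix.mul_smul, Matrix.smul_mul, smul_smul, mul_inv_cancel₀ hd, one_smul]
    calc P * (Q * N * P) * Q = (P * Q) * N * (P * Q) := by
          simp only [Matrix.mul_assoc]
      _ = N := by rw [hPQ, Matrix.one_mul, Matrix.mul_one]

end lin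

end Groth.Agent.Lib.Helper64.Nil
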