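/-
helper64: nilpotent cone (S14377), part B: the parametrizations `X ↦ H (L + D_j) adj(H)` and the
chain of their kernels.
-/
import Mathlib

set_option autoImplicit false
universe u
open MvPolynomial Matrix

namespace Groth.Agent.Lib.Helper64.Nil

section param

variable (k : Type u) [Field k] (n : ℕ)

/-- index type of the parameters: entries of `H`, entries of `L`, diagonal. -/
abbrev Idx (n : ℕ) := (Fin n × Fin n) ⊕ ((Fin n × Fin n) ⊕ Fin n)

/-- the parameter ring. -/
abbrev T₀ := MvPolynomial (Idx n) k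

/-- the generic matrix `H`. -/
noncomputable def Hm : Matrix (Fin n) (Fin n) (T₀ k n) := fun a b => X (Sum.inl (a, b))

/-- the generic strictly lower triangular matrix. -/
noncomputable def Lm : Matrix (Fin n) (Fin n) (T₀ k n) := fun a b =>
  if b < a then X (Sum.inr (Sum.inl (a, b))) else 0

/-- the partial generic diagonal (first `j` entries zero). -/
noncomputable def dg (j : ℕ) : Fin n → T₀ k n := fun i =>
  if j ≤ i.val then X (Sum.inr (Sum.inr i)) else 0

/-- `L + D_j`. -/
noncomputable def Mm (j : ℕ) : Matrix (Fin n) (Fin n) (T₀ k n) := Lm k n + Matrix.diagonal (dg k n j)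

/-- the `j`-th parametrization. -/
noncomputable def Psi (j : ℕ) : MvPolynomial (Fin n × Fin n) k →ₐ[k] T₀ k n :=
  aeval fun p : Fin n × Fin n => (Hm k n * Mm k n j * adjugate (Hm k n)) p.1 p.2

theorem det_Hm_ne_zero : det (Hm k n) ≠ 0 := by
  have h1 : Hm k n = (mvPolynomialX (Fin n) (Fin n) k).map
      (rename (Sum.inl : Fin n × Fin n → Idx n) : MvPolynomial (Fin n × Fin n) k →ₐ[k] T₀ k n) := by
    ext a b
    simp [Hm, mvPolynomialX]
  have h2 : det (Hm k n) = (rename (Sum.inl : Fin n × Fin n → Idx n) :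
      MvPolynomial (Fin n × Fin n) k →ₐ[k] T₀ k n) (det (mvPolynomialX (Fin n) (Fin n) k)) := by
    rw [h1, AlgHom.map_det]
    rfl
  rw [h2]
  intro h0
  have := (rename_injective (Sum.inl : Fin n × Fin n → Idx n) Sum.inl_injective)
    (h0.trans (map_zero _).symm)
  exact det_mvPolynomialX_ne_zero (Fin n) k this

theorem map_Psi (j : ℕ) :
    (mvPolynomialX (Fin n) (Fin n) k).map (Psi k n j) =
      Hm k n * Mm k n j * adjugate (Hm k n) := by
  ext a b
  simp [Psi, mvPolynomialX]

theorem charpoly_Psi (j : ℕ) :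
    (charpoly (mvPolynomialX (Fin n) (Fin n) k)).map (Psi k n j).toRingHom =
      ∏ i : Fin n, (Polynomial.X - Polynomial.C (det (Hm k n) * dg k n j i)) := by
  have h0 : (mvPolynomialX (Fin n) (Fin n) k).map (Psi k n j).toRingHom =
      Hm k n * Mm k n j * adjugate (Hm k n) := map_Psi k n j
  rw [← charpoly_map, h0, Matrix.mul_assoc, charpoly_mul_comm, Matrix.mul_assoc, adjugate_mul,
    ← charpoly_transpose]
  rw [charpoly_of_isUpperTriangular]
  · refine Finset.prod_congr rfl fun i _ => ?_
    congr 2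
    simp [Mm, Lm, Matrix.mul_apply, Matrix.smul_apply, Matrix.one_apply, Matrix.diagonal_apply,
      mul_comm]
  · intro a b hab
    simp only [id] at hab
    have h1 : ¬ (a < b) := not_lt.mpr hab.le
    have h2 : b ≠ a := hab.ne
    simp [Mm, Lm, Matrix.mul_apply, Matrix.smul_apply, Matrix.one_apply, Matrix.diagonal_apply,
      h1, h2]

/-- the `j`-th coefficient of the generic characteristic polynomial. -/
noncomputable def cc (j : ℕ) : MvPolynomial (Fin n × Fin n) k :=
  (charpoly (mvPolynomialX (Fin n) (Fin n) k)).coeff j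

theorem prod_split (j : ℕ) (hj : j ≤ n) :
    ∏ i : Fin n, (Polynomial.X - Polynomial.C (det (Hm k n) * dg k n j i)) =
      Polynomial.X ^ j * ∏ i ∈ Finset.univ.filter (fun i : Fin n => ¬ (i.val < j)),
        (Polynomial.X - Polynomial.C (det (Hm k n) * X (Sum.inr (Sum.inr i)))) := by
  rw [← Finset.prod_filter_mul_prod_filter_not Finset.univ (fun i : Fin n => i.val < j)]
  congr 1
  · have h1 : ∀ i ∈ Finset.univ.filter (fun i : Fin n => i.val < j),
        (Polynomial.X - Polynomial.C (det (Hm k n) * dg k n j i)) =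
          (Polynomial.X : Polynomial (T₀ k n)) := by
      intro i hi
      have : ¬ (j ≤ i.val) := not_le.mpr (Finset.mem_filter.mp hi).2
      simp [dg, this]
    rw [Finset.prod_congr rfl h1, Finset.prod_const, Fin.card_filter_val_lt, min_eq_right hj]
  · refine Finset.prod_congr rfl fun i hi => ?_
    have : j ≤ i.val := not_lt.mp (Finset.mem_filter.mp hi).2
    simp [dg, this]

theorem Psi_cc_succ (j : ℕ) (hj : j + 1 ≤ n) : Psi k n (j + 1) (cc k n j) = 0 := by
  have h1 := congrArg (fun p => Polynomial.coeff p j) (charpoly_Psi k n (j + 1))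
  simp only [Polynomial.coeff_map] at h1
  rw [prod_split k n (j + 1) hj, Polynomial.coeff_X_pow_mul', if_neg (by omega)] at h1
  exact h1

theorem Psi_cc_self (j : ℕ) (hj : j ≤ n) : Psi k n j (cc k n j) ≠ 0 := by
  have h1 := congrArg (fun p => Polynomial.coeff p j) (charpoly_Psi k n j)
  simp only [Polynomial.coeff_map] at h1
  rw [prod_split k n j hj, Polynomial.coeff_X_pow_mul', if_pos le_rfl, Nat.sub_self,
    Polynomial.coeff_zero_eq_eval_zero, Polynomial.eval_prod] at h1
  change Psi k n j (cc k n j) = _ at h1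
  rw [h1]
  rw [Finset.prod_ne_zero_iff]
  intro i _
  simp only [Polynomial.eval_sub, Polynomial.eval_X, Polynomial.eval_C, zero_sub, ne_eq,
    neg_eq_zero, mul_eq_zero, not_or]
  exact ⟨det_Hm_ne_zero k n, X_ne_zero _⟩

/-- the specialization killing the first `j` diagonal variables. -/
noncomputable def spec (j : ℕ) : T₀ k n →ₐ[k] T₀ k n :=
  aeval (Sum.elim (fun p => X (Sum.inl p))
    (Sum.elim (fun p => X (Sum.inr (Sum.inl p))) (fun i => dg k n j i)))

theorem spec_Hm (j : ℕ) : (Hm k n).map (spec k n j) = Hm k n := by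
  ext a b
  simp [Hm, spec]

theorem spec_Lm (j : ℕ) : (Lm k n).map (spec k n j) = Lm k n := by
  ext a b
  simp only [Lm, Matrix.map_apply]
  split_ifs
  · simp [spec]
  · simp

theorem spec_dg (j : ℕ) (i : Fin n) : spec k n (j + 1) (dg k n j i) = dg k n (j + 1) i := by
  by_cases h1 : j ≤ i.val
  · have : dg k n j i = X (Sum.inr (Sum.inr i)) := by simp [dg, h1]
    rw [this]
    simp [spec]
  · have : dg k n j i = 0 := by simp [dg, h1]
    have h2 : ¬ (j + 1 ≤ i.val) := by omega
    rw [this, map_zero]
    simp [dg, h2]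

theorem spec_Mm (j : ℕ) : (Mm k n j).map (spec k n (j + 1)) = Mm k n (j + 1) := by
  ext a b
  have h1 := congrFun (congrFun (spec_Lm k n (j + 1)) a) b
  simp only [Matrix.map_apply] at h1
  simp only [Mm, Matrix.map_apply, Matrix.add_apply, map_add, h1]
  by_cases h : a = b
  · subst h
    simp only [Matrix.diagonal_apply_eq]
    rw [spec_dg]
  · simp [Matrix.diagonal_apply_ne _ h]

theorem spec_comp_Psi (j : ℕ) : (spec k n (j + 1)).comp (Psi k n j) = Psi k n (j + 1) := by
  apply MvPolynomial.algHom_ext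
  intro p
  simp only [AlgHom.comp_apply, Psi, aeval_X]
  have h := congrFun (congrFun (show ((Hm k n * Mm k n j * adjugate (Hm k n)).map (spec k n (j + 1))) =
      Hm k n * Mm k n (j + 1) * adjugate (Hm k n) from by
    rw [Matrix.map_mul, Matrix.map_mul, ← AlgHom.mapMatrix_apply (spec k n (j + 1)) (adjugate _),
      AlgHom.map_adjugate, AlgHom.mapMatrix_apply, spec_Hm, spec_Mm]) p.1) p.2
  simpa using h

theorem ker_Psi_le (j : ℕ) : RingHom.ker (Psi k n j) ≤ RingHom.ker (Psi k n (j + 1)) := by
  intro f hf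
  rw [RingHom.mem_ker] at hf ⊢
  rw [← spec_comp_Psi, AlgHom.comp_apply, hf, map_zero]

theorem ker_Psi_lt (j : ℕ) (hj : j + 1 ≤ n) :
    RingHom.ker (Psi k n j) < RingHom.ker (Psi k n (j + 1)) := by
  refine lt_of_le_of_ne (ker_Psi_le k n j) ?_
  intro h
  have h1 : cc k n j ∈ RingHom.ker (Psi k n (j + 1)) := Psi_cc_succ k n j hj
  rw [← h] at h1
  exact Psi_cc_self k n j (by omega) h1

instance (j : ℕ) : (RingHom.ker (Psi k n j)).IsPrime := RingHom.ker_isPrime _

/-- the height of the kernel of the nilpotent parametrization is at least `n`. -/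
theorem le_height_ker_Psi : (n : ℕ∞) ≤ (RingHom.ker (Psi k n n)).height := by
  let p : LTSeries (PrimeSpectrum (MvPolynomial (Fin n × Fin n) k)) :=
    { length := n
      toFun := fun j => ⟨RingHom.ker (Psi k n j.val), inferInstance⟩
      step := fun j => by
        change RingHom.ker (Psi k n (j.castSucc).val) < RingHom.ker (Psi k n (j.succ).val)
        simp only [Fin.val_castSucc, Fin.val_succ]
        exact ker_Psi_lt k n j.val (by have := j.isLt; omega) }
  have h1 := Order.length_le_height_last (p := p)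
  have h2 : p.last = ⟨RingHom.ker (Psi k n n), inferInstance⟩ := by
    simp [RelSeries.last, p]
  rw [h2, ← PrimeSpectrum.height_eq_orderHeight] at h1
  exact h1

end param

end Groth.Agent.Lib.Helper64.Nil
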