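/-
helper64: nilpotent cone (S14377), part C: radical of the ideal of charpoly coefficients is the
kernel of the nilpotent parametrization; irreducibility and dimension.
-/
import Mathlib
import Groth.Agent.Lib.Helper73.DimField
import Groth.Agent.Lib.Helper64.NilA
import Groth.Agent.Lib.Helper64.NilB

set_option autoImplicit false
universe u
open MvPolynomial Matrix

namespace Groth.Agent.Lib.Helper64.Nil

section main

variable (k : Type u) [Field k] (n : ℕ)

/-- the ideal of the coefficients of the generic characteristic polynomial. -/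
noncomputable def Ic : Ideal (MvPolynomial (Fin n × Fin n) k) :=
  Ideal.span (Set.range (fun i : Fin n => cc k n (i : ℕ)))

theorem Psi_cc_lt (j j' : ℕ) (hj' : j' ≤ n) (h : j < j') : Psi k n j' (cc k n j) = 0 := by
  have h1 := congrArg (fun p => Polynomial.coeff p j) (charpoly_Psi k n j')
  simp only [Polynomial.coeff_map] at h1
  rw [prod_split k n j' hj', Polynomial.coeff_X_pow_mul', if_neg (by omega)] at h1
  exact h1

theorem Ic_le_ker : Ic k n ≤ RingHom.ker (Psi k n n) := by
  unfold Ic
  rw [Ideal.span_le]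
  rintro _ ⟨i, rfl⟩
  exact Psi_cc_lt k n i.val n le_rfl i.isLt

theorem dg_top (i : Fin n) : dg k n n i = 0 := by
  have : ¬ (n ≤ i.val) := not_le.mpr i.isLt
  simp [dg, this]

/-- every prime containing `Ic` contains the kernel of the nilpotent parametrization. -/
theorem ker_le_of_prime (Q : Ideal (MvPolynomial (Fin n × Fin n) k)) [Q.IsPrime]
    (hQ : Ic k n ≤ Q) : RingHom.ker (Psi k n n) ≤ Q := by
  classical
  let D := MvPolynomial (Fin n × Fin n) k ⧸ Q
  let K := FractionRing D
  let π : MvPolynomial (Fin n × Fin n) k →ₐ[k] K :=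
    (IsScalarTower.toAlgHom k D K).comp (Ideal.Quotient.mkₐ k Q)
  have hπ : ∀ f, π f = 0 → f ∈ Q := by
    intro f hf
    have h1 : algebraMap D K (Ideal.Quotient.mk Q f) = 0 := hf
    rw [map_eq_zero_iff _ (IsFractionRing.injective D K)] at h1
    exact Ideal.Quotient.eq_zero_iff_mem.mp h1
  have hπQ : ∀ f ∈ Q, π f = 0 := by
    intro f hf
    change algebraMap D K (Ideal.Quotient.mk Q f) = 0
    rw [Ideal.Quotient.eq_zero_iff_mem.mpr hf, map_zero]
  let Xb : Matrix (Fin n) (Fin n) K := (mvPolynomialX (Fin n) (Fin n) k).map π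
  have hchar : Xb.charpoly = Polynomial.X ^ n := by
    have h1 : Xb.charpoly = (charpoly (mvPolynomialX (Fin n) (Fin n) k)).map π.toRingHom :=
      charpoly_map _ π.toRingHom
    have hmon : Xb.charpoly.Monic := charpoly_monic _
    have hdeg : Xb.charpoly.natDegree = n := by
      rw [charpoly_natDegree_eq_dim, Fintype.card_fin]
    ext i
    rw [Polynomial.coeff_X_pow]
    rcases lt_trichotomy i n with hi | hi | hi
    · rw [if_neg hi.ne, h1, Polynomial.coeff_map]
      apply hπQ
      apply hQ
      exact Ideal.subset_span ⟨⟨i, hi⟩, rfl⟩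
    · subst hi
      rw [if_pos rfl]
      have h2 := hmon.coeff_natDegree
      rw [hdeg] at h2
      exact h2
    · rw [if_neg hi.ne']
      exact Polynomial.coeff_eq_zero_of_natDegree_lt (by omega)
  have hnil : IsNilpotent Xb := by
    refine ⟨n, ?_⟩
    have := aeval_self_charpoly Xb
    rw [hchar, map_pow, Polynomial.aeval_X] at this
    exact this
  obtain ⟨P₀, L₀, -, hL₀, hPL⟩ := exists_conj_lower Xb hnil
  let φ : T₀ k n →ₐ[k] K := aeval (Sum.elim (fun p => P₀ p.1 p.2)
    (Sum.elim (fun p => L₀ p.1 p.2) (fun _ => 0)))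
  have hH : (Hm k n).map φ = P₀ := by
    ext a b
    simp [Hm, φ]
  have hM : (Mm k n n).map φ = L₀ := by
    ext a b
    simp only [Mm, Matrix.map_apply, Matrix.add_apply, map_add]
    have h1 : φ (Lm k n a b) = L₀ a b := by
      simp only [Lm]
      split_ifs with h
      · simp [φ]
      · rw [map_zero, hL₀ a b (not_lt.mp h)]
    have h2 : φ (Matrix.diagonal (dg k n n) a b) = 0 := by
      by_cases h : a = b
      · subst h
        rw [Matrix.diagonal_apply_eq, dg_top, map_zero]
      · rw [Matrix.diagonal_apply_ne _ h, map_zero]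
    rw [h1, h2, add_zero]
  have hcomp : φ.comp (Psi k n n) = π := by
    apply MvPolynomial.algHom_ext
    intro p
    simp only [AlgHom.comp_apply, Psi, aeval_X]
    have h := congrFun (congrFun (show ((Hm k n * Mm k n n * adjugate (Hm k n)).map φ) =
        P₀ * L₀ * adjugate P₀ from by
      rw [Matrix.map_mul, Matrix.map_mul, ← AlgHom.mapMatrix_apply φ (adjugate _),
        AlgHom.map_adjugate, AlgHom.mapMatrix_apply, hH, hM]) p.1) p.2
    rw [Matrix.map_apply] at h
    rw [h, hPL]
    simp [Xb, mvPolynomialX]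
  intro f hf
  apply hπ
  rw [← hcomp, AlgHom.comp_apply, (RingHom.mem_ker).mp hf, map_zero]

theorem radical_Ic : (Ic k n).radical = RingHom.ker (Psi k n n) := by
  apply le_antisymm
  · exact (Ideal.IsPrime.radical_le_iff inferInstance).mpr (Ic_le_ker k n)
  · rw [Ideal.radical_eq_sInf]
    refine le_sInf ?_
    rintro Q ⟨hQ1, hQ2⟩
    haveI := hQ2
    exact ker_le_of_prime k n Q hQ1

theorem irreducible : IrreducibleSpace
    (PrimeSpectrum (MvPolynomial (Fin n × Fin n) k ⧸ Ic k n)) := by
  rw [PrimeSpectrum.irreducibleSpace_iff_isPrime_nilradical]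
  have hsurj : Function.Surjective (Ideal.Quotient.mk (Ic k n)) := Ideal.Quotient.mk_surjective
  have h1 : nilradical (MvPolynomial (Fin n × Fin n) k ⧸ Ic k n) =
      Ideal.map (Ideal.Quotient.mk (Ic k n)) (Ic k n).radical := by
    have h2 : Ideal.comap (Ideal.Quotient.mk (Ic k n))
        (nilradical (MvPolynomial (Fin n × Fin n) k ⧸ Ic k n)) = (Ic k n).radical := by
      rw [nilradical, Ideal.comap_radical, Ideal.zero_eq_bot, ← RingHom.ker_eq_comap_bot,
        Ideal.mk_ker]
    rw [← h2, Ideal.map_comap_of_surjective _ hsurj]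
  rw [h1, radical_Ic]
  apply Ideal.map_isPrime_of_surjective hsurj
  rw [Ideal.mk_ker]
  exact Ic_le_ker k n

theorem mem_minimalPrimes : RingHom.ker (Psi k n n) ∈ (Ic k n).minimalPrimes := by
  refine ⟨⟨inferInstance, Ic_le_ker k n⟩, ?_⟩
  rintro Q ⟨hQ1, hQ2⟩ _
  haveI := hQ1
  exact ker_le_of_prime k n Q hQ2

theorem height_ker : (RingHom.ker (Psi k n n)).height = n := by
  classical
  apply le_antisymm
  · have h1 : Ic k n = Ideal.span
        ((Finset.univ.image (fun i : Fin n => cc k n (i : ℕ)) : Finset _) : Set _) := by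
      simp [Ic]
    have h2 := mem_minimalPrimes k n
    rw [h1] at h2
    refine (Ideal.height_le_card_of_mem_minimalPrimes_span_finset h2).trans ?_
    have := Finset.card_image_le (s := (Finset.univ : Finset (Fin n)))
      (f := fun i : Fin n => cc k n (i : ℕ))
    rw [Finset.card_univ, Fintype.card_fin] at this
    exact_mod_cast this
  · exact le_height_ker_Psi k n

theorem dim : ringKrullDim (MvPolynomial (Fin n × Fin n) k ⧸ Ic k n) =
    ((n ^ 2 - n : ℕ) : WithBot ℕ∞) := by
  have h0 : ringKrullDim (MvPolynomial (Fin n × Fin n) k ⧸ Ic k n) =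
      ringKrullDim (MvPolynomial (Fin n × Fin n) k ⧸ RingHom.ker (Psi k n n)) := by
    rw [ringKrullDim_quotient, ringKrullDim_quotient, ← PrimeSpectrum.zeroLocus_radical,
      radical_Ic]
  rw [h0]
  let D := MvPolynomial (Fin n × Fin n) k ⧸ RingHom.ker (Psi k n n)
  have : Algebra.FiniteType k D :=
    Algebra.FiniteType.of_surjective (Ideal.Quotient.mkₐ k _) (Ideal.Quotient.mkₐ_surjective k _)
  obtain ⟨d, hd1, hd2, -⟩ := Groth.Agent.Lib.Helper73.DimFormula.exists_trdeg_eq_ringKrullDim k D
  change ringKrullDim D = _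
  rw [hd2]
  have h1 := Groth.Agent.Lib.Helper73.DimFormula.height_add_trdeg_eq_of_field k
    (MvPolynomial (Fin n × Fin n) k) (RingHom.ker (Psi k n n))
  rw [height_ker, hd1, MvPolynomial.trdeg_of_isDomain, Cardinal.mk_fintype,
    Cardinal.lift_natCast] at h1
  simp only [Fintype.card_prod, Fintype.card_fin, Cardinal.ofENat_nat] at h1
  have h2 : n + d = n * n := by
    apply Nat.cast_injective (R := Cardinal.{u})
    push_cast
    rw [h1]
    push_cast
    rfl
  have h3 : d = n ^ 2 - n := by
    rw [pow_two]; omega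
  rw [h3]

end main

end Groth.Agent.Lib.Helper64.Nil
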