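import Groth.Prelude.Def_W4c5modbuncurvesppStab
import Mathlib

/-!
# PhiStab helper library (helper64), part A

Combinatorial identities for the stability function
`hh S = degOn S - Σ_{v∈S} φ v + cut S / 2`, connectivity inside induced subgraphs,
and the reduction of (semi)stability to elementary vertex sets.
-/

set_option autoImplicit false

namespace Groth.Agent.Lib.Helper64.PhiStabA

open PhiStab LabGraph

universe u
variable {V E : Type u} [Fintype V] [Fintype E] [DecidableEq V] [DecidableEq E]

/-- The set of edges with exactly one endpoint in `Y`. -/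
def cutSet (ends : E → V × V) (Y : Finset V) : Finset E :=
  Finset.univ.filter (fun e : E =>
    ((ends e).1 ∈ Y ∧ (ends e).2 ∉ Y) ∨ ((ends e).1 ∉ Y ∧ (ends e).2 ∈ Y))

lemma cut_eq_card (ends : E → V × V) (Y : Finset V) : cut ends Y = (cutSet ends Y).card := rfl

lemma mem_cutSet {ends : E → V × V} {Y : Finset V} {e : E} :
    e ∈ cutSet ends Y ↔
      ((ends e).1 ∈ Y ∧ (ends e).2 ∉ Y) ∨ ((ends e).1 ∉ Y ∧ (ends e).2 ∈ Y) := by
  simp [cutSet]

lemma mem_inner {ends : E → V × V} {Y : Finset V} {e : E} :
    e ∈ inner ends Y ↔ (ends e).1 ∈ Y ∧ (ends e).2 ∈ Y := by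
  simp [PhiStab.inner]

/-- No edge joins `A` and `B`. -/
def NoCross (ends : E → V × V) (A B : Finset V) : Prop :=
  ∀ e : E, ¬((ends e).1 ∈ A ∧ (ends e).2 ∈ B) ∧ ¬((ends e).1 ∈ B ∧ (ends e).2 ∈ A)

lemma inner_union {ends : E → V × V} {A B : Finset V} (hn : NoCross ends A B) :
    inner ends (A ∪ B) = inner ends A ∪ inner ends B := by
  ext e
  simp only [mem_inner, Finset.mem_union]
  have := hn e
  tauto

lemma disjoint_inner {ends : E → V × V} {A B : Finset V} (hd : Disjoint A B) :
    Disjoint (inner ends A) (inner ends B) := by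
  rw [Finset.disjoint_left]
  intro e h1 h2
  rw [mem_inner] at h1 h2
  exact (Finset.disjoint_left.mp hd h1.1 h2.1)

lemma cutSet_union {ends : E → V × V} {A B : Finset V} (hd : Disjoint A B)
    (hn : NoCross ends A B) :
    cutSet ends (A ∪ B) = cutSet ends A ∪ cutSet ends B := by
  ext e
  simp only [mem_cutSet, Finset.mem_union]
  have := hn e
  have h1 : ∀ v, v ∈ A → v ∉ B := fun v hv => Finset.disjoint_left.mp hd hv
  have := h1 (ends e).1
  have := h1 (ends e).2
  tauto

lemma disjoint_cutSet {ends : E → V × V} {A B : Finset V} (hd : Disjoint A B)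
    (hn : NoCross ends A B) :
    Disjoint (cutSet ends A) (cutSet ends B) := by
  rw [Finset.disjoint_left]
  intro e h1 h2
  rw [mem_cutSet] at h1 h2
  have := hn e
  have h1' : ∀ v, v ∈ A → v ∉ B := fun v hv => Finset.disjoint_left.mp hd hv
  have := h1' (ends e).1
  have := h1' (ends e).2
  tauto

lemma cutSet_compl (ends : E → V × V) (S : Finset V) : cutSet ends Sᶜ = cutSet ends S := by
  ext e
  simp only [mem_cutSet, Finset.mem_compl]
  tauto

lemma cut_compl (ends : E → V × V) (S : Finset V) : cut ends Sᶜ = cut ends S := by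
  rw [cut_eq_card, cut_eq_card, cutSet_compl]

lemma cut_union {ends : E → V × V} {A B : Finset V} (hd : Disjoint A B)
    (hn : NoCross ends A B) : cut ends (A ∪ B) = cut ends A + cut ends B := by
  rw [cut_eq_card, cut_eq_card, cut_eq_card, cutSet_union hd hn,
    Finset.card_union_of_disjoint (disjoint_cutSet hd hn)]

/-- The stability function. -/
noncomputable def hh (ends : E → V × V) (φ : V → ℝ) (m : V → ℤ) (N : Finset E)
    (S : Finset V) : ℝ :=
  (degOn ends m N S : ℝ) - (∑ v ∈ S, φ v) + (cut ends S : ℝ) / 2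

noncomputable def kk (ends : E → V × V) (N : Finset E) (S : Finset V) : ℝ :=
  (cut ends S : ℝ) - ((N ∩ cutSet ends S).card : ℝ)

lemma degOn_union {ends : E → V × V} (m : V → ℤ) (N : Finset E) {A B : Finset V}
    (hd : Disjoint A B) (hn : NoCross ends A B) :
    degOn ends m N (A ∪ B) = degOn ends m N A + degOn ends m N B := by
  unfold degOn
  rw [Finset.sum_union hd, inner_union hn, Finset.inter_union_distrib_left,
    Finset.card_union_of_disjoint]
  · push_cast; ring
  · exact Finset.disjoint_of_subset_left Finset.inter_subset_right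
      (Finset.disjoint_of_subset_right Finset.inter_subset_right (disjoint_inner hd))

lemma hh_union {ends : E → V × V} (φ : V → ℝ) (m : V → ℤ) (N : Finset E) {A B : Finset V}
    (hd : Disjoint A B) (hn : NoCross ends A B) :
    hh ends φ m N (A ∪ B) = hh ends φ m N A + hh ends φ m N B := by
  unfold hh
  rw [degOn_union m N hd hn, Finset.sum_union hd, cut_union hd hn]
  push_cast
  ring

lemma kk_union {ends : E → V × V} (N : Finset E) {A B : Finset V}
    (hd : Disjoint A B) (hn : NoCross ends A B) :
    kk ends N (A ∪ B) = kk ends N A + kk ends N B := by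
  unfold kk
  rw [cut_union hd hn, cutSet_union hd hn, Finset.inter_union_distrib_left,
    Finset.card_union_of_disjoint]
  · push_cast; ring
  · exact Finset.disjoint_of_subset_left Finset.inter_subset_right
      (Finset.disjoint_of_subset_right Finset.inter_subset_right (disjoint_cutSet hd hn))

lemma kk_compl (ends : E → V × V) (N : Finset E) (S : Finset V) :
    kk ends N Sᶜ = kk ends N S := by
  unfold kk
  rw [cut_compl, cutSet_compl]

lemma card_partition (ends : E → V × V) (N : Finset E) (S : Finset V) :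
    N.card = (N ∩ inner ends S).card + (N ∩ inner ends Sᶜ).card + (N ∩ cutSet ends S).card := by
  have h1 : ∀ X : Finset E, (N ∩ X).card = ∑ e ∈ N, (if e ∈ X then 1 else 0) := by
    intro X
    rw [Finset.sum_boole, Finset.filter_mem_eq_inter]
    simp
  rw [h1, h1, h1, ← Finset.sum_add_distrib, ← Finset.sum_add_distrib, Finset.card_eq_sum_ones]
  refine Finset.sum_congr rfl fun e _ => ?_
  simp only [mem_inner, mem_cutSet, Finset.mem_compl]
  by_cases h1 : (ends e).1 ∈ S <;> by_cases h2 : (ends e).2 ∈ S <;> simp [h1, h2]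

lemma hh_compl {ends : E → V × V} {φ : V → ℝ} {m : V → ℤ} {N : Finset E}
    (hdeg : (∑ v : V, φ v) = (totDeg m N : ℝ)) (S : Finset V) :
    hh ends φ m N S + hh ends φ m N Sᶜ = kk ends N S := by
  unfold hh kk degOn
  rw [cut_compl]
  have h1 : (∑ v ∈ S, φ v) + (∑ v ∈ Sᶜ, φ v) = ∑ v : V, φ v := Finset.sum_add_sum_compl S φ
  have h2 : (∑ v ∈ S, m v) + (∑ v ∈ Sᶜ, m v) = ∑ v : V, m v := Finset.sum_add_sum_compl S m
  have h3 := card_partition ends N S
  have h4 : (totDeg m N : ℝ) = ((∑ v : V, m v : ℤ) : ℝ) + (N.card : ℝ) := by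
    unfold totDeg; push_cast; ring
  have h2' : ((∑ v ∈ S, m v : ℤ) : ℝ) + ((∑ v ∈ Sᶜ, m v : ℤ) : ℝ) = ((∑ v : V, m v : ℤ) : ℝ) := by
    rw [← h2]; push_cast; ring
  have h3' : (N.card : ℝ) = ((N ∩ inner ends S).card : ℝ) + ((N ∩ inner ends Sᶜ).card : ℝ)
      + ((N ∩ cutSet ends S).card : ℝ) := by
    exact_mod_cast h3
  push_cast
  push_cast at h2' h4
  linarith

lemma hh_of_compl_split {ends : E → V × V} {φ : V → ℝ} {m : V → ℤ} {N : Finset E}
    (hdeg : (∑ v : V, φ v) = (totDeg m N : ℝ)) {S A B : Finset V}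
    (hAB : A ∪ B = Sᶜ) (hd : Disjoint A B) (hn : NoCross ends A B) :
    hh ends φ m N S = hh ends φ m N Aᶜ + hh ends φ m N Bᶜ := by
  have e1 := hh_compl (ends := ends) hdeg S
  have e2 := hh_compl (ends := ends) hdeg A
  have e3 := hh_compl (ends := ends) hdeg B
  have e4 := hh_union (ends := ends) φ m N hd hn
  have e5 := kk_union (ends := ends) N hd hn
  have e6 := kk_compl ends N S
  rw [hAB] at e4 e5
  linarith

/-! ### Connectivity inside a vertex set -/

lemma rtg_mono {α : Type*} {r p : α → α → Prop} (h : ∀ a b, r a b → p a b) {a b : α}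
    (hab : Relation.ReflTransGen r a b) : Relation.ReflTransGen p a b := by
  induction hab with
  | refl => exact Relation.ReflTransGen.refl
  | tail _ h2 ih => exact ih.tail (h _ _ h2)

lemma rtg_lift {α β : Type*} {r : α → α → Prop} {p : β → β → Prop} (f : α → β)
    (h : ∀ a b, r a b → p (f a) (f b)) {a b : α}
    (hab : Relation.ReflTransGen r a b) : Relation.ReflTransGen p (f a) (f b) := by
  induction hab with
  | refl => exact Relation.ReflTransGen.refl
  | tail _ h2 ih => exact ih.tail (h _ _ h2)

lemma rtg_symm {α : Type*} {r : α → α → Prop} (h : ∀ a b, r a b → r b a) {a b : α}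
    (hab : Relation.ReflTransGen r a b) : Relation.ReflTransGen r b a := by
  induction hab with
  | refl => exact Relation.ReflTransGen.refl
  | tail _ h2 ih => exact Relation.ReflTransGen.head (h _ _ h2) ih

/-- Adjacency inside the vertex set `X`. -/
def RX (ends : E → V × V) (X : Finset V) (a b : V) : Prop := a ∈ X ∧ b ∈ X ∧ Adj ends a b

/-- The induced subgraph on `X` is connected (stated on `V`). -/
def ConnIn (ends : E → V × V) (X : Finset V) : Prop :=
  X.Nonempty ∧ ∀ u ∈ X, ∀ w ∈ X, Relation.ReflTransGen (RX ends X) u w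

lemma adj_symm {ends : E → V × V} {a b : V} (h : Adj ends a b) : Adj ends b a := by
  obtain ⟨e, he⟩ := h
  exact ⟨e, he.symm⟩

lemma rx_symm (ends : E → V × V) (X : Finset V) : ∀ a b, RX ends X a b → RX ends X b a := by
  intro a b h
  exact ⟨h.2.1, h.1, adj_symm h.2.2⟩

lemma adj_indEnds_iff (ends : E → V × V) (X : Finset V) (a b : {v : V // v ∈ X}) :
    Adj (indEnds ends X) a b ↔ Adj ends a.1 b.1 := by
  constructor
  · rintro ⟨⟨e, he⟩, h⟩
    refine ⟨e, ?_⟩
    rcases h with h | h
    · left
      have h1 := congrArg (fun p => (p.1.1, p.2.1)) h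
      simpa [indEnds] using h1
    · right
      have h1 := congrArg (fun p => (p.1.1, p.2.1)) h
      simpa [indEnds] using h1
  · rintro ⟨e, h⟩
    have he : e ∈ inner ends X := by
      rw [mem_inner]
      rcases h with h | h
      · rw [h]; exact ⟨a.2, b.2⟩
      · rw [h]; exact ⟨b.2, a.2⟩
    refine ⟨⟨e, he⟩, ?_⟩
    rcases h with h | h
    · left
      apply Prod.ext <;> apply Subtype.ext <;> simp [indEnds, h]
    · right
      apply Prod.ext <;> apply Subtype.ext <;> simp [indEnds, h]

lemma connected_indEnds_iff (ends : E → V × V) (X : Finset V) :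
    Connected (indEnds ends X) ↔ ConnIn ends X := by
  constructor
  · rintro ⟨⟨v⟩, h⟩
    refine ⟨⟨v.1, v.2⟩, fun u hu w hw => ?_⟩
    have := h ⟨u, hu⟩ ⟨w, hw⟩
    exact rtg_lift (p := RX ends X) Subtype.val
      (fun a b hab => ⟨a.2, b.2, (adj_indEnds_iff ends X a b).mp hab⟩) this
  · rintro ⟨⟨v, hv⟩, h⟩
    refine ⟨⟨⟨v, hv⟩⟩, fun a b => ?_⟩
    have key : ∀ y : V, Relation.ReflTransGen (RX ends X) a.1 y → ∀ hy : y ∈ X,
        Relation.ReflTransGen (Adj (indEnds ends X)) a ⟨y, hy⟩ := by
      intro y hy
      induction hy with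
      | refl => intro _; exact Relation.ReflTransGen.refl
      | tail _ hbc ih =>
        intro hy
        exact Relation.ReflTransGen.tail (ih hbc.1)
          ((adj_indEnds_iff ends X ⟨_, hbc.1⟩ ⟨_, hy⟩).mpr hbc.2.2)
    exact key b.1 (h a.1 a.2 b.1 b.2) b.2

lemma exists_split {ends : E → V × V} {X : Finset V} (hne : X.Nonempty)
    (hnc : ¬ ConnIn ends X) :
    ∃ A B : Finset V, A.Nonempty ∧ B.Nonempty ∧ Disjoint A B ∧ A ∪ B = X ∧ NoCross ends A B := by
  classical
  obtain ⟨v, hv⟩ := hne
  let A := X.filter (fun u => Relation.ReflTransGen (RX ends X) v u)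
  let B := X.filter (fun u => ¬ Relation.ReflTransGen (RX ends X) v u)
  have hAmem : ∀ u, u ∈ A ↔ u ∈ X ∧ Relation.ReflTransGen (RX ends X) v u := by
    intro u; simp [A]
  have hBmem : ∀ u, u ∈ B ↔ u ∈ X ∧ ¬ Relation.ReflTransGen (RX ends X) v u := by
    intro u; simp [B]
  have hsym : ∀ {a b : V}, Relation.ReflTransGen (RX ends X) a b →
      Relation.ReflTransGen (RX ends X) b a := fun h => rtg_symm (rx_symm ends X) h
  refine ⟨A, B, ⟨v, (hAmem v).mpr ⟨hv, Relation.ReflTransGen.refl⟩⟩, ?_, ?_, ?_, ?_⟩
  · by_contra hB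
    rw [Finset.not_nonempty_iff_eq_empty] at hB
    apply hnc
    refine ⟨⟨v, hv⟩, fun u hu w hw => ?_⟩
    have hu' : Relation.ReflTransGen (RX ends X) v u := by
      by_contra h
      have : u ∈ B := (hBmem u).mpr ⟨hu, h⟩
      rw [hB] at this
      exact absurd this (Finset.notMem_empty u)
    have hw' : Relation.ReflTransGen (RX ends X) v w := by
      by_contra h
      have : w ∈ B := (hBmem w).mpr ⟨hw, h⟩
      rw [hB] at this
      exact absurd this (Finset.notMem_empty w)
    exact (hsym hu').trans hw'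
  · rw [Finset.disjoint_left]
    intro u h1 h2
    exact ((hBmem u).mp h2).2 ((hAmem u).mp h1).2
  · ext u
    rw [Finset.mem_union, hAmem, hBmem]
    tauto
  · intro e
    constructor
    · rintro ⟨h1, h2⟩
      rw [hAmem] at h1
      rw [hBmem] at h2
      apply h2.2
      exact h1.2.tail ⟨h1.1, h2.1, ⟨e, Or.inl rfl⟩⟩
    · rintro ⟨h1, h2⟩
      rw [hBmem] at h1
      rw [hAmem] at h2
      apply h1.2
      exact h2.2.tail ⟨h2.1, h1.1, ⟨e, Or.inr rfl⟩⟩

lemma connIn_union {ends : E → V × V} {S A B : Finset V} (hG : ConnIn ends Finset.univ)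
    (hS : ConnIn ends S) (hAB : A ∪ B = Sᶜ) (hn : NoCross ends A B) :
    ConnIn ends (S ∪ B) := by
  obtain ⟨s₀, hs₀⟩ := hS.1
  have hsym : ∀ {a b : V}, Relation.ReflTransGen (RX ends (S ∪ B)) a b →
      Relation.ReflTransGen (RX ends (S ∪ B)) b a := fun h => rtg_symm (rx_symm ends (S ∪ B)) h
  have hmono : ∀ a b, RX ends S a b → RX ends (S ∪ B) a b := fun a b h =>
    ⟨Finset.mem_union_left _ h.1, Finset.mem_union_left _ h.2.1, h.2.2⟩
  have key : ∀ y, Relation.ReflTransGen (RX ends Finset.univ) y s₀ → y ∈ S ∪ B →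
      Relation.ReflTransGen (RX ends (S ∪ B)) y s₀ := by
    intro y hy
    refine Relation.ReflTransGen.head_induction_on
      (motive := fun y _ => y ∈ S ∪ B → Relation.ReflTransGen (RX ends (S ∪ B)) y s₀) hy ?_ ?_
    · intro _; exact Relation.ReflTransGen.refl
    · intro y z hyz _ ih hyS
      by_cases hyS' : y ∈ S
      · exact rtg_mono hmono (hS.2 y hyS' s₀ hs₀)
      · have hyB : y ∈ B := by
          rcases Finset.mem_union.mp hyS with h | h
          · exact absurd h hyS'
          · exact h
        by_cases hz : z ∈ S ∪ B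
        · exact Relation.ReflTransGen.head ⟨hyS, hz, hyz.2.2⟩ (ih hz)
        · exfalso
          have hzS : z ∉ S := fun h => hz (Finset.mem_union_left _ h)
          have hzB : z ∉ B := fun h => hz (Finset.mem_union_right _ h)
          have hzA : z ∈ A := by
            have : z ∈ A ∪ B := by rw [hAB]; exact Finset.mem_compl.mpr hzS
            rcases Finset.mem_union.mp this with h | h
            · exact h
            · exact absurd h hzB
          obtain ⟨e, he⟩ := hyz.2.2
          have := hn e
          rcases he with he | he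
          · rw [he] at this; exact this.2 ⟨hyB, hzA⟩
          · rw [he] at this; exact this.1 ⟨hzA, hyB⟩
  refine ⟨⟨s₀, Finset.mem_union_left _ hs₀⟩, fun u hu w hw => ?_⟩
  have h1 := key u (hG.2 u (Finset.mem_univ _) s₀ (Finset.mem_univ _)) hu
  have h2 := key w (hG.2 w (Finset.mem_univ _) s₀ (Finset.mem_univ _)) hw
  exact h1.trans (hsym h2)

lemma connIn_univ_of_connected {ends : E → V × V} (h : Connected ends) :
    ConnIn ends Finset.univ := by
  obtain ⟨⟨v⟩, h2⟩ := h
  exact ⟨⟨v, Finset.mem_univ _⟩, fun u _ w _ =>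
    rtg_mono (p := RX ends Finset.univ)
      (fun a b hab => ⟨Finset.mem_univ _, Finset.mem_univ _, hab⟩) (h2 u w)⟩

/-- Reduction to elementary sets. -/
theorem key (ends : E → V × V) (φ : V → ℝ) (m : V → ℤ) (N : Finset E)
    (hconn : Connected ends) (hdeg : (∑ v : V, φ v) = (totDeg m N : ℝ))
    (P : ℝ → Prop) (hP : ∀ x y, P x → P y → P (x + y))
    (hel : ∀ S : Finset V, IsElementary ends S → P (hh ends φ m N S)) :
    ∀ S : Finset V, S.Nonempty → S ≠ Finset.univ → P (hh ends φ m N S) := by
  have hG := connIn_univ_of_connected hconn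
  have step1 : ∀ n : ℕ, ∀ S : Finset V, Sᶜ.card = n → ConnIn ends S → S ≠ Finset.univ →
      P (hh ends φ m N S) := by
    intro n
    induction n using Nat.strong_induction_on with
    | _ n ih =>
      intro S hcard hS hSu
      by_cases hc : ConnIn ends Sᶜ
      · exact hel S ⟨(connected_indEnds_iff ends S).mpr hS, (connected_indEnds_iff ends Sᶜ).mpr hc⟩
      · have hne : Sᶜ.Nonempty := by
          rw [Finset.nonempty_iff_ne_empty]
          intro h
          exact hSu (Finset.compl_eq_empty_iff S |>.mp h)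
        obtain ⟨A, B, hA, hB, hd, hAB, hn⟩ := exists_split hne hc
        have hAc : Aᶜ = S ∪ B := by
          ext x
          have h1 : x ∈ A ∪ B ↔ x ∉ S := by rw [hAB]; exact Finset.mem_compl
          have h2 : x ∈ A → x ∉ B := fun h => Finset.disjoint_left.mp hd h
          simp only [Finset.mem_compl, Finset.mem_union] at h1 ⊢
          tauto
        have hBc : Bᶜ = S ∪ A := by
          ext x
          have h1 : x ∈ A ∪ B ↔ x ∉ S := by rw [hAB]; exact Finset.mem_compl
          have h2 : x ∈ A → x ∉ B := fun h => Finset.disjoint_left.mp hd h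
          simp only [Finset.mem_compl, Finset.mem_union] at h1 ⊢
          tauto
        rw [hh_of_compl_split hdeg hAB hd hn]
        have hcA : A.card < n := by
          rw [← hcard, ← hAB, Finset.card_union_of_disjoint hd]
          have := Finset.card_pos.mpr hB
          omega
        have hcB : B.card < n := by
          rw [← hcard, ← hAB, Finset.card_union_of_disjoint hd]
          have := Finset.card_pos.mpr hA
          omega
        apply hP
        · apply ih A.card hcA Aᶜ (by rw [compl_compl])
          · rw [hAc]; exact connIn_union hG hS hAB hn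
          · intro h
            rw [Finset.compl_eq_univ_iff] at h
            rw [h] at hA
            exact Finset.not_nonempty_empty hA
        · apply ih B.card hcB Bᶜ (by rw [compl_compl])
          · rw [hBc]
            have hn' : NoCross ends B A := fun e => ⟨(hn e).2, (hn e).1⟩
            exact connIn_union hG hS (by rw [Finset.union_comm]; exact hAB) hn'
          · intro h
            rw [Finset.compl_eq_univ_iff] at h
            rw [h] at hB
            exact Finset.not_nonempty_empty hB
  intro S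
  induction' hn : S.card using Nat.strong_induction_on with n ih generalizing S
  intro hne hSu
  by_cases hc : ConnIn ends S
  · exact step1 _ S rfl hc hSu
  · obtain ⟨A, B, hA, hB, hd, hAB, hnc⟩ := exists_split hne hc
    rw [← hAB, hh_union φ m N hd hnc]
    have hcard : A.card + B.card = n := by
      rw [← hn, ← hAB, Finset.card_union_of_disjoint hd]
    have hcA := Finset.card_pos.mpr hA
    have hcB := Finset.card_pos.mpr hB
    apply hP
    · apply ih A.card (by omega) A rfl hA
      intro h
      apply hSu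
      rw [← hAB, h]
      ext x; simp
    · apply ih B.card (by omega) B rfl hB
      intro h
      apply hSu
      rw [← hAB, h]
      ext x; simp

lemma isElementary_nonempty {ends : E → V × V} {S : Finset V} (h : IsElementary ends S) :
    S.Nonempty ∧ S ≠ Finset.univ := by
  obtain ⟨h1, h2⟩ := h
  rw [connected_indEnds_iff] at h1 h2
  refine ⟨h1.1, fun hu => ?_⟩
  have := h2.1
  rw [hu] at this
  simp at this

lemma le_iff_hh {ends : E → V × V} {φ : V → ℝ} {m : V → ℤ} {N : Finset E} {S : Finset V} :
    (∑ v ∈ S, φ v) - (cut ends S : ℝ) / 2 ≤ (degOn ends m N S : ℝ) ↔ 0 ≤ hh ends φ m N S := by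
  unfold hh
  constructor <;> intro h <;> linarith

lemma lt_iff_hh {ends : E → V × V} {φ : V → ℝ} {m : V → ℤ} {N : Finset E} {S : Finset V} :
    (∑ v ∈ S, φ v) - (cut ends S : ℝ) / 2 < (degOn ends m N S : ℝ) ↔ 0 < hh ends φ m N S := by
  unfold hh
  constructor <;> intro h <;> linarith

theorem semistable_iff (ends : E → V × V) (hconn : Connected ends)
    (φ : V → ℝ) (m : V → ℤ) (N : Finset E) (hdeg : (∑ v : V, φ v) = (totDeg m N : ℝ)) :
    IsSemistable ends φ m N ↔
      ∀ S : Finset V, IsElementary ends S →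
        (∑ v ∈ S, φ v) - (cut ends S : ℝ) / 2 ≤ (degOn ends m N S : ℝ) := by
  constructor
  · intro h S hS
    exact h S (isElementary_nonempty hS).1 (isElementary_nonempty hS).2
  · intro h S hne hSu
    rw [le_iff_hh]
    exact key ends φ m N hconn hdeg (fun x => 0 ≤ x) (fun x y hx hy => add_nonneg hx hy)
      (fun S hS => le_iff_hh.mp (h S hS)) S hne hSu

theorem stable_iff (ends : E → V × V) (hconn : Connected ends)
    (φ : V → ℝ) (m : V → ℤ) (N : Finset E) (hdeg : (∑ v : V, φ v) = (totDeg m N : ℝ)) :
    IsStable ends φ m N ↔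
      ∀ S : Finset V, IsElementary ends S →
        (∑ v ∈ S, φ v) - (cut ends S : ℝ) / 2 < (degOn ends m N S : ℝ) := by
  constructor
  · intro h S hS
    exact h S (isElementary_nonempty hS).1 (isElementary_nonempty hS).2
  · intro h S hne hSu
    rw [lt_iff_hh]
    exact key ends φ m N hconn hdeg (fun x => 0 < x) (fun x y hx hy => add_pos hx hy)
      (fun S hS => lt_iff_hh.mp (h S hS)) S hne hSu

end Groth.Agent.Lib.Helper64.PhiStabA
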