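import Groth.Agent.Lib.Helper64.PhiStabA

/-!
# PhiStab helper library (helper64), part B

Real boundary map of a multigraph, surjectivity onto sum-zero vectors for connected graphs,
fractional orientations and the construction of a semistable datum with prescribed
degree on an elementary vertex set.
-/

set_option autoImplicit false

namespace Groth.Agent.Lib.Helper64.PhiStabB

open PhiStab LabGraph Groth.Agent.Lib.Helper64.PhiStabA

universe u
variable {V E : Type u} [Fintype V] [Fintype E] [DecidableEq V] [DecidableEq E]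

/-- Real boundary map as a linear map. -/
noncomputable def bdryL (ends : E → V × V) : (E → ℝ) →ₗ[ℝ] (V → ℝ) where
  toFun γ v := ∑ e : E, ((if (ends e).2 = v then γ e else 0) - (if (ends e).1 = v then γ e else 0))
  map_add' γ γ' := by
    funext v
    simp only [Pi.add_apply]
    rw [← Finset.sum_add_distrib]
    refine Finset.sum_congr rfl fun e _ => ?_
    split_ifs <;> ring
  map_smul' c γ := by
    funext v
    simp only [Pi.smul_apply, smul_eq_mul, RingHom.id_apply]
    rw [Finset.mul_sum]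
    refine Finset.sum_congr rfl fun e _ => ?_
    split_ifs <;> ring

noncomputable def bdry (ends : E → V × V) (γ : E → ℝ) (v : V) : ℝ := bdryL ends γ v

lemma bdry_apply (ends : E → V × V) (γ : E → ℝ) (v : V) :
    bdry ends γ v =
      ∑ e : E, ((if (ends e).2 = v then γ e else 0) - (if (ends e).1 = v then γ e else 0)) := rfl

lemma bdry_add (ends : E → V × V) (γ γ' : E → ℝ) (v : V) :
    bdry ends (γ + γ') v = bdry ends γ v + bdry ends γ' v := by
  unfold bdry; rw [map_add]; rfl

lemma bdry_sub (ends : E → V × V) (γ γ' : E → ℝ) (v : V) :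
    bdry ends (γ - γ') v = bdry ends γ v - bdry ends γ' v := by
  unfold bdry; rw [map_sub]; rfl

/-- Signed incidence of an edge with a vertex set. -/
noncomputable def sg (ends : E → V × V) (S : Finset V) (e : E) : ℝ :=
  (if (ends e).2 ∈ S then 1 else 0) - (if (ends e).1 ∈ S then 1 else 0)

omit [Fintype V] [Fintype E] [DecidableEq E] in
lemma sg_abs_le (ends : E → V × V) (S : Finset V) (e : E) : |sg ends S e| ≤ 1 := by
  unfold sg
  split_ifs <;> norm_num

lemma sg_eq_zero_of_notMem {ends : E → V × V} {S : Finset V} {e : E}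
    (h : e ∉ cutSet ends S) : sg ends S e = 0 := by
  rw [mem_cutSet] at h
  unfold sg
  by_cases h1 : (ends e).1 ∈ S <;> by_cases h2 : (ends e).2 ∈ S <;> simp [h1, h2] at h ⊢

lemma sg_mul_self_of_mem {ends : E → V × V} {S : Finset V} {e : E}
    (h : e ∈ cutSet ends S) : sg ends S e * sg ends S e = 1 := by
  rw [mem_cutSet] at h
  unfold sg
  by_cases h1 : (ends e).1 ∈ S <;> by_cases h2 : (ends e).2 ∈ S <;> simp [h1, h2] at h ⊢

lemma sum_bdry (ends : E → V × V) (γ : E → ℝ) (S : Finset V) :
    ∑ v ∈ S, bdry ends γ v = ∑ e : E, γ e * sg ends S e := by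
  simp only [bdry_apply]
  rw [Finset.sum_comm]
  refine Finset.sum_congr rfl fun e _ => ?_
  rw [Finset.sum_sub_distrib, Finset.sum_ite_eq, Finset.sum_ite_eq]
  unfold sg
  split_ifs <;> ring

lemma sum_bdry_univ (ends : E → V × V) (γ : E → ℝ) : ∑ v : V, bdry ends γ v = 0 := by
  rw [sum_bdry]
  refine Finset.sum_eq_zero fun e _ => ?_
  unfold sg
  simp

/-- For a connected multigraph the real boundary map is onto the sum-zero vectors. -/
lemma exists_bdry_eq (ends : E → V × V) (hc : Connected ends) (ρ : V → ℝ)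
    (hρ : ∑ v : V, ρ v = 0) : ∃ β : E → ℝ, ∀ v, bdry ends β v = ρ v := by
  suffices h : ρ ∈ LinearMap.range (bdryL ends) by
    obtain ⟨β, hβ⟩ := h
    exact ⟨β, fun v => congrFun hβ v⟩
  rw [← Subspace.forall_mem_dualAnnihilator_apply_eq_zero_iff]
  intro ψ hψ
  rw [Submodule.mem_dualAnnihilator] at hψ
  set a : V → ℝ := fun v => ψ (fun j => if v = j then 1 else 0) with ha
  have hψ' : ∀ x : V → ℝ, ψ x = ∑ v, x v * a v := by
    intro x
    rw [LinearMap.pi_apply_eq_sum_univ ψ x]
    simp [ha, smul_eq_mul]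
  have hedge : ∀ e : E, a (ends e).2 = a (ends e).1 := by
    intro e
    have h1 := hψ (bdryL ends (fun e' => if e' = e then 1 else 0)) (LinearMap.mem_range_self _ _)
    rw [hψ'] at h1
    have h2 : ∀ v, bdryL ends (fun e' => if e' = e then (1:ℝ) else 0) v =
        (if (ends e).2 = v then 1 else 0) - (if (ends e).1 = v then 1 else 0) := by
      intro v
      show ∑ e' : E, ((if (ends e').2 = v then (if e' = e then (1:ℝ) else 0) else 0) -
        (if (ends e').1 = v then (if e' = e then (1:ℝ) else 0) else 0)) = _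
      rw [Finset.sum_eq_single e]
      · simp
      · intro e' _ hne
        simp [hne]
      · intro h; exact absurd (Finset.mem_univ e) h
    simp only [h2, sub_mul, Finset.sum_sub_distrib, ite_mul, one_mul, zero_mul,
      Finset.sum_ite_eq, Finset.mem_univ, if_true] at h1
    linarith
  have hadj : ∀ u w, Adj ends u w → a u = a w := by
    rintro u w ⟨e, he | he⟩
    · have := hedge e; rw [he] at this; exact this.symm
    · have := hedge e; rw [he] at this; exact this
  have hconst : ∀ u w, a u = a w := by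
    intro u w
    have := hc.2 u w
    induction this with
    | refl => rfl
    | tail _ h2 ih => exact ih.trans (hadj _ _ h2)
  obtain ⟨⟨v₀⟩, _⟩ := hc
  rw [hψ']
  have : ∀ v, ρ v * a v = ρ v * a v₀ := fun v => by rw [hconst v v₀]
  rw [Finset.sum_congr rfl (fun v _ => this v), ← Finset.sum_mul, hρ, zero_mul]

lemma bdry_int (ends : E → V × V) (z : E → ℤ) (v : V) :
    ∃ k : ℤ, bdry ends (fun e => (z e : ℝ)) v = k := by
  refine ⟨∑ e : E, ((if (ends e).2 = v then z e else 0) - (if (ends e).1 = v then z e else 0)), ?_⟩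
  rw [bdry_apply]
  push_cast
  rfl

/-- Integrality version: a fractional orientation realising prescribed residues. -/
lemma exists_gamma (ends : E → V × V) (hc : Connected ends) (ψ : V → ℝ) (n : ℤ)
    (hs : ∑ v : V, ψ v = n) :
    ∃ γ : E → ℝ, (∀ e, |γ e| ≤ 1 / 2) ∧ ∀ v, ∃ k : ℤ, ψ v - bdry ends γ v = k := by
  obtain ⟨⟨v₀⟩, _⟩ := id hc
  set ρ : V → ℝ := fun v => ψ v - (if v = v₀ then (n : ℝ) else 0) with hρ
  have hρ0 : ∑ v : V, ρ v = 0 := by
    simp only [hρ, Finset.sum_sub_distrib, Finset.sum_ite_eq', Finset.mem_univ, if_true, hs]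
    ring
  obtain ⟨β, hβ⟩ := exists_bdry_eq ends hc ρ hρ0
  refine ⟨fun e => β e - (round (β e) : ℝ), fun e => abs_sub_round (β e), fun v => ?_⟩
  have h1 : (fun e => β e - (round (β e) : ℝ)) = β - (fun e => ((round (β e) : ℤ) : ℝ)) := rfl
  rw [h1, bdry_sub, hβ]
  obtain ⟨k, hk⟩ := bdry_int ends (fun e => round (β e)) v
  rw [hk]
  by_cases hv : v = v₀
  · refine ⟨n + k, ?_⟩
    simp only [hρ, hv, if_true]
    push_cast; ring
  · refine ⟨k, ?_⟩
    simp only [hρ, hv, if_false]
    ring

/-- Extension by zero of a function on a set of edges. -/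
noncomputable def extE (T : Finset E) (γ : {e : E // e ∈ T} → ℝ) : E → ℝ :=
  fun e => if h : e ∈ T then γ ⟨e, h⟩ else 0

lemma bdry_ext_mem (ends : E → V × V) (X : Finset V)
    (γ : {e : E // e ∈ PhiStab.inner ends X} → ℝ) (v : V) (hv : v ∈ X) :
    bdry ends (extE (PhiStab.inner ends X) γ) v = bdry (indEnds ends X) γ ⟨v, hv⟩ := by
  rw [bdry_apply, bdry_apply]
  have h0 : ∀ e : E, e ∉ PhiStab.inner ends X →
      ((if (ends e).2 = v then extE (PhiStab.inner ends X) γ e else 0) -
        (if (ends e).1 = v then extE (PhiStab.inner ends X) γ e else 0)) = 0 := by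
    intro e he
    simp [extE, he]
  rw [← Finset.sum_subset (Finset.subset_univ (PhiStab.inner ends X)) (fun e _ he => h0 e he),
    ← Finset.sum_coe_sort]
  refine Finset.sum_congr rfl fun e _ => ?_
  have h1 : extE (PhiStab.inner ends X) γ e.1 = γ e := by
    simp [extE, e.2]
  have h2 : ((indEnds ends X e).2 = ⟨v, hv⟩) ↔ (ends e.1).2 = v := by
    simp [indEnds, Subtype.ext_iff]
  have h3 : ((indEnds ends X e).1 = ⟨v, hv⟩) ↔ (ends e.1).1 = v := by
    simp [indEnds, Subtype.ext_iff]
  rw [h1]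
  simp only [h2, h3]

lemma bdry_ext_notMem (ends : E → V × V) (X : Finset V)
    (γ : {e : E // e ∈ PhiStab.inner ends X} → ℝ) (v : V) (hv : v ∉ X) :
    bdry ends (extE (PhiStab.inner ends X) γ) v = 0 := by
  rw [bdry_apply]
  refine Finset.sum_eq_zero fun e _ => ?_
  by_cases he : e ∈ PhiStab.inner ends X
  · have h := mem_inner.mp he
    have h1 : (ends e).2 ≠ v := fun h' => hv (h' ▸ h.2)
    have h2 : (ends e).1 ≠ v := fun h' => hv (h' ▸ h.1)
    simp [h1, h2]
  · simp [extE, he]

lemma exists_cut_edge {ends : E → V × V} (hc : Connected ends) {S : Finset V}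
    (hne : S.Nonempty) (hSu : S ≠ Finset.univ) : (cutSet ends S).Nonempty := by
  obtain ⟨s, hs⟩ := hne
  obtain ⟨t, ht⟩ : ∃ t, t ∉ S := by
    by_contra h
    apply hSu
    rw [Finset.eq_univ_iff_forall]
    intro x
    by_contra hx
    exact h ⟨x, hx⟩
  have key : ∀ y, Relation.ReflTransGen (Adj ends) y t → y ∈ S → (cutSet ends S).Nonempty := by
    intro y hy
    refine Relation.ReflTransGen.head_induction_on
      (motive := fun y _ => y ∈ S → (cutSet ends S).Nonempty) hy ?_ ?_
    · intro h; exact absurd h ht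
    · intro y z hyz _ ih hyS
      by_cases hz : z ∈ S
      · exact ih hz
      · obtain ⟨e, he⟩ := hyz
        refine ⟨e, mem_cutSet.mpr ?_⟩
        rcases he with he | he
        · rw [he]; exact Or.inl ⟨hyS, hz⟩
        · rw [he]; exact Or.inr ⟨hz, hyS⟩
  exact key s (hc.2 s t) hs

/-- A semistable datum from a fractional orientation. -/
lemma semistable_of_gamma (ends : E → V × V) (φ : V → ℝ) (γ : E → ℝ)
    (hγ : ∀ e, |γ e| ≤ 1 / 2) (m : V → ℤ) (hm : ∀ v, (m v : ℝ) = φ v - bdry ends γ v) :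
    IsSemistable ends φ m ∅ := by
  intro S _ _
  have h1 : (degOn ends m ∅ S : ℝ) = (∑ v ∈ S, φ v) - ∑ e : E, γ e * sg ends S e := by
    unfold degOn
    simp only [Finset.empty_inter, Finset.card_empty, Nat.cast_zero, add_zero]
    push_cast
    rw [Finset.sum_congr rfl (fun v _ => hm v), Finset.sum_sub_distrib, sum_bdry]
  rw [h1]
  have h2 : ∑ e : E, γ e * sg ends S e ≤ ∑ e : E, (if e ∈ cutSet ends S then (1:ℝ) / 2 else 0) := by
    refine Finset.sum_le_sum fun e _ => ?_
    by_cases he : e ∈ cutSet ends S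
    · rw [if_pos he]
      calc γ e * sg ends S e ≤ |γ e * sg ends S e| := le_abs_self _
        _ = |γ e| * |sg ends S e| := abs_mul _ _
        _ ≤ (1 / 2) * 1 := mul_le_mul (hγ e) (sg_abs_le ends S e) (abs_nonneg _) (by norm_num)
        _ = 1 / 2 := by ring
    · rw [if_neg he, sg_eq_zero_of_notMem he, mul_zero]
  have h3 : ∑ e : E, (if e ∈ cutSet ends S then (1:ℝ) / 2 else 0) = (cut ends S : ℝ) / 2 := by
    rw [← Finset.sum_filter, Finset.filter_mem_eq_inter, Finset.univ_inter, Finset.sum_const,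
      cut_eq_card]
    simp; ring
  linarith

lemma totDeg_of_gamma (ends : E → V × V) (φ : V → ℝ) (b : ℤ) (hφ : (∑ v : V, φ v) = (b : ℝ))
    (γ : E → ℝ) (m : V → ℤ) (hm : ∀ v, (m v : ℝ) = φ v - bdry ends γ v) :
    totDeg m (∅ : Finset E) = b := by
  unfold totDeg
  simp only [Finset.card_empty, Nat.cast_zero, add_zero]
  have : ((∑ v : V, m v : ℤ) : ℝ) = (b : ℝ) := by
    push_cast
    rw [Finset.sum_congr rfl (fun v _ => hm v), Finset.sum_sub_distrib, sum_bdry_univ, hφ]
    ring
  exact_mod_cast this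

/-- Main construction: a semistable datum of total degree `b` whose degree on the elementary
set `S` is the least integer exceeding `Σ_S φ - cut S / 2`. -/
theorem exists_datum (ends : E → V × V) (hconn : Connected ends) (φ : V → ℝ) (b : ℤ)
    (hφ : (∑ v : V, φ v) = (b : ℝ)) (S : Finset V) (hS : IsElementary ends S) :
    ∃ m : V → ℤ, totDeg m (∅ : Finset E) = b ∧ IsSemistable ends φ m ∅ ∧
      (degOn ends m ∅ S : ℝ) = (⌊(∑ v ∈ S, φ v) - (cut ends S : ℝ) / 2⌋ : ℝ) + 1 := by
  classical
  obtain ⟨hSne, hSu⟩ := isElementary_nonempty hS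
  obtain ⟨e₀, he₀⟩ := exists_cut_edge hconn hSne hSu
  set x : ℝ := (∑ v ∈ S, φ v) - (cut ends S : ℝ) / 2 with hx
  set θ : ℝ := (⌊x⌋ : ℝ) + 1 - x with hθ
  have hθ0 : 0 < θ := by have := Int.lt_floor_add_one x; linarith
  have hθ1 : θ ≤ 1 := by have := Int.floor_le x; linarith
  set γ₃ : E → ℝ := fun e => sg ends S e * (1 / 2 - if e = e₀ then θ else 0) with hγ₃
  have hγ₃abs : ∀ e, |γ₃ e| ≤ 1 / 2 := by
    intro e
    simp only [hγ₃]
    rw [abs_mul]
    have h1 := sg_abs_le ends S e
    have h2 : |1 / 2 - (if e = e₀ then θ else 0)| ≤ 1 / 2 := by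
      rw [abs_le]
      split_ifs <;> constructor <;> linarith
    calc |sg ends S e| * |1 / 2 - (if e = e₀ then θ else 0)| ≤ 1 * (1 / 2) :=
          mul_le_mul h1 h2 (abs_nonneg _) (by norm_num)
      _ = 1 / 2 := by ring
  have hsum3 : ∑ e : E, γ₃ e * sg ends S e = (cut ends S : ℝ) / 2 - θ := by
    have h1 : ∀ e : E, γ₃ e * sg ends S e =
        (if e ∈ cutSet ends S then (1:ℝ) / 2 else 0) - (if e = e₀ then θ else 0) := by
      intro e
      simp only [hγ₃]
      by_cases he : e ∈ cutSet ends S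
      · rw [if_pos he]
        have := sg_mul_self_of_mem he
        calc sg ends S e * (1 / 2 - (if e = e₀ then θ else 0)) * sg ends S e
            = (sg ends S e * sg ends S e) * (1 / 2 - (if e = e₀ then θ else 0)) := by ring
          _ = _ := by rw [this]; ring
      · rw [if_neg he, sg_eq_zero_of_notMem he]
        have : e ≠ e₀ := fun h => he (h ▸ he₀)
        simp [this]
    rw [Finset.sum_congr rfl (fun e _ => h1 e), Finset.sum_sub_distrib]
    have h3 : ∑ e : E, (if e ∈ cutSet ends S then (1:ℝ) / 2 else 0) = (cut ends S : ℝ) / 2 := by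
      rw [← Finset.sum_filter, Finset.filter_mem_eq_inter, Finset.univ_inter, Finset.sum_const,
        cut_eq_card]
      simp; ring
    rw [h3, Finset.sum_ite_eq']
    simp
  set ψ : V → ℝ := fun v => φ v - bdry ends γ₃ v with hψ
  have hψS : ∑ v ∈ S, ψ v = ((⌊x⌋ + 1 : ℤ) : ℝ) := by
    simp only [hψ]
    rw [Finset.sum_sub_distrib, sum_bdry, hsum3]
    push_cast
    simp only [hθ, hx]
    ring
  have hψall : ∑ v : V, ψ v = (b : ℝ) := by
    simp only [hψ]
    rw [Finset.sum_sub_distrib, sum_bdry_univ, hφ]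
    ring
  have hψSc : ∑ v ∈ Sᶜ, ψ v = ((b - (⌊x⌋ + 1) : ℤ) : ℝ) := by
    have := Finset.sum_add_sum_compl S ψ
    push_cast
    push_cast at hψS
    linarith
  obtain ⟨γS, hγS, hγSint⟩ := exists_gamma (indEnds ends S) hS.1 (fun v => ψ v.1) (⌊x⌋ + 1)
    (by rw [← hψS]; exact Finset.sum_coe_sort S ψ)
  obtain ⟨γC, hγC, hγCint⟩ := exists_gamma (indEnds ends Sᶜ) hS.2 (fun v => ψ v.1)
    (b - (⌊x⌋ + 1)) (by rw [← hψSc]; exact Finset.sum_coe_sort Sᶜ ψ)
  set γ : E → ℝ := γ₃ + extE (PhiStab.inner ends S) γS + extE (PhiStab.inner ends Sᶜ) γC with hγ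
  -- pointwise description of γ
  have hγinS : ∀ e (he : e ∈ PhiStab.inner ends S), γ e = γS ⟨e, he⟩ := by
    intro e he
    have h1 : e ∉ cutSet ends S := by
      rw [mem_cutSet]; have := mem_inner.mp he; tauto
    have h2 : e ∉ PhiStab.inner ends Sᶜ := by
      rw [mem_inner]; have := mem_inner.mp he
      simp only [Finset.mem_compl]; tauto
    simp only [hγ, Pi.add_apply, hγ₃, sg_eq_zero_of_notMem h1, extE, he, h2, dif_pos, dif_neg,
      not_false_eq_true, zero_mul, zero_add, add_zero]
  have hγinC : ∀ e (he : e ∈ PhiStab.inner ends Sᶜ), γ e = γC ⟨e, he⟩ := by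
    intro e he
    have h1 : e ∉ cutSet ends S := by
      rw [mem_cutSet]; have := mem_inner.mp he
      simp only [Finset.mem_compl] at this; tauto
    have h2 : e ∉ PhiStab.inner ends S := by
      rw [mem_inner]; have := mem_inner.mp he
      simp only [Finset.mem_compl] at this; tauto
    simp only [hγ, Pi.add_apply, hγ₃, sg_eq_zero_of_notMem h1, extE, he, h2, dif_pos, dif_neg,
      not_false_eq_true, zero_mul, zero_add, add_zero]
  have hγout : ∀ e, e ∉ PhiStab.inner ends S → e ∉ PhiStab.inner ends Sᶜ → γ e = γ₃ e := by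
    intro e h1 h2
    simp only [hγ, Pi.add_apply, extE, h1, h2, dif_neg, not_false_eq_true, add_zero]
  have hγabs : ∀ e, |γ e| ≤ 1 / 2 := by
    intro e
    by_cases h1 : e ∈ PhiStab.inner ends S
    · rw [hγinS e h1]; exact hγS _
    · by_cases h2 : e ∈ PhiStab.inner ends Sᶜ
      · rw [hγinC e h2]; exact hγC _
      · rw [hγout e h1 h2]; exact hγ₃abs e
  have hint : ∀ v, ∃ k : ℤ, φ v - bdry ends γ v = k := by
    intro v
    have hb : bdry ends γ v = bdry ends γ₃ v + bdry ends (extE (PhiStab.inner ends S) γS) v +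
        bdry ends (extE (PhiStab.inner ends Sᶜ) γC) v := by
      simp only [hγ, bdry_add]
    by_cases hv : v ∈ S
    · obtain ⟨k, hk⟩ := hγSint ⟨v, hv⟩
      refine ⟨k, ?_⟩
      rw [hb, bdry_ext_mem ends S γS v hv,
        bdry_ext_notMem ends Sᶜ γC v (by simpa using hv), ← hk]
      simp only [hψ]
      ring
    · have hv' : v ∈ Sᶜ := Finset.mem_compl.mpr hv
      obtain ⟨k, hk⟩ := hγCint ⟨v, hv'⟩
      refine ⟨k, ?_⟩
      rw [hb, bdry_ext_mem ends Sᶜ γC v hv', bdry_ext_notMem ends S γS v hv, ← hk]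
      simp only [hψ]
      ring
  choose m hm using hint
  have hm' : ∀ v, (m v : ℝ) = φ v - bdry ends γ v := fun v => (hm v).symm
  refine ⟨m, totDeg_of_gamma ends φ b hφ γ m hm', semistable_of_gamma ends φ γ hγabs m hm', ?_⟩
  have h1 : (degOn ends m ∅ S : ℝ) = (∑ v ∈ S, φ v) - ∑ e : E, γ e * sg ends S e := by
    unfold degOn
    simp only [Finset.empty_inter, Finset.card_empty, Nat.cast_zero, add_zero]
    push_cast
    rw [Finset.sum_congr rfl (fun v _ => hm' v), Finset.sum_sub_distrib, sum_bdry]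
  have h2 : ∑ e : E, γ e * sg ends S e = ∑ e : E, γ₃ e * sg ends S e := by
    refine Finset.sum_congr rfl fun e _ => ?_
    by_cases hc : e ∈ cutSet ends S
    · have h1 : e ∉ PhiStab.inner ends S := by
        rw [mem_inner]; have := mem_cutSet.mp hc; tauto
      have h2 : e ∉ PhiStab.inner ends Sᶜ := by
        rw [mem_inner]; have := mem_cutSet.mp hc
        simp only [Finset.mem_compl]; tauto
      rw [hγout e h1 h2]
    · rw [sg_eq_zero_of_notMem hc, mul_zero, mul_zero]
  rw [h1, h2, hsum3]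
  simp only [hθ, hx]
  ring

end Groth.Agent.Lib.Helper64.PhiStabB
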