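import Groth.Agent.S12731
import Groth.Agent.S12252

/-!
# Necessary conditions for pro-representability (helper64)

`prorep_necessary`: a pro-representable functor satisfies `H0`, (RS) (all fibre-product comparison maps
bijective), `Hfin`, and injectivity of `σ ↦ F(σ)(x₀)` on morphisms `k → k[ε]`.
This is the direction (⇒) of S12734.
-/

set_option autoImplicit false
universe u v

namespace Groth.Agent.Lib.Helper64

open ArtFun ArtFun.Art CategoryTheory

variable {Λ : Type u} {k : Type u} [CommRing Λ] [Field k] [Algebra Λ k]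

/-- a functor with a universal family preserves all fibre products -/
theorem cmp_bijective_of_isUniversal {R : CRing Λ k} {F : Art Λ k ⥤ Type v}
    (ξ : Family R.carrier R.res F) (hξ : IsUniversal ξ)
    {B A A' A'' : Art Λ k} {p' : B ⟶ A'} {p'' : B ⟶ A''} {f' : A' ⟶ A} {f'' : A'' ⟶ A}
    (h : IsFibreProd p' p'' f' f'') : Function.Bijective (cmp F h) := by
  constructor
  · intro b₁ b₂ hb
    have hb1 : F.map p' b₁ = F.map p' b₂ := congrArg (fun x => x.1.1) hb
    have hb2 : F.map p'' b₁ = F.map p'' b₂ := congrArg (fun x => x.1.2) hb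
    obtain ⟨ψ₁, rfl⟩ := (hξ B).2 b₁
    obtain ⟨ψ₂, rfl⟩ := (hξ B).2 b₂
    rw [← ξ.natural, ← ξ.natural] at hb1 hb2
    have e1 := (hξ A').1 hb1
    have e2 := (hξ A'').1 hb2
    congr 1
    apply Subtype.ext
    apply AlgHom.ext
    intro r
    apply h.inj
    · exact congrArg (fun x : HomSet R.carrier R.res A' => x.1 r) e1
    · exact congrArg (fun x : HomSet R.carrier R.res A'' => x.1 r) e2
  · rintro ⟨⟨a', a''⟩, hx⟩
    obtain ⟨φ', rfl⟩ := (hξ A').2 a'
    obtain ⟨φ'', rfl⟩ := (hξ A'').2 a''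
    have hx' : F.map f' (ξ.app A' φ') = F.map f'' (ξ.app A'' φ'') := hx
    rw [← ξ.natural, ← ξ.natural] at hx'
    obtain ⟨ψ, hψ1, hψ2⟩ := IsFibreProd.exists_liftHomSet h φ' φ'' ((hξ A).1 hx')
    refine ⟨ξ.app B ψ, ?_⟩
    apply FibProd.ext
    · show F.map p' (ξ.app B ψ) = _
      rw [← ξ.natural, hψ1]
    · show F.map p'' (ξ.app B ψ) = _
      rw [← ξ.natural, hψ2]

theorem prorep_necessary [IsNoetherianRing Λ] [Module.Finite Λ k]
    (F : Art Λ k ⥤ Type v) [TangentStr F] (hF : IsProrepresentable F) :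
    (H0 F ∧ (∀ ⦃B A A' A'' : Art Λ k⦄ (p' : B ⟶ A') (p'' : B ⟶ A'') (f' : A' ⟶ A) (f'' : A'' ⟶ A)
        (h : IsFibreProd p' p'' f' f''), Function.Surjective f'' → Function.Bijective (cmp F h))) ∧
      Hfin F ∧
      ∀ x₀ : F.obj (base Λ k),
        Function.Injective (fun σ : base Λ k ⟶ dual Λ k => F.map σ x₀) := by
  obtain ⟨⟨R, ξ, huniv⟩⟩ := hF
  have h0 : H0 F := Groth.Agent.S12252.h0_of_isUniversal ξ huniv
  refine ⟨⟨h0, fun _ _ _ _ _ _ _ _ h _ => cmp_bijective_of_isUniversal ξ huniv h⟩, ?_, ?_⟩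
  · exact (Groth.Agent.S12731.result F h0
      ⟨⟨R, ξ, Groth.Agent.S12252.isVersal_of_isUniversal ξ huniv, huniv _⟩⟩).2.2
  · intro x₀ σ σ' hσ
    obtain ⟨φ₀, rfl⟩ := (huniv _).2 x₀
    have hσ' : F.map σ (ξ.app _ φ₀) = F.map σ' (ξ.app _ φ₀) := hσ
    rw [← ξ.natural, ← ξ.natural] at hσ'
    have e := (huniv _).1 hσ'
    apply Art.hom_ext
    apply AlgHom.ext
    intro c
    have hφ₀ : ∀ r, φ₀.1 r = R.res r := fun r => AlgHom.congr_fun φ₀.2 r
    obtain ⟨r, rfl⟩ := R.res_surjective c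
    have := congrArg (fun x : HomSet R.carrier R.res (dual Λ k) => x.1 r) e
    simp only [HomSet.map, AlgHom.comp_apply] at this
    rw [hφ₀] at this
    exact this

end Groth.Agent.Lib.Helper64
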