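import Groth.Agent.Lib.Helper64.HullProRep
import Groth.Agent.Lib.Helper64.ProRepNec
import Groth.Agent.S12724

/-!
# Schlessinger's pro-representability criteria, modulo existence of hulls (helper64)

`prorep_iff_hbar_heps_hfin_hsq` and `prorep_iff_isLeftExact_hfin` reduce the classical criteria to an existence
statement for hulls (`S1 F → Heps F → Hfin F → HasHull F`), which is S12732.
-/

set_option autoImplicit false
universe u v

namespace Groth.Agent.Lib.Helper64

open ArtFun ArtFun.Art CategoryTheory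

variable {Λ : Type u} {k : Type u} [CommRing Λ] [Field k] [Algebra Λ k]

/-- when `Λ → k` is surjective, `k` is a finite `Λ`-module -/
lemma finite_of_algebraMap_surjective (hk : Function.Surjective (algebraMap Λ k)) :
    Module.Finite Λ k :=
  Module.Finite.of_surjective (Algebra.linearMap Λ k) hk

/-- when `Λ → k` is surjective, `k` has no nonzero `Λ`-derivation -/
lemma subsingleton_derivation_of_surjective (hk : Function.Surjective (algebraMap Λ k)) :
    Subsingleton (Derivation Λ k k) := by
  refine ⟨fun D₁ D₂ => ?_⟩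
  ext c
  obtain ⟨x, rfl⟩ := hk c
  rw [D₁.map_algebraMap, D₂.map_algebraMap]

/-- `Λ → k` is surjective when `k → Λ → k` is the identity -/
lemma algebraMap_surjective_of_tower [Algebra k Λ] [IsScalarTower k Λ k] :
    Function.Surjective (algebraMap Λ k) := by
  intro c
  refine ⟨algebraMap k Λ c, ?_⟩
  rw [← IsScalarTower.algebraMap_apply]
  rfl

variable [IsNoetherianRing Λ] [Module.Finite Λ k]

theorem prorep_of_hasHull_of_hSq {F : Art Λ k ⥤ Type v} (h0 : H0 F) (hsq : HSq F)
    (hull : HasHull F) : IsProrepresentable F := by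
  obtain ⟨⟨R, ξ, hmini⟩⟩ := hull
  exact ⟨⟨R, ξ, isUniversal_of_isMiniversal_of_hSq h0 hsq R ξ hmini⟩⟩

theorem prorep_iff_hbar_heps_hfin_hsq (F : Art Λ k ⥤ Type v) [TangentStr F] (h0 : H0 F)
    (hex : S1 F → Heps F → Hfin F → HasHull F) :
    IsProrepresentable F ↔ (Hbar F ∧ Heps F ∧ Hfin F ∧ HSq F) := by
  constructor
  · intro hF
    have hfin := (prorep_necessary F hF).2.1
    obtain ⟨⟨R, ξ, huniv⟩⟩ := hF
    refine ⟨?_, ?_, hfin, ?_⟩
    · intro B A A' A'' p' p'' f' f'' h _
      exact (cmp_bijective_of_isUniversal ξ huniv h).2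
    · intro B A' p' p'' h
      exact cmp_bijective_of_isUniversal ξ huniv h
    · intro B A A' p₁ p₂ f h _
      exact cmp_bijective_of_isUniversal ξ huniv h
  · rintro ⟨hbar, heps, hfin, hsq⟩
    have h1 : S1 F := (Groth.Agent.S12724.result F).mpr hbar
    exact prorep_of_hasHull_of_hSq h0 hsq (hex h1 heps hfin)

theorem prorep_iff_isLeftExact_hfin (F : Art Λ k ⥤ Type v) [TangentStr F] (h0 : H0 F)
    (hex : S1 F → Heps F → Hfin F → HasHull F) :
    IsProrepresentable F ↔ (IsLeftExact F ∧ Hfin F) := by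
  constructor
  · intro hF
    have hfin := (prorep_necessary F hF).2.1
    obtain ⟨⟨R, ξ, huniv⟩⟩ := hF
    refine ⟨?_, hfin⟩
    intro B A A' A'' p' p'' f' f'' h
    exact cmp_bijective_of_isUniversal ξ huniv h
  · rintro ⟨hle, hfin⟩
    have h1 : S1 F := fun _ _ _ _ p' p'' f' f'' h _ => (hle p' p'' f' f'' h).2
    have heps : Heps F := fun _ _ p' p'' h => hle p' p'' _ _ h
    have hsq : HSq F := fun _ _ _ p₁ p₂ f h _ => hle p₁ p₂ f f h
    exact prorep_of_hasHull_of_hSq h0 hsq (hex h1 heps hfin)

end Groth.Agent.Lib.Helper64
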