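/-
helper64: QsChow (S17739, S17740): the involution τ on the truncated F₂-algebra P_n.
Every element is `a + ε₂ b` with `a, b` fixed; hence `(1+τ) y = ε₁ b`.
-/
import Mathlib
import Groth.Prelude.Def_W4c4chowquasisplitPn

set_option autoImplicit false
open QsChow MvPolynomial

namespace Groth.Agent.Lib.Helper64.QsChowA

section

variable (n : ℕ)

theorem two_eq_zero : (2 : P n) = 0 := by
  have h : (2 : ZMod 2) = 0 := by decide
  have := congrArg (algebraMap (ZMod 2) (P n)) h
  rwa [map_ofNat, map_zero] at this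

theorem add_self (x : P n) : x + x = 0 := by
  have := two_eq_zero n
  linear_combination x * this

theorem mk_X (i : Fin (numVars n)) :
    Ideal.Quotient.mk (truncIdeal n) (X i) = eps n (i.val + 1) := by
  have h : 0 < i.val + 1 ∧ i.val + 1 ≤ numVars n := ⟨Nat.succ_pos _, i.isLt⟩
  simp only [eps, h, and_self, dite_true]
  congr 2

variable {n}
variable (τ : P n →ₐ[ZMod 2] P n) (hτ1 : τ (eps n 1) = eps n 1)
  (hτ : ∀ j : ℕ, 2 ≤ j → j ≤ numVars n →
      τ (eps n j) = eps n j + eps n 1 ^ (2 * j - 3))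

include hτ1 hτ in
/-- decomposition: every element is `a + ε₂ b` with `a`, `b` fixed. -/
theorem decomp (hn : 2 ≤ n) (y : P n) :
    ∃ a b : P n, τ a = a ∧ τ b = b ∧ y = a + eps n 2 * b := by
  have h2 := two_eq_zero n
  have hnv : 2 ≤ numVars n := by unfold numVars; omega
  have hε : τ (eps n 2) = eps n 2 + eps n 1 := by
    have := hτ 2 le_rfl hnv
    simpa using this
  set t := eps n 1 with ht
  set ε := eps n 2 with hεdef
  have he : τ (ε * (ε + t)) = ε * (ε + t) := by
    rw [map_mul, map_add, hε, hτ1]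
    linear_combination (ε + t) * t * h2
  -- multiplicative closure
  have hmul : ∀ y y' : P n, (∃ a b : P n, τ a = a ∧ τ b = b ∧ y = a + ε * b) →
      (∃ a b : P n, τ a = a ∧ τ b = b ∧ y' = a + ε * b) →
      ∃ a b : P n, τ a = a ∧ τ b = b ∧ y * y' = a + ε * b := by
    rintro y y' ⟨a, b, ha, hb, rfl⟩ ⟨a', b', ha', hb', rfl⟩
    refine ⟨a * a' + ε * (ε + t) * (b * b'), a * b' + a' * b + t * (b * b'), ?_, ?_, ?_⟩
    · simp only [map_add, map_mul, ha, ha', hb, hb', hτ1, hε]
      linear_combination ((ε + t) * t * b * b') * h2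
    · simp only [map_add, map_mul, ha, ha', hb, hb', hτ1]
    · linear_combination (-(t * ε * b * b')) * h2
  obtain ⟨p, rfl⟩ := Ideal.Quotient.mk_surjective y
  induction p using MvPolynomial.induction_on with
  | C c =>
    refine ⟨Ideal.Quotient.mk _ (C c), 0, ?_, by simp, by simp⟩
    have : Ideal.Quotient.mk (truncIdeal n) (C c) = algebraMap (ZMod 2) (P n) c := rfl
    rw [this, AlgHom.commutes]
  | add p q hp hq =>
    obtain ⟨a, b, ha, hb, hab⟩ := hp
    obtain ⟨a', b', ha', hb', hab'⟩ := hq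
    refine ⟨a + a', b + b', by rw [map_add, ha, ha'], by rw [map_add, hb, hb'], ?_⟩
    rw [map_add, hab, hab']
    ring
  | mul_X p i hp =>
    rw [map_mul]
    apply hmul _ _ hp
    rw [mk_X]
    rcases Nat.lt_or_ge i.val 1 with h0 | h1
    · have : i.val + 1 = 1 := by omega
      rw [this, ← ht]
      exact ⟨t, 0, hτ1, by simp, by simp⟩
    · rcases Nat.lt_or_ge i.val 2 with h1' | h2'
      · have : i.val + 1 = 2 := by omega
        rw [this, ← hεdef]
        exact ⟨0, 1, by simp, by simp, by simp⟩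
      · -- j = i + 1 ≥ 3
        set j := i.val + 1 with hj
        have hj3 : 3 ≤ j := by omega
        have hjn : j ≤ numVars n := i.isLt
        have hτj := hτ j (by omega) hjn
        refine ⟨eps n j + t ^ (2 * j - 4) * ε, t ^ (2 * j - 4), ?_, ?_, ?_⟩
        · rw [map_add, map_mul, map_pow, hτj, hτ1, hε]
          have hpow : t ^ (2 * j - 3) = t ^ (2 * j - 4) * t := by
            rw [← pow_succ]; congr 1; omega
          rw [hpow]
          linear_combination (t ^ (2 * j - 4) * t) * h2
        · rw [map_pow, hτ1]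
        · linear_combination (-(t ^ (2 * j - 4) * ε)) * h2

include hτ1 hτ in
theorem one_add_tau (hn : 2 ≤ n) (y : P n) :
    ∃ b : P n, τ b = b ∧ y + τ y = eps n 1 * b := by
  have h2 := two_eq_zero n
  have hnv : 2 ≤ numVars n := by unfold numVars; omega
  have hε : τ (eps n 2) = eps n 2 + eps n 1 := by
    have := hτ 2 le_rfl hnv
    simpa using this
  obtain ⟨a, b, ha, hb, rfl⟩ := decomp τ hτ1 hτ hn y
  refine ⟨b, hb, ?_⟩
  rw [map_add, map_mul, ha, hb, hε]
  linear_combination (a + eps n 2 * b) * h2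

include hτ1 hτ in
theorem range_eq (hn : 2 ≤ n) :
    Set.range (fun y : P n => y + τ y) =
      (fun z : P n => eps n 1 * z) ''
        (AlgHom.equalizer τ (AlgHom.id (ZMod 2) (P n)) : Set (P n)) := by
  have h2 := two_eq_zero n
  have hnv : 2 ≤ numVars n := by unfold numVars; omega
  have hε : τ (eps n 2) = eps n 2 + eps n 1 := by
    have := hτ 2 le_rfl hnv
    simpa using this
  ext w
  constructor
  · rintro ⟨y, rfl⟩
    obtain ⟨b, hb, hyb⟩ := one_add_tau τ hτ1 hτ hn y
    exact ⟨b, hb, hyb.symm⟩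
  · rintro ⟨z, hz, rfl⟩
    have hz' : τ z = z := hz
    refine ⟨eps n 2 * z, ?_⟩
    simp only
    rw [map_mul, hz', hε]
    linear_combination (eps n 2 * z) * h2

end

end Groth.Agent.Lib.Helper64.QsChowA
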