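/-
helper64: QsChow (S17740): annihilator of ε₁ in the truncated algebra and the refined statement.
-/
import Mathlib
import Groth.Prelude.Def_W4c4chowquasisplitPn
import Groth.Agent.Lib.Helper64.QsChowA

set_option autoImplicit false
open QsChow MvPolynomial

namespace Groth.Agent.Lib.Helper64.QsChowA

section

variable {n : ℕ}

theorem truncIdeal_eq : truncIdeal n = Ideal.span ((fun s => monomial s (1 : ZMod 2)) ''
    (Set.range fun i : Fin (numVars n) => Finsupp.single i (bound n i))) := by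
  unfold truncIdeal
  congr 1
  rw [← Set.range_comp]
  congr 1
  funext i
  simp [X_pow_eq_monomial]

/-- the annihilator of `ε₁` is `ε₁^(n-1) P`. -/
theorem ann_eps1 (d : P n) (hd : eps n 1 * d = 0) :
    ∃ c : P n, d = eps n 1 ^ (n - 1) * c := by
  classical
  have hnv : 0 < numVars n := by unfold numVars; omega
  let i0 : Fin (numVars n) := ⟨0, hnv⟩
  have ht : eps n 1 = Ideal.Quotient.mk (truncIdeal n) (X i0) := by
    rw [mk_X]
  obtain ⟨p, rfl⟩ := Ideal.Quotient.mk_surjective d
  rw [ht, ← map_mul, Ideal.Quotient.eq_zero_iff_mem, truncIdeal_eq,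
    mem_ideal_span_monomial_image] at hd
  have hp : p ∈ Ideal.span ((fun s => monomial s (1 : ZMod 2)) ''
      ((Set.range fun i : Fin (numVars n) => Finsupp.single i (bound n i)) ∪
        {Finsupp.single i0 (n - 1)})) := by
    rw [mem_ideal_span_monomial_image]
    intro μ hμ
    have h1 : Finsupp.single i0 1 + μ ∈ (X i0 * p).support := by
      rw [support_X_mul]
      exact Finset.mem_map.mpr ⟨μ, hμ, rfl⟩
    obtain ⟨_, ⟨i, rfl⟩, hle⟩ := hd _ h1
    by_cases hi : i = i0
    · subst hi
      refine ⟨Finsupp.single i0 (n - 1), Or.inr rfl, ?_⟩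
      have h2 := hle i0
      simp only [Finsupp.single_eq_same, Finsupp.coe_add, Pi.add_apply] at h2
      have hb : bound n i0 = n := by simp [bound, i0]
      rw [hb] at h2
      intro j
      by_cases hj : j = i0
      · subst hj
        rw [Finsupp.single_eq_same]
        omega
      · rw [Finsupp.single_eq_of_ne hj]
        exact Nat.zero_le _
    · refine ⟨Finsupp.single i (bound n i), Or.inl ⟨i, rfl⟩, ?_⟩
      intro j
      by_cases hj : j = i
      · subst hj
        have h2 := hle j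
        simp only [Finsupp.single_eq_same, Finsupp.coe_add, Pi.add_apply,
          Finsupp.single_eq_of_ne hi] at h2
        rw [Finsupp.single_eq_same]
        omega
      · rw [Finsupp.single_eq_of_ne hj]
        exact Nat.zero_le _
  rw [Set.image_union, Ideal.span_union, Set.image_singleton, ← truncIdeal_eq,
    Submodule.mem_sup] at hp
  obtain ⟨u, hu, v, hv, huv⟩ := hp
  rw [Ideal.mem_span_singleton'] at hv
  obtain ⟨c, hc⟩ := hv
  refine ⟨Ideal.Quotient.mk _ c, ?_⟩
  rw [← huv, map_add, Ideal.Quotient.eq_zero_iff_mem.mpr hu, zero_add, ← hc, map_mul, ht,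
    ← map_pow, X_pow_eq_monomial, mul_comm]

variable (τ : P n →ₐ[ZMod 2] P n) (hτ1 : τ (eps n 1) = eps n 1)
  (hτ : ∀ j : ℕ, 2 ≤ j → j ≤ numVars n →
      τ (eps n j) = eps n j + eps n 1 ^ (2 * j - 3))

include hτ1 hτ in
theorem refined (hn : 2 ≤ n) (m : ℕ) (hm1 : 1 ≤ m) (hmn : m ≤ n) (y : P n)
    (hy : y + τ y ∈ Ideal.span ({eps n 1 ^ m} : Set (P n))) :
    ∃ z : P n, τ z = z ∧ y + τ y = eps n 1 ^ m * z := by
  have h2 := two_eq_zero n
  have hnv : 2 ≤ numVars n := by unfold numVars; omega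
  have hε : τ (eps n 2) = eps n 2 + eps n 1 := by
    have := hτ 2 le_rfl hnv
    simpa using this
  obtain ⟨b, hb, hyb⟩ := one_add_tau τ hτ1 hτ hn y
  rw [hyb, Ideal.mem_span_singleton'] at hy
  obtain ⟨w, hw⟩ := hy
  set t := eps n 1 with ht
  have hpow : t ^ m = t * t ^ (m - 1) := by
    rw [← pow_succ']; congr 1; omega
  have hd : t * (b - t ^ (m - 1) * w) = 0 := by
    rw [mul_sub, ← mul_assoc, ← hpow, ← hw]; ring
  obtain ⟨c, hc⟩ := ann_eps1 _ hd
  have hpow2 : t ^ (n - 1) = t ^ (m - 1) * t ^ (n - m) := by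
    rw [← pow_add]; congr 1; omega
  have hbw : b = t ^ (m - 1) * (w + t ^ (n - m) * c) := by
    have : b = t ^ (m - 1) * w + t ^ (n - 1) * c := by rw [← hc]; ring
    rw [this, hpow2]; ring
  obtain ⟨a', b', ha', hb', hw'⟩ := decomp τ hτ1 hτ hn (w + t ^ (n - m) * c)
  rw [hw'] at hbw
  -- b fixed gives t^m b' = 0
  have h3 : t ^ m * b' = 0 := by
    have h4 : τ b = b := hb
    rw [hbw, map_mul, map_pow, hτ1, map_add, map_mul, ha', hb', hε] at h4
    have h5 : t ^ (m - 1) * (a' + (eps n 2 + t) * b') - t ^ (m - 1) * (a' + eps n 2 * b') = 0 := by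
      rw [h4, sub_self]
    rw [hpow]
    linear_combination h5
  refine ⟨a', ha', ?_⟩
  rw [hyb, hbw, ← mul_assoc, ← hpow]
  linear_combination (eps n 2) * h3

end

end Groth.Agent.Lib.Helper64.QsChowA
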