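/-
helper64: QsChow (S17747): n odd. `presIdeal ⊔ (e₁) = oddIdeal`, and the statement about `ε₁ P^τ`
given `ker φ = presIdeal` and `range φ = P^τ`.
-/
import Mathlib
import Groth.Prelude.Def_W4c4chowquasisplitPn2

set_option autoImplicit false
open QsChow MvPolynomial

namespace Groth.Agent.Lib.Helper64.QsChowD

variable {n : ℕ}

theorem numVars_odd (hodd : Odd n) : 2 * numVars n = n + 1 := by
  obtain ⟨m, rfl⟩ := hodd
  unfold numVars; omega

theorem klog_two (n : ℕ) : klog n 2 = Nat.log 2 (2 * n - 1) := by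
  unfold klog; norm_num

theorem kprime_two (n : ℕ) : kprime n 2 = Nat.log 2 n := by
  unfold kprime; simp

theorem kprime_ge3 (n j : ℕ) (hj : 3 ≤ j) : kprime n j = Nat.log 2 (2 * n / (2 * j - 3)) := by
  unfold kprime; rw [if_neg (by omega), if_neg (by omega)]

/-- an odd number is not `2^k * d` with `d < n`. -/
theorem odd_ne (hodd : Odd n) (k d : ℕ) (hd : d < n) : 2 ^ k * d ≠ n := by
  intro heq
  have hodd2 : Odd (2 ^ k) := by
    rw [← heq] at hodd; exact (Nat.odd_mul.mp hodd).1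
  have hk0 : k = 0 := by
    by_contra h
    have : Even (2 ^ k) := Nat.even_pow.mpr ⟨even_two, h⟩
    exact (Nat.not_even_iff_odd.mpr hodd2) this
  subst hk0
  simp at heq
  omega

theorem klog_two_odd (hodd : Odd n) (hn : 3 ≤ n) : klog n 2 = kprime n 2 + 1 := by
  rw [klog_two, kprime_two]
  have h1 : 2 ^ Nat.log 2 n ≤ n := Nat.pow_log_le_self 2 (by omega)
  have h2 : n < 2 ^ (Nat.log 2 n + 1) := Nat.lt_pow_succ_log_self (by norm_num) n
  generalize Nat.log 2 n = k at *
  have hne : 2 ^ k * 1 ≠ n := odd_ne hodd k 1 (by omega)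
  rw [mul_one] at hne
  rw [Nat.log_eq_iff (Or.inl (by omega))]
  constructor
  · rw [pow_succ] at h2 ⊢; omega
  · rw [pow_succ] at h2 ⊢
    rw [pow_succ]; omega

theorem two_pow_klog_two_gt (hodd : Odd n) (hn : 3 ≤ n) : n < 2 ^ klog n 2 := by
  rw [klog_two_odd hodd hn, kprime_two]
  exact Nat.lt_pow_succ_log_self (by norm_num) n

theorem klog_eq_kprime_odd (hodd : Odd n) (j : ℕ) (hj3 : 3 ≤ j) (hjs : j ≤ numVars n) :
    klog n j = kprime n j := by
  rw [kprime_ge3 n j hj3]
  unfold klog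
  have hnv := numVars_odd hodd
  have hd3 : 3 ≤ 2 * j - 3 := by omega
  have hdn : 2 * j - 3 + 2 ≤ n := by omega
  generalize 2 * j - 3 = d at *
  have hm2 : 2 ≤ 2 * n / d := by
    rw [Nat.le_div_iff_mul_le (by omega)]; omega
  have h1 : 2 ^ Nat.log 2 (2 * n / d) ≤ 2 * n / d := Nat.pow_log_le_self 2 (by omega)
  have h2 : 2 * n / d < 2 ^ (Nat.log 2 (2 * n / d) + 1) :=
    Nat.lt_pow_succ_log_self (by norm_num) _
  generalize Nat.log 2 (2 * n / d) = k at *
  have hk1 : 1 ≤ k := by
    by_contra h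
    have : k = 0 := by omega
    rw [this] at h2; simp at h2; omega
  rw [Nat.log_eq_iff (Or.inl (by omega))]
  constructor
  · rw [Nat.le_div_iff_mul_le (by omega)]
    have h1' : 2 ^ k * d ≤ 2 * n := (Nat.le_div_iff_mul_le (by omega)).mp h1
    by_contra hcon
    have heq : 2 ^ k * d = 2 * n := by omega
    obtain ⟨k', rfl⟩ : ∃ k', k = k' + 1 := ⟨k - 1, by omega⟩
    rw [pow_succ] at heq
    have heq' : 2 ^ k' * d = n := by nlinarith
    exact odd_ne hodd k' d (by omega) heq'
  · calc (2 * n - 1) / d ≤ 2 * n / d := Nat.div_le_div_right (by omega)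
      _ < 2 ^ (k + 1) := h2

theorem exp_pos_odd (hodd : Odd n) (j : ℕ) (hj3 : 3 ≤ j) (hjs : j ≤ numVars n) :
    n < (2 * j - 3) * 2 ^ klog n j := by
  unfold klog
  have hnv := numVars_odd hodd
  have hd3 : 3 ≤ 2 * j - 3 := by omega
  have hdn : 2 * j - 3 + 2 ≤ n := by omega
  generalize 2 * j - 3 = d at *
  have h2 : (2 * n - 1) / d < 2 ^ (Nat.log 2 ((2 * n - 1) / d) + 1) :=
    Nat.lt_pow_succ_log_self (by norm_num) _
  generalize Nat.log 2 ((2 * n - 1) / d) = k at *
  rw [Nat.div_lt_iff_lt_mul (by omega), pow_succ] at h2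
  have hne : 2 ^ k * d ≠ n := odd_ne hodd k d (by omega)
  have : 2 * n ≤ 2 ^ k * 2 * d := by omega
  have : n ≤ 2 ^ k * d := by nlinarith
  rw [mul_comm]
  omega

/-! ### polynomial part -/

theorem hrel_one (n : ℕ) : hrel n 1 = 0 := by
  unfold hrel
  rw [if_neg (by omega), if_neg (by omega)]

theorem E_dvd_pow_mul (m : ℕ) (hm : 0 < m) (g : FreeE n) : evar n 1 ∣ evar n 1 ^ m * g :=
  dvd_mul_of_dvd_left (dvd_pow_self _ (by omega)) _

theorem hrel_two_sub (hodd : Odd n) (hn : 3 ≤ n) :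
    hrel n 2 - evar n 2 ^ 2 ^ kprime n 2 ∈ Ideal.span ({evar n 1} : Set (FreeE n)) := by
  rw [Ideal.mem_span_singleton]
  have hk := klog_two_odd hodd hn
  have hgt := two_pow_klog_two_gt hodd hn
  have h : hrel n 2 = evar n 1 ^ (2 ^ klog n 2 - n) * xvar n + sPoly n 2 := by
    unfold hrel; rw [if_pos rfl]
  rw [h]
  unfold sPoly
  rw [hk, Finset.sum_range_succ, Nat.sub_self, pow_zero, one_mul]
  have : evar n 1 ^ (2 ^ (kprime n 2 + 1) - n) * xvar n +
      (∑ x ∈ Finset.range (kprime n 2),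
        evar n 1 ^ (2 ^ (kprime n 2 + 1) - 2 ^ (x + 1)) * evar n 2 ^ 2 ^ x +
        evar n 2 ^ 2 ^ kprime n 2) - evar n 2 ^ 2 ^ kprime n 2 =
      evar n 1 ^ (2 ^ (kprime n 2 + 1) - n) * xvar n +
      ∑ x ∈ Finset.range (kprime n 2),
        evar n 1 ^ (2 ^ (kprime n 2 + 1) - 2 ^ (x + 1)) * evar n 2 ^ 2 ^ x := by ring
  rw [this]
  apply dvd_add
  · apply E_dvd_pow_mul
    rw [hk] at hgt; omega
  · apply Finset.dvd_sum
    intro t ht
    apply E_dvd_pow_mul
    have : t + 1 ≤ kprime n 2 := by simpa [Finset.mem_range] using ht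
    have h1 : 2 ^ (t + 1) ≤ 2 ^ kprime n 2 := Nat.pow_le_pow_right (by norm_num) this
    have h2 : 2 ^ (kprime n 2 + 1) = 2 * 2 ^ kprime n 2 := by rw [pow_succ]; ring
    have h3 : 0 < 2 ^ kprime n 2 := Nat.two_pow_pos _
    omega

theorem hrel_ge3_sub (hodd : Odd n) (j : ℕ) (hj3 : 3 ≤ j) (hjs : j ≤ numVars n) :
    hrel n j - evar n j ^ 2 ^ kprime n j ∈ Ideal.span ({evar n 1} : Set (FreeE n)) := by
  rw [Ideal.mem_span_singleton]
  have hk := klog_eq_kprime_odd hodd j hj3 hjs
  have hgt := exp_pos_odd hodd j hj3 hjs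
  have h : hrel n j = evar n j ^ 2 ^ klog n j +
      evar n 1 ^ ((2 * j - 3) * 2 ^ klog n j - n) * xvar n +
      evar n 1 ^ ((2 * j - 4) * 2 ^ klog n j) * sPoly n j := by
    unfold hrel; rw [if_neg (by omega), if_pos ⟨hj3, hjs⟩]
  rw [h, ← hk]
  have : evar n j ^ 2 ^ klog n j +
      evar n 1 ^ ((2 * j - 3) * 2 ^ klog n j - n) * xvar n +
      evar n 1 ^ ((2 * j - 4) * 2 ^ klog n j) * sPoly n j - evar n j ^ 2 ^ klog n j =
      evar n 1 ^ ((2 * j - 3) * 2 ^ klog n j - n) * xvar n +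
      evar n 1 ^ ((2 * j - 4) * 2 ^ klog n j) * sPoly n j := by ring
  rw [this]
  apply dvd_add
  · apply E_dvd_pow_mul; omega
  · apply E_dvd_pow_mul
    have h3 : 0 < 2 ^ klog n j := Nat.two_pow_pos _
    have : 0 < 2 * j - 4 := by omega
    positivity

theorem evar_one_mem_odd (n : ℕ) : evar n 1 ∈ oddIdeal n :=
  Ideal.subset_span (Or.inl (by simp))

theorem span_E_le_odd (n : ℕ) : Ideal.span ({evar n 1} : Set (FreeE n)) ≤ oddIdeal n := by
  rw [Ideal.span_le, Set.singleton_subset_iff]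
  exact evar_one_mem_odd n

theorem pres_sup_eq_odd (hodd : Odd n) (hn : 3 ≤ n) :
    presIdeal n ⊔ Ideal.span ({evar n 1} : Set (FreeE n)) = oddIdeal n := by
  have hnv := numVars_odd hodd
  apply le_antisymm
  · refine sup_le (Ideal.span_le.mpr ?_) (span_E_le_odd n)
    rintro g (hg | ⟨i, rfl⟩)
    · simp only [Set.mem_insert_iff, Set.mem_singleton_iff] at hg
      rcases hg with rfl | rfl | rfl
      · exact Ideal.pow_mem_of_mem _ (evar_one_mem_odd n) n (by omega)
      · exact Ideal.mul_mem_right _ _ (evar_one_mem_odd n)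
      · exact Ideal.subset_span (Or.inl (by simp))
    · show hrel n (i.val + 1) ∈ oddIdeal n
      have hgen : evar n (i.val + 1) ^ 2 ^ kprime n (i.val + 1) ∈ oddIdeal n :=
        Ideal.subset_span (Or.inr ⟨i, rfl⟩)
      rcases Nat.lt_or_ge i.val 1 with h0 | h1
      · have : i.val = 0 := by omega
        rw [this, hrel_one]; exact zero_mem _
      · rcases Nat.lt_or_ge i.val 2 with h1' | h2
        · have hi : i.val = 1 := by omega
          rw [hi] at hgen ⊢
          have := span_E_le_odd n (hrel_two_sub hodd hn)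
          have := add_mem this hgen
          rwa [sub_add_cancel] at this
        · have := span_E_le_odd n (hrel_ge3_sub hodd (i.val + 1) (by omega) i.isLt)
          have := add_mem this hgen
          rwa [sub_add_cancel] at this
  · refine Ideal.span_le.mpr ?_
    have hE : evar n 1 ∈ presIdeal n ⊔ Ideal.span ({evar n 1} : Set (FreeE n)) :=
      Ideal.mem_sup_right (Ideal.subset_span rfl)
    rintro g (hg | ⟨i, rfl⟩)
    · simp only [Set.mem_insert_iff, Set.mem_singleton_iff] at hg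
      rcases hg with rfl | rfl
      · exact hE
      · exact Ideal.mem_sup_left (Ideal.subset_span (Or.inl (by simp)))
    · show evar n (i.val + 1) ^ 2 ^ kprime n (i.val + 1) ∈ _
      have hgen : hrel n (i.val + 1) ∈ presIdeal n ⊔ Ideal.span ({evar n 1} : Set (FreeE n)) :=
        Ideal.mem_sup_left (Ideal.subset_span (Or.inr ⟨i, rfl⟩))
      rcases Nat.lt_or_ge i.val 1 with h0 | h1
      · have : i.val = 0 := by omega
        rw [this]
        exact Ideal.pow_mem_of_mem _ hE _ (Nat.two_pow_pos _)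
      · rcases Nat.lt_or_ge i.val 2 with h1' | h2
        · have hi : i.val = 1 := by omega
          rw [hi] at hgen ⊢
          have := Ideal.mem_sup_right (S := presIdeal n) (hrel_two_sub hodd hn)
          have := sub_mem hgen this
          rwa [sub_sub_cancel] at this
        · have := Ideal.mem_sup_right (S := presIdeal n)
            (hrel_ge3_sub hodd (i.val + 1) (by omega) i.isLt)
          have := sub_mem hgen this
          rwa [sub_sub_cancel] at this

theorem phi_evar_one (hn : 2 ≤ n) : phi n (evar n 1) = eps n 1 := by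
  have h : 0 < 1 ∧ 1 ≤ numVars n := ⟨one_pos, by unfold numVars; omega⟩
  simp only [evar, h, and_self, dite_true, phi, aeval_X, genImage]
  simp

theorem odd_main (hn : 2 ≤ n)
    (τ : P n →ₐ[ZMod 2] P n)
    (hrange : (phi n).range = AlgHom.equalizer τ (AlgHom.id (ZMod 2) (P n)))
    (hker : RingHom.ker (phi n) = presIdeal n)
    (hodd : Odd n) (q : FreeE n) :
    (∃ w : P n, τ w = w ∧ phi n q = eps n 1 * w) ↔ q ∈ oddIdeal n := by
  have hn3 : 3 ≤ n := by
    obtain ⟨m, rfl⟩ := hodd; omega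
  rw [← pres_sup_eq_odd hodd hn3]
  constructor
  · rintro ⟨w, hw, hq⟩
    have hwr : w ∈ (phi n).range := by
      rw [hrange]; exact hw
    obtain ⟨q', hq'⟩ := hwr
    have hq'' : phi n q' = w := hq'
    have h0 : q - evar n 1 * q' ∈ presIdeal n := by
      rw [← hker, RingHom.mem_ker, map_sub, map_mul, phi_evar_one hn, hq, hq'', sub_self]
    have h1 : evar n 1 * q' ∈ Ideal.span ({evar n 1} : Set (FreeE n)) :=
      Ideal.mul_mem_right _ _ (Ideal.subset_span rfl)
    have := Ideal.add_mem _ (Ideal.mem_sup_left h0) (Ideal.mem_sup_right (S := presIdeal n) h1)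
    rwa [sub_add_cancel] at this
  · intro hq
    obtain ⟨p, hp, r, hr, rfl⟩ := Submodule.mem_sup.mp hq
    obtain ⟨q', rfl⟩ := Ideal.mem_span_singleton'.mp hr
    refine ⟨phi n q', ?_, ?_⟩
    · have : phi n q' ∈ (phi n).range := ⟨q', rfl⟩
      rw [hrange] at this; exact this
    · rw [← hker, RingHom.mem_ker] at hp
      rw [map_add, hp, zero_add, map_mul, phi_evar_one hn, mul_comm]

end Groth.Agent.Lib.Helper64.QsChowD
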