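/-
helper64: QsChow (S17749): n = 2^b. Elimination of `x` (`x ≡ S₂` mod `presIdeal`):
`range ψ = range φ` and `ker ψ = powIdeal`, given `ker φ = presIdeal`.
-/
import Mathlib
import Groth.Prelude.Def_W4c4chowquasisplitPn2
import Groth.Agent.Lib.Helper64.QsChowD

set_option autoImplicit false
open QsChow MvPolynomial

namespace Groth.Agent.Lib.Helper64.QsChowE

open Groth.Agent.Lib.Helper64.QsChowD

theorem two_zero (A : Type*) [CommRing A] [Algebra (ZMod 2) A] : (2 : A) = 0 := by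
  have h : (2 : ZMod 2) = 0 := by decide
  have := congrArg (algebraMap (ZMod 2) A) h
  rwa [map_ofNat, map_zero] at this

theorem sq_sum {A : Type*} [CommRing A] (h2 : (2 : A) = 0) {ι : Type*} (s : Finset ι)
    (f : ι → A) : (∑ i ∈ s, f i) ^ 2 = ∑ i ∈ s, f i ^ 2 := by
  classical
  induction s using Finset.induction_on with
  | empty => simp
  | insert a s ha ih =>
    rw [Finset.sum_insert ha, Finset.sum_insert ha, ← ih]
    linear_combination (f a * ∑ i ∈ s, f i) * h2

theorem S_sq {A : Type*} [CommRing A] (h2 : (2 : A) = 0) (u v : A) (b : ℕ) (hb : 1 ≤ b) :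
    u ^ 2 ^ b ∣ (∑ t ∈ Finset.range b, u ^ (2 ^ b - 2 ^ (t + 1)) * v ^ 2 ^ t) ^ 2 - v ^ 2 ^ b := by
  obtain ⟨b', rfl⟩ : ∃ b', b = b' + 1 := ⟨b - 1, by omega⟩
  rw [sq_sum h2, Finset.sum_range_succ, Nat.sub_self, pow_zero, one_mul]
  have : (v ^ 2 ^ b') ^ 2 = v ^ 2 ^ (b' + 1) := by rw [← pow_mul, ← pow_succ]
  rw [this, add_sub_cancel_right]
  apply Finset.dvd_sum
  intro t ht
  rw [mul_pow, ← pow_mul]
  apply dvd_mul_of_dvd_left
  apply pow_dvd_pow
  have : t + 1 ≤ b' := by simpa [Finset.mem_range] using ht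
  have h1 : 2 ^ (t + 1) ≤ 2 ^ b' := Nat.pow_le_pow_right (by norm_num) this
  have h3 : 2 ^ (b' + 1) = 2 * 2 ^ b' := by rw [pow_succ]; ring
  omega

section pow2

variable {n b : ℕ}

theorem numVars_pow (hb : 1 ≤ b) (hnb : n = 2 ^ b) : 2 * numVars n = n + 2 := by
  obtain ⟨b', rfl⟩ : ∃ b', b = b' + 1 := ⟨b - 1, by omega⟩
  subst hnb
  unfold numVars
  rw [pow_succ]; omega

theorem klog_two_pow (hnb : n = 2 ^ b) : klog n 2 = b := by
  rw [QsChowD.klog_two, hnb]
  rcases Nat.eq_zero_or_pos b with rfl | hb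
  · simp
  rw [Nat.log_eq_iff (Or.inl (by omega))]
  have : 0 < 2 ^ b := Nat.two_pow_pos b
  constructor
  · omega
  · rw [pow_succ]; omega

theorem kprime_two_pow (hnb : n = 2 ^ b) : kprime n 2 = b := by
  rw [QsChowD.kprime_two, hnb, Nat.log_pow (by norm_num)]

theorem kprime_one_pow (hnb : n = 2 ^ b) : kprime n 1 = b := by
  unfold kprime twoExp; rw [if_pos rfl, hnb, padicValNat.prime_pow]

theorem not_dvd_two_pow (d m : ℕ) (hd3 : 3 ≤ d) (hodd : Odd d) : ¬ d ∣ 2 ^ m := by
  intro h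
  obtain ⟨i, _, rfl⟩ := (Nat.dvd_prime_pow Nat.prime_two).mp h
  rcases Nat.eq_zero_or_pos i with rfl | hi
  · simp at hd3
  · exact (Nat.not_even_iff_odd.mpr hodd) (Nat.even_pow.mpr ⟨even_two, by omega⟩)

theorem klog_eq_kprime_pow (hb : 1 ≤ b) (hnb : n = 2 ^ b) (j : ℕ) (hj3 : 3 ≤ j)
    (hjs : j ≤ numVars n) : klog n j = kprime n j := by
  rw [kprime_ge3 n j hj3]
  unfold klog
  have hnv := numVars_pow hb hnb
  have hd3 : 3 ≤ 2 * j - 3 := by omega
  have hdn : 2 * j - 3 + 1 ≤ n := by omega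
  have hdodd : Odd (2 * j - 3) := ⟨j - 2, by omega⟩
  generalize 2 * j - 3 = d at *
  have hm2 : 2 ≤ 2 * n / d := by
    rw [Nat.le_div_iff_mul_le (by omega)]; omega
  have h1 : 2 ^ Nat.log 2 (2 * n / d) ≤ 2 * n / d := Nat.pow_log_le_self 2 (by omega)
  have h2 : 2 * n / d < 2 ^ (Nat.log 2 (2 * n / d) + 1) :=
    Nat.lt_pow_succ_log_self (by norm_num) _
  generalize Nat.log 2 (2 * n / d) = k at *
  have hk1 : 1 ≤ k := by
    by_contra h
    have : k = 0 := by omega
    rw [this] at h2; simp at h2; omega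
  rw [Nat.log_eq_iff (Or.inl (by omega))]
  constructor
  · rw [Nat.le_div_iff_mul_le (by omega)]
    have h1' : 2 ^ k * d ≤ 2 * n := (Nat.le_div_iff_mul_le (by omega)).mp h1
    by_contra hcon
    have heq : 2 ^ k * d = 2 * n := by omega
    apply not_dvd_two_pow d (b + 1) hd3 hdodd
    rw [pow_succ, ← hnb, mul_comm n 2, ← heq]
    exact dvd_mul_left _ _
  · calc (2 * n - 1) / d ≤ 2 * n / d := Nat.div_le_div_right (by omega)
      _ < 2 ^ (k + 1) := h2

theorem exps_pow (hb : 1 ≤ b) (hnb : n = 2 ^ b) (j : ℕ) (hj3 : 3 ≤ j)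
    (hjs : j ≤ numVars n) :
    n < (2 * j - 3) * 2 ^ klog n j ∧ n ≤ (2 * j - 4) * 2 ^ klog n j := by
  unfold klog
  have hnv := numVars_pow hb hnb
  have hd3 : 3 ≤ 2 * j - 3 := by omega
  have hdn : 2 * j - 3 + 1 ≤ n := by omega
  have hdodd : Odd (2 * j - 3) := ⟨j - 2, by omega⟩
  have hd4 : 2 * j - 4 = 2 * j - 3 - 1 := by omega
  rw [hd4]
  generalize 2 * j - 3 = d at *
  have hpos : (2 * n - 1) / d ≠ 0 := by
    have : 1 ≤ (2 * n - 1) / d := by rw [Nat.le_div_iff_mul_le (by omega)]; omega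
    omega
  have h1 : 2 ^ Nat.log 2 ((2 * n - 1) / d) ≤ (2 * n - 1) / d := Nat.pow_log_le_self 2 hpos
  have h2 : (2 * n - 1) / d < 2 ^ (Nat.log 2 ((2 * n - 1) / d) + 1) :=
    Nat.lt_pow_succ_log_self (by norm_num) _
  generalize Nat.log 2 ((2 * n - 1) / d) = k at *
  rw [Nat.div_lt_iff_lt_mul (by omega), pow_succ] at h2
  rw [Nat.le_div_iff_mul_le (by omega)] at h1
  have hne : 2 ^ k * d ≠ n := by
    intro heq
    apply not_dvd_two_pow d b hd3 hdodd
    rw [← hnb, ← heq]; exact dvd_mul_left _ _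
  have hle : n ≤ 2 ^ k * d := by
    have : 2 ^ k * 2 * d = 2 * (2 ^ k * d) := by ring
    omega
  have hlt : n < 2 ^ k * d := by omega
  have hkb : k ≤ b := by
    by_contra hcon
    have : 2 ^ (b + 1) ≤ 2 ^ k := Nat.pow_le_pow_right (by norm_num) (by omega)
    rw [pow_succ, ← hnb] at this
    have h3 := Nat.mul_le_mul_left (2 ^ k) hd3
    have h4 : 0 < 2 ^ k := Nat.two_pow_pos k
    omega
  obtain ⟨c, rfl⟩ : ∃ c, b = k + c := ⟨b - k, by omega⟩
  rw [pow_add] at hnb
  have hcd : 2 ^ c < d := by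
    rw [hnb] at hlt
    exact Nat.lt_of_mul_lt_mul_left hlt
  constructor
  · rw [mul_comm]; exact hlt
  · rw [mul_comm, hnb]
    exact Nat.mul_le_mul_left _ (by omega)

end pow2

/-! ### the maps ι and ρ -/

section maps

variable {n : ℕ}

noncomputable def iota (n : ℕ) : FreeP n →ₐ[ZMod 2] FreeE n := rename some

noncomputable def S2' (n : ℕ) : FreeP n :=
  ∑ t ∈ Finset.range (kprime n 2),
    evarE n 1 ^ (2 ^ kprime n 2 - 2 ^ (t + 1)) * evarE n 2 ^ 2 ^ t

noncomputable def rhoFun (n : ℕ) : Option (Fin (numVars n)) → FreeP n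
  | some i => X i
  | none => S2' n

noncomputable def rho (n : ℕ) : FreeE n →ₐ[ZMod 2] FreeP n := aeval (rhoFun n)

noncomputable def sPolyE (n j : ℕ) : FreeP n :=
  ∑ t ∈ Finset.range (klog n j), evarE n 1 ^ (2 ^ klog n j - 2 ^ (t + 1)) * evarE n 2 ^ 2 ^ t

theorem iota_evarE (j : ℕ) : iota n (evarE n j) = evar n j := by
  unfold evarE evar iota; split_ifs <;> simp

theorem rho_evar (j : ℕ) : rho n (evar n j) = evarE n j := by
  unfold evarE evar rho; split_ifs <;> simp [rhoFun]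

theorem rho_xvar : rho n (xvar n) = S2' n := by simp [rho, xvar, rhoFun]

theorem rho_iota (q : FreeP n) : rho n (iota n q) = q := by
  unfold rho iota
  rw [aeval_rename]
  have : rhoFun n ∘ some = X := by funext i; rfl
  rw [this, aeval_X_left]; rfl

theorem psi_eq (q : FreeP n) : psi n q = phi n (iota n q) := by
  unfold psi phi iota
  rw [aeval_rename]; rfl

theorem iota_sPolyE (j : ℕ) : iota n (sPolyE n j) = sPoly n j := by
  unfold sPolyE sPoly; simp only [map_sum, map_mul, map_pow, iota_evarE]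

theorem rho_sPoly (j : ℕ) : rho n (sPoly n j) = sPolyE n j := by
  unfold sPolyE sPoly; simp only [map_sum, map_mul, map_pow, rho_evar]

theorem S2'_eq (h : kprime n 2 = klog n 2) : S2' n = sPolyE n 2 := by
  unfold S2' sPolyE; rw [h]

end maps

section main

variable {n b : ℕ}

theorem hrel_two_pow (hnb : n = 2 ^ b) : hrel n 2 = xvar n + sPoly n 2 := by
  have h : hrel n 2 = evar n 1 ^ (2 ^ klog n 2 - n) * xvar n + sPoly n 2 := by
    unfold hrel; rw [if_pos rfl]
  rw [h, klog_two_pow hnb, ← hnb, Nat.sub_self, pow_zero, one_mul]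

theorem hrel_two_mem (hn : 2 ≤ n) : hrel n 2 ∈ presIdeal n := by
  have hnv : 1 < numVars n := by unfold numVars; omega
  exact Ideal.subset_span (Or.inr ⟨⟨1, hnv⟩, rfl⟩)

theorem hrel_mem (i : Fin (numVars n)) : hrel n (i.val + 1) ∈ presIdeal n :=
  Ideal.subset_span (Or.inr ⟨i, rfl⟩)

theorem En_mem : evar n 1 ^ n ∈ presIdeal n := Ideal.subset_span (Or.inl (by simp))
theorem Ex_mem : evar n 1 * xvar n ∈ presIdeal n := Ideal.subset_span (Or.inl (by simp))
theorem xx_mem : xvar n ^ 2 ∈ presIdeal n := Ideal.subset_span (Or.inl (by simp))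

theorem hrel_ge3 (j : ℕ) (hj3 : 3 ≤ j) (hjs : j ≤ numVars n) :
    hrel n j = evar n j ^ 2 ^ klog n j +
      evar n 1 ^ ((2 * j - 3) * 2 ^ klog n j - n) * xvar n +
      evar n 1 ^ ((2 * j - 4) * 2 ^ klog n j) * sPoly n j := by
  unfold hrel; rw [if_neg (by omega), if_pos ⟨hj3, hjs⟩]

theorem phi_eq_psi_rho (hn : 2 ≤ n) (hker : RingHom.ker (phi n) = presIdeal n)
    (hnb : n = 2 ^ b) (q : FreeE n) : phi n q = psi n (rho n q) := by
  have : phi n = (psi n).comp (rho n) := by
    apply MvPolynomial.algHom_ext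
    intro v
    cases v with
    | some i => simp [rho, rhoFun, psi, phi]
    | none =>
      have h0 : phi n (hrel n 2) = 0 := by
        rw [← RingHom.mem_ker, hker]; exact hrel_two_mem hn
      rw [hrel_two_pow hnb, map_add] at h0
      have hk : kprime n 2 = klog n 2 := by rw [kprime_two_pow hnb, klog_two_pow hnb]
      have h1 : (psi n).comp (rho n) (X none) = phi n (sPoly n 2) := by
        rw [AlgHom.comp_apply]
        have : rho n (X none) = S2' n := rho_xvar
        rw [this, psi_eq, S2'_eq hk, iota_sPolyE]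
      rw [h1]
      have h2 := two_zero (P n)
      change phi n (xvar n) = _
      linear_combination h0 - phi n (sPoly n 2) * h2
  rw [this]; rfl

theorem range_psi (hn : 2 ≤ n) (hker : RingHom.ker (phi n) = presIdeal n)
    (hnb : n = 2 ^ b) : (psi n).range = (phi n).range := by
  ext z
  constructor
  · rintro ⟨q, rfl⟩
    exact ⟨iota n q, (psi_eq q).symm⟩
  · rintro ⟨q, rfl⟩
    exact ⟨rho n q, (phi_eq_psi_rho hn hker hnb q).symm⟩

theorem gen_mem_pow (i : Fin (numVars n)) :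
    evarE n (i.val + 1) ^ 2 ^ kprime n (i.val + 1) ∈ powIdeal n :=
  Ideal.subset_span (Or.inr ⟨i, rfl⟩)

theorem E1S_mem_pow : evarE n 1 * S2' n ∈ powIdeal n :=
  Ideal.subset_span (Or.inl rfl)

theorem E1n_mem_pow (hn : 2 ≤ n) (hnb : n = 2 ^ b) : evarE n 1 ^ n ∈ powIdeal n := by
  have hnv : 0 < numVars n := by unfold numVars; omega
  have := gen_mem_pow (n := n) ⟨0, hnv⟩
  simp only [zero_add] at this
  rw [kprime_one_pow hnb, ← hnb] at this
  exact this

theorem map_rho_pres_le (hn : 2 ≤ n) (hb : 1 ≤ b) (hnb : n = 2 ^ b) :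
    Ideal.map (rho n) (presIdeal n) ≤ powIdeal n := by
  unfold presIdeal
  rw [Ideal.map_span]
  apply Ideal.span_le.mpr
  rintro _ ⟨g, hg, rfl⟩
  have h2 := two_zero (FreeP n)
  rcases hg with hg | ⟨i, rfl⟩
  · simp only [Set.mem_insert_iff, Set.mem_singleton_iff] at hg
    rcases hg with rfl | rfl | rfl
    · show rho n (evar n 1 ^ n) ∈ _
      rw [map_pow, rho_evar]
      exact E1n_mem_pow hn hnb
    · show rho n (evar n 1 * xvar n) ∈ _
      rw [map_mul, rho_evar, rho_xvar]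
      exact E1S_mem_pow
    · show rho n (xvar n ^ 2) ∈ _
      rw [map_pow, rho_xvar]
      have hdvd := S_sq h2 (evarE n 1) (evarE n 2) b hb
      have hk := kprime_two_pow hnb
      have hS : S2' n = ∑ t ∈ Finset.range b,
          evarE n 1 ^ (2 ^ b - 2 ^ (t + 1)) * evarE n 2 ^ 2 ^ t := by
        unfold S2'; rw [hk]
      rw [← hS, ← hnb] at hdvd
      have h1 : S2' n ^ 2 - evarE n 2 ^ n ∈ powIdeal n := by
        obtain ⟨c, hc⟩ := hdvd
        rw [hc]
        exact Ideal.mul_mem_right _ _ (E1n_mem_pow hn hnb)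
      have hnv : 1 < numVars n := by unfold numVars; omega
      have h3 := gen_mem_pow (n := n) ⟨1, hnv⟩
      simp only [] at h3
      have : (1 : ℕ) + 1 = 2 := rfl
      rw [this, hk, ← hnb] at h3
      have := add_mem h1 h3
      rwa [sub_add_cancel] at this
  · show rho n (hrel n (i.val + 1)) ∈ _
    rcases Nat.lt_or_ge i.val 1 with h0 | h1
    · have : i.val = 0 := by omega
      rw [this, hrel_one, map_zero]; exact zero_mem _
    · rcases Nat.lt_or_ge i.val 2 with h1' | h2'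
      · have hi : i.val = 1 := by omega
        rw [hi]
        have : (1 : ℕ) + 1 = 2 := rfl
        rw [this, hrel_two_pow hnb, map_add, rho_xvar, rho_sPoly]
        have hk : kprime n 2 = klog n 2 := by rw [kprime_two_pow hnb, klog_two_pow hnb]
        rw [S2'_eq hk]
        have : sPolyE n 2 + sPolyE n 2 = 0 := by linear_combination sPolyE n 2 * h2
        rw [this]; exact zero_mem _
      · have hj3 : 3 ≤ i.val + 1 := by omega
        have hjs : i.val + 1 ≤ numVars n := i.isLt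
        obtain ⟨hA, hB⟩ := exps_pow hb hnb (i.val + 1) hj3 hjs
        have hkk := klog_eq_kprime_pow hb hnb (i.val + 1) hj3 hjs
        rw [hrel_ge3 _ hj3 hjs, map_add, map_add, map_mul, map_mul, map_pow, map_pow, map_pow,
          rho_evar, rho_evar, rho_xvar, rho_sPoly]
        refine add_mem (add_mem ?_ ?_) ?_
        · rw [hkk]; exact gen_mem_pow i
        · obtain ⟨A, hAeq⟩ : ∃ A, (2 * (i.val + 1) - 3) * 2 ^ klog n (i.val + 1) - n = A + 1 :=
            ⟨(2 * (i.val + 1) - 3) * 2 ^ klog n (i.val + 1) - n - 1, by omega⟩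
          rw [hAeq, pow_succ, mul_assoc]
          exact Ideal.mul_mem_left _ _ E1S_mem_pow
        · obtain ⟨B, hBeq⟩ : ∃ B, (2 * (i.val + 1) - 4) * 2 ^ klog n (i.val + 1) = n + B :=
            ⟨(2 * (i.val + 1) - 4) * 2 ^ klog n (i.val + 1) - n, by omega⟩
          rw [hBeq, pow_add, mul_assoc]
          exact Ideal.mul_mem_right _ _ (E1n_mem_pow hn hnb)

theorem iota_pow_le (hn : 2 ≤ n) (hb : 1 ≤ b) (hnb : n = 2 ^ b) :
    Ideal.map (iota n) (powIdeal n) ≤ presIdeal n := by
  unfold powIdeal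
  rw [Ideal.map_span]
  apply Ideal.span_le.mpr
  rintro _ ⟨g, hg, rfl⟩
  have h2 := two_zero (FreeE n)
  have hk : kprime n 2 = klog n 2 := by rw [kprime_two_pow hnb, klog_two_pow hnb]
  have hS2 : sPoly n 2 = hrel n 2 - xvar n := by rw [hrel_two_pow hnb]; ring
  rcases hg with hg | ⟨i, rfl⟩
  · rw [Set.mem_singleton_iff] at hg
    subst hg
    show iota n (evarE n 1 * S2' n) ∈ _
    rw [map_mul, iota_evarE, S2'_eq hk, iota_sPolyE, hS2, mul_sub]
    exact sub_mem (Ideal.mul_mem_left _ _ (hrel_two_mem hn)) Ex_mem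
  · show iota n (evarE n (i.val + 1) ^ 2 ^ kprime n (i.val + 1)) ∈ _
    rw [map_pow, iota_evarE]
    rcases Nat.lt_or_ge i.val 1 with h0 | h1
    · have : i.val = 0 := by omega
      rw [this]
      simp only [zero_add]
      rw [kprime_one_pow hnb, ← hnb]
      exact En_mem
    · rcases Nat.lt_or_ge i.val 2 with h1' | h2'
      · have hi : i.val = 1 := by omega
        rw [hi]
        have : (1 : ℕ) + 1 = 2 := rfl
        rw [this, kprime_two_pow hnb, ← hnb]
        have hdvd := S_sq h2 (evar n 1) (evar n 2) b hb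
        have hS : sPoly n 2 = ∑ t ∈ Finset.range b,
            evar n 1 ^ (2 ^ b - 2 ^ (t + 1)) * evar n 2 ^ 2 ^ t := by
          unfold sPoly; rw [klog_two_pow hnb]
        rw [← hS, ← hnb] at hdvd
        have h1 : sPoly n 2 ^ 2 - evar n 2 ^ n ∈ presIdeal n := by
          obtain ⟨c, hc⟩ := hdvd
          rw [hc]
          exact Ideal.mul_mem_right _ _ En_mem
        have h3 : sPoly n 2 ^ 2 ∈ presIdeal n := by
          have : sPoly n 2 ^ 2 = hrel n 2 * (hrel n 2 - 2 * xvar n) + xvar n ^ 2 := by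
            rw [hS2]; ring
          rw [this]
          exact add_mem (Ideal.mul_mem_right _ _ (hrel_two_mem hn)) xx_mem
        have := sub_mem h3 h1
        rwa [sub_sub_cancel] at this
      · have hj3 : 3 ≤ i.val + 1 := by omega
        have hjs : i.val + 1 ≤ numVars n := i.isLt
        obtain ⟨hA, hB⟩ := exps_pow hb hnb (i.val + 1) hj3 hjs
        have hkk := klog_eq_kprime_pow hb hnb (i.val + 1) hj3 hjs
        have hh := hrel_mem (n := n) i
        rw [hrel_ge3 _ hj3 hjs] at hh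
        rw [← hkk]
        have hsecond : evar n 1 ^ ((2 * (i.val + 1) - 3) * 2 ^ klog n (i.val + 1) - n) * xvar n
            ∈ presIdeal n := by
          obtain ⟨A, hAeq⟩ : ∃ A, (2 * (i.val + 1) - 3) * 2 ^ klog n (i.val + 1) - n = A + 1 :=
            ⟨(2 * (i.val + 1) - 3) * 2 ^ klog n (i.val + 1) - n - 1, by omega⟩
          rw [hAeq, pow_succ, mul_assoc]
          exact Ideal.mul_mem_left _ _ Ex_mem
        have hthird : evar n 1 ^ ((2 * (i.val + 1) - 4) * 2 ^ klog n (i.val + 1)) *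
            sPoly n (i.val + 1) ∈ presIdeal n := by
          obtain ⟨B, hBeq⟩ : ∃ B, (2 * (i.val + 1) - 4) * 2 ^ klog n (i.val + 1) = n + B :=
            ⟨(2 * (i.val + 1) - 4) * 2 ^ klog n (i.val + 1) - n, by omega⟩
          rw [hBeq, pow_add, mul_assoc]
          exact Ideal.mul_mem_right _ _ En_mem
        have := sub_mem (sub_mem hh hsecond) hthird
        have e : evar n (i.val + 1) ^ 2 ^ klog n (i.val + 1) +
            evar n 1 ^ ((2 * (i.val + 1) - 3) * 2 ^ klog n (i.val + 1) - n) * xvar n +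
            evar n 1 ^ ((2 * (i.val + 1) - 4) * 2 ^ klog n (i.val + 1)) * sPoly n (i.val + 1) -
            evar n 1 ^ ((2 * (i.val + 1) - 3) * 2 ^ klog n (i.val + 1) - n) * xvar n -
            evar n 1 ^ ((2 * (i.val + 1) - 4) * 2 ^ klog n (i.val + 1)) * sPoly n (i.val + 1) =
            evar n (i.val + 1) ^ 2 ^ klog n (i.val + 1) := by ring
        rwa [e] at this

theorem ker_psi (hn : 2 ≤ n) (hker : RingHom.ker (phi n) = presIdeal n)
    (hb : 1 ≤ b) (hnb : n = 2 ^ b) : RingHom.ker (psi n) = powIdeal n := by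
  apply le_antisymm
  · intro q hq
    rw [RingHom.mem_ker, psi_eq, ← RingHom.mem_ker, hker] at hq
    have := map_rho_pres_le hn hb hnb (Ideal.mem_map_of_mem (rho n) hq)
    rwa [rho_iota] at this
  · intro q hq
    have := iota_pow_le hn hb hnb (Ideal.mem_map_of_mem (iota n) hq)
    rw [← hker, RingHom.mem_ker] at this
    rw [RingHom.mem_ker, psi_eq]; exact this

theorem pow_main (hn : 2 ≤ n)
    (τ : P n →ₐ[ZMod 2] P n)
    (hrange : (phi n).range = AlgHom.equalizer τ (AlgHom.id (ZMod 2) (P n)))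
    (hker : RingHom.ker (phi n) = presIdeal n)
    (hb : 1 ≤ b) (hnb : n = 2 ^ b) :
    (psi n).range = AlgHom.equalizer τ (AlgHom.id (ZMod 2) (P n)) ∧
      RingHom.ker (psi n) = powIdeal n :=
  ⟨(range_psi hn hker hnb).trans hrange, ker_psi hn hker hb hnb⟩

end main

end Groth.Agent.Lib.Helper64.QsChowE
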