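/-
helper64: QsChow (S17748): n even, not a power of 2. Numerics.
-/
import Mathlib
import Groth.Prelude.Def_W4c4chowquasisplitPn2
import Groth.Agent.Lib.Helper64.QsChowE

set_option autoImplicit false
open QsChow MvPolynomial

namespace Groth.Agent.Lib.Helper64.QsChowF

open Groth.Agent.Lib.Helper64.QsChowD Groth.Agent.Lib.Helper64.QsChowE

theorem two_pow_mul_odd_inj {k k' d m : ℕ} (hd : Odd d) (hm : Odd m)
    (h : 2 ^ k * d = 2 ^ k' * m) : k = k' ∧ d = m := by
  have hd0 : d ≠ 0 := by rintro rfl; simp at hd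
  have hm0 : m ≠ 0 := by rintro rfl; simp at hm
  have h1 : padicValNat 2 (2 ^ k * d) = k := by
    rw [padicValNat.mul (pow_ne_zero _ two_ne_zero) hd0, padicValNat.prime_pow,
      padicValNat.eq_zero_of_not_dvd hd.not_two_dvd_nat, add_zero]
  have h2 : padicValNat 2 (2 ^ k' * m) = k' := by
    rw [padicValNat.mul (pow_ne_zero _ two_ne_zero) hm0, padicValNat.prime_pow,
      padicValNat.eq_zero_of_not_dvd hm.not_two_dvd_nat, add_zero]
  have hk : k = k' := by rw [← h1, h, h2]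
  subst hk
  exact ⟨rfl, Nat.eq_of_mul_eq_mul_left (Nat.two_pow_pos k) h⟩

theorem le_of_log (N d : ℕ) (hd3 : 3 ≤ d) :
    N ≤ d * 2 ^ Nat.log 2 ((2 * N - 1) / d) := by
  have h2 : (2 * N - 1) / d < 2 ^ (Nat.log 2 ((2 * N - 1) / d) + 1) :=
    Nat.lt_pow_succ_log_self (by norm_num) _
  generalize Nat.log 2 ((2 * N - 1) / d) = k at *
  rw [Nat.div_lt_iff_lt_mul (by omega), pow_succ] at h2
  have : 2 ^ k * 2 * d = 2 * (d * 2 ^ k) := by ring
  omega

theorem lt_of_log (N d : ℕ) (hd3 : 3 ≤ d) (hne : ∀ k, 2 ^ k * d ≠ N) :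
    N < d * 2 ^ Nat.log 2 ((2 * N - 1) / d) := by
  have h := le_of_log N d hd3
  have := hne (Nat.log 2 ((2 * N - 1) / d))
  rw [mul_comm] at this
  omega

theorem log_div_eq (N d : ℕ) (hd3 : 3 ≤ d) (hdN : d ≤ N) (hne : ∀ k, 2 ^ k * d ≠ 2 * N) :
    Nat.log 2 ((2 * N - 1) / d) = Nat.log 2 (2 * N / d) := by
  have hm2 : 2 ≤ 2 * N / d := by
    rw [Nat.le_div_iff_mul_le (by omega)]; omega
  have h1 : 2 ^ Nat.log 2 (2 * N / d) ≤ 2 * N / d := Nat.pow_log_le_self 2 (by omega)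
  have h2 : 2 * N / d < 2 ^ (Nat.log 2 (2 * N / d) + 1) :=
    Nat.lt_pow_succ_log_self (by norm_num) _
  generalize Nat.log 2 (2 * N / d) = k at *
  have hk1 : 1 ≤ k := by
    by_contra h
    have : k = 0 := by omega
    rw [this] at h2; simp at h2; omega
  rw [Nat.log_eq_iff (Or.inl (by omega))]
  constructor
  · rw [Nat.le_div_iff_mul_le (by omega)]
    have h1' : 2 ^ k * d ≤ 2 * N := (Nat.le_div_iff_mul_le (by omega)).mp h1
    have := hne k
    omega
  · calc (2 * N - 1) / d ≤ 2 * N / d := Nat.div_le_div_right (by omega)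
      _ < 2 ^ (k + 1) := h2

/-- numerical data for the even, non-power-of-two case. -/
structure EvenData (n a l : ℕ) : Prop where
  hn : 2 ≤ n
  ha : 1 ≤ a
  hl3 : 3 ≤ l
  hls : l ≤ numVars n
  hk1 : kprime n 1 = a
  hkl : klog n l = a
  hkl' : kprime n l = a + 1
  hnl : (2 * l - 3) * 2 ^ a = n
  h5 : klog n 2 = kprime n 2 + 1
  hgt2 : n < 2 ^ klog n 2
  hak : a ≤ kprime n 2
  h6 : ∀ j, 3 ≤ j → j ≤ numVars n → j ≠ l →
    klog n j = kprime n j ∧ n < (2 * j - 3) * 2 ^ klog n j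
  h7 : ∀ j, 3 ≤ j → j ≤ numVars n → 2 ^ a ≤ (2 * j - 4) * 2 ^ klog n j
  han : 2 ^ a ≤ n

theorem decomp_n {n : ℕ} (hn : 2 ≤ n) (hne : n ≠ 2 ^ twoExp n) :
    ∃ c, 1 ≤ c ∧ n = 2 ^ twoExp n * (2 * c + 1) := by
  have hdvd : 2 ^ twoExp n ∣ n := pow_padicValNat_dvd
  obtain ⟨m, hm⟩ := hdvd
  have hmodd : Odd m := by
    by_contra h
    rw [Nat.not_odd_iff_even] at h
    obtain ⟨r, hr⟩ := h
    have : 2 ^ (twoExp n + 1) ∣ n := ⟨r, by
      calc n = 2 ^ twoExp n * m := hm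
        _ = 2 ^ (twoExp n + 1) * r := by rw [hr, pow_succ]; ring⟩
    exact pow_succ_padicValNat_not_dvd (by omega) this
  obtain ⟨c, hc⟩ := hmodd
  refine ⟨c, ?_, by rw [← hc]; exact hm⟩
  by_contra h
  have hc0 : c = 0 := by omega
  apply hne
  calc n = 2 ^ twoExp n * m := hm
    _ = 2 ^ twoExp n := by rw [hc, hc0]; simp

theorem evenData_aux {n a c : ℕ} (hn2 : 2 ≤ n) (ha : 1 ≤ a) (hc : 1 ≤ c)
    (hn : n = 2 ^ a * (2 * c + 1)) : EvenData n a (c + 2) := by
  have hpa : 2 ≤ 2 ^ a := by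
    calc 2 = 2 ^ 1 := by norm_num
      _ ≤ 2 ^ a := Nat.pow_le_pow_right (by norm_num) ha
  have hpa0 : 0 < 2 ^ a := Nat.two_pow_pos a
  have hmodd : Odd (2 * c + 1) := ⟨c, rfl⟩
  have hnge : 2 * (2 * c + 1) ≤ n := by rw [hn]; exact Nat.mul_le_mul_right _ hpa
  have han : 2 ^ a ≤ n := by rw [hn]; exact Nat.le_mul_of_pos_right _ (by omega)
  have hnv : c + 2 ≤ numVars n := by unfold numVars; omega
  have hm : 2 * (c + 2) - 3 = 2 * c + 1 := by omega
  have h2n : 2 * n = 2 ^ (a + 1) * (2 * c + 1) := by rw [hn, pow_succ]; ring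
  -- k'_2 and k_2
  have hlog1 : 2 ^ Nat.log 2 n ≤ n := Nat.pow_log_le_self 2 (by omega)
  have hlog2 : n < 2 ^ (Nat.log 2 n + 1) := Nat.lt_pow_succ_log_self (by norm_num) n
  have hnotpow : ∀ k, 2 ^ k ≠ n := by
    intro k hk
    have : 2 ^ k * 1 = 2 ^ a * (2 * c + 1) := by rw [mul_one, hk, hn]
    have := (two_pow_mul_odd_inj odd_one hmodd this).2
    omega
  have h5 : klog n 2 = kprime n 2 + 1 := by
    rw [klog_two, kprime_two]
    have := hnotpow (Nat.log 2 n)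
    generalize Nat.log 2 n = k at *
    rw [Nat.log_eq_iff (Or.inl (by omega))]
    constructor
    · rw [pow_succ] at hlog2 ⊢; omega
    · rw [pow_succ] at hlog2 ⊢
      rw [pow_succ]; omega
  refine
    { hn := hn2
      ha := ha
      hl3 := by omega
      hls := hnv
      hk1 := ?_
      hkl := ?_
      hkl' := ?_
      hnl := by rw [hm, hn, mul_comm]
      h5 := h5
      hgt2 := ?_
      hak := ?_
      h6 := ?_
      h7 := ?_
      han := han }
  · unfold kprime twoExp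
    rw [if_pos rfl, hn, padicValNat.mul (pow_ne_zero _ two_ne_zero) (by omega),
      padicValNat.prime_pow, padicValNat.eq_zero_of_not_dvd (by omega), add_zero]
  · unfold klog
    rw [hm, Nat.log_eq_iff (Or.inl (by omega))]
    constructor
    · rw [Nat.le_div_iff_mul_le (by omega), ← hn]; omega
    · rw [Nat.div_lt_iff_lt_mul (by omega), ← h2n]; omega
  · rw [kprime_ge3 n (c + 2) (by omega), hm, h2n, Nat.mul_div_cancel _ (by omega),
      Nat.log_pow (by norm_num)]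
  · rw [h5, kprime_two]; exact hlog2
  · rw [kprime_two]
    have : 2 ^ a < 2 ^ (Nat.log 2 n + 1) := lt_of_le_of_lt han hlog2
    have := (Nat.pow_lt_pow_iff_right (by norm_num : 1 < 2)).mp this
    omega
  · intro j hj3 hjs hjl
    have hd3 : 3 ≤ 2 * j - 3 := by omega
    have hdn : 2 * j - 3 ≤ n := by unfold numVars at hjs; omega
    have hdodd : Odd (2 * j - 3) := ⟨j - 2, by omega⟩
    have hdm : 2 * j - 3 ≠ 2 * c + 1 := by omega
    constructor
    · rw [kprime_ge3 n j hj3]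
      unfold klog
      apply log_div_eq n _ hd3 hdn
      intro k hk
      rw [h2n] at hk
      exact hdm (two_pow_mul_odd_inj hdodd hmodd hk).2
    · unfold klog
      apply lt_of_log n _ hd3
      intro k hk
      rw [hn] at hk
      exact hdm (two_pow_mul_odd_inj hdodd hmodd hk).2
  · intro j hj3 hjs
    have hd3 : 3 ≤ 2 * j - 3 := by omega
    have h := le_of_log n (2 * j - 3) hd3
    unfold klog
    have hd4 : 2 * j - 4 = 2 * j - 3 - 1 := by omega
    rw [hd4]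
    generalize Nat.log 2 ((2 * n - 1) / (2 * j - 3)) = k at *
    obtain ⟨d', hd'⟩ : ∃ d', 2 * j - 3 = d' + 1 := ⟨2 * j - 4, by omega⟩
    rw [hd'] at h ⊢
    have hd'2 : 2 ≤ d' := by omega
    simp only [Nat.add_sub_cancel]
    have h1 : 2 * 2 ^ k ≤ d' * 2 ^ k := Nat.mul_le_mul_right _ hd'2
    have h2 : (d' + 1) * 2 ^ k = d' * 2 ^ k + 2 ^ k := by ring
    have h3 : 3 * 2 ^ a ≤ n := by
      rw [hn, mul_comm]; exact Nat.mul_le_mul_left _ (by omega)
    omega

theorem evenData {n : ℕ} (hn : 2 ≤ n) (ha : 1 ≤ twoExp n) (hne : n ≠ 2 ^ twoExp n) :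
    EvenData n (twoExp n) (lIdx n) := by
  obtain ⟨c, hc, hnc⟩ := decomp_n hn hne
  have hl : lIdx n = c + 2 := by
    unfold lIdx
    have : n / 2 ^ twoExp n = 2 * c + 1 := by
      have h := hnc
      generalize twoExp n = a at h ⊢
      rw [h]; exact Nat.mul_div_cancel_left _ (Nat.two_pow_pos a)
    rw [this]; omega
  rw [hl]
  exact evenData_aux hn ha hc hnc

end Groth.Agent.Lib.Helper64.QsChowF
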