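/-
helper64: QsChow (S17748): n even, not a power of 2. Elimination of `x` modulo `e₁^(2^a)`.
-/
import Mathlib
import Groth.Prelude.Def_W4c4chowquasisplitPn2
import Groth.Agent.Lib.Helper64.QsChowF

set_option autoImplicit false
open QsChow MvPolynomial

namespace Groth.Agent.Lib.Helper64.QsChowG

open Groth.Agent.Lib.Helper64.QsChowD Groth.Agent.Lib.Helper64.QsChowE
  Groth.Agent.Lib.Helper64.QsChowF

variable {n a l : ℕ}

theorem S_sub {A : Type*} [CommRing A] (u v : A) (a k : ℕ) (hak : a ≤ k) :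
    u ^ 2 ^ a ∣ (∑ t ∈ Finset.range (k + 1), u ^ (2 ^ (k + 1) - 2 ^ (t + 1)) * v ^ 2 ^ t)
      - v ^ 2 ^ k := by
  rw [Finset.sum_range_succ, Nat.sub_self, pow_zero, one_mul, add_sub_cancel_right]
  apply Finset.dvd_sum
  intro t ht
  apply dvd_mul_of_dvd_left
  apply pow_dvd_pow
  have : t + 1 ≤ k := by simpa [Finset.mem_range] using ht
  have h1 : 2 ^ (t + 1) ≤ 2 ^ k := Nat.pow_le_pow_right (by norm_num) this
  have h3 : 2 ^ (k + 1) = 2 * 2 ^ k := by rw [pow_succ]; ring
  have h4 : 2 ^ a ≤ 2 ^ k := Nat.pow_le_pow_right (by norm_num) hak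
  omega

noncomputable def rhoF (n l a : ℕ) : Option (Fin (numVars n)) → FreeP n
  | some i => X i
  | none => evarE n l ^ 2 ^ a

noncomputable def rho2 (n l a : ℕ) : FreeE n →ₐ[ZMod 2] FreeP n := aeval (rhoF n l a)

theorem rho2_evar (j : ℕ) : rho2 n l a (evar n j) = evarE n j := by
  unfold evarE evar rho2; split_ifs <;> simp [rhoF]

theorem rho2_xvar : rho2 n l a (xvar n) = evarE n l ^ 2 ^ a := by simp [rho2, xvar, rhoF]

theorem rho2_iota (q : FreeP n) : rho2 n l a (iota n q) = q := by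
  unfold rho2 iota
  rw [aeval_rename]
  have : rhoF n l a ∘ some = X := by funext i; rfl
  rw [this, aeval_X_left]; rfl

theorem rho2_sPoly (j : ℕ) : rho2 n l a (sPoly n j) = sPolyE n j := by
  unfold sPolyE sPoly; simp only [map_sum, map_mul, map_pow, rho2_evar]

noncomputable def Ia (n a : ℕ) : Ideal (FreeE n) :=
  presIdeal n ⊔ Ideal.span {evar n 1 ^ 2 ^ a}

noncomputable def evenI (n a l : ℕ) : Ideal (FreeP n) :=
  Ideal.span ({evarE n 1 * evarE n l ^ 2 ^ a} ∪
    Set.range fun i : Fin (numVars n) => evarE n (i.val + 1) ^ 2 ^ kprime n (i.val + 1))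

theorem evenIdeal_eq (D : EvenData n (twoExp n) (lIdx n)) :
    evenIdeal n = evenI n (twoExp n) (lIdx n) := by
  unfold evenIdeal evenI; rw [D.hkl', Nat.add_sub_cancel]

theorem pres_le_Ia {p : FreeE n} (h : p ∈ presIdeal n) : p ∈ Ia n a := Ideal.mem_sup_left h

theorem Ea_mem : evar n 1 ^ 2 ^ a ∈ Ia n a := Ideal.mem_sup_right (Ideal.subset_span rfl)

theorem E_pow_mem (B : ℕ) (h : 2 ^ a ≤ B) (g : FreeE n) : evar n 1 ^ B * g ∈ Ia n a := by
  obtain ⟨B', rfl⟩ : ∃ B', B = 2 ^ a + B' := ⟨B - 2 ^ a, by omega⟩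
  rw [pow_add, mul_assoc]
  exact Ideal.mul_mem_right _ _ Ea_mem

theorem E_pow_x_mem (A : ℕ) (hA : 1 ≤ A) : evar n 1 ^ A * xvar n ∈ presIdeal n := by
  obtain ⟨A', rfl⟩ : ∃ A', A = A' + 1 := ⟨A - 1, by omega⟩
  rw [pow_succ, mul_assoc]
  exact Ideal.mul_mem_left _ _ Ex_mem

theorem hrel_mem' (j : ℕ) (hj1 : 1 ≤ j) (hjs : j ≤ numVars n) : hrel n j ∈ presIdeal n := by
  have := hrel_mem (n := n) ⟨j - 1, by omega⟩
  simp only [] at this
  have e : j - 1 + 1 = j := by omega
  rwa [e] at this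

theorem hrel_l (D : EvenData n a l) : hrel n l =
    evar n l ^ 2 ^ a + xvar n + evar n 1 ^ ((2 * l - 4) * 2 ^ a) * sPoly n l := by
  rw [hrel_ge3 l D.hl3 D.hls, D.hkl, D.hnl, Nat.sub_self, pow_zero, one_mul]

theorem K1 (D : EvenData n a l) : xvar n - evar n l ^ 2 ^ a ∈ Ia n a := by
  have h2 := two_zero (FreeE n)
  have hl3 := D.hl3
  have hh : hrel n l ∈ Ia n a := pres_le_Ia (hrel_mem' l (by omega) D.hls)
  have hB := D.h7 l D.hl3 D.hls
  rw [D.hkl] at hB
  have h3 : evar n 1 ^ ((2 * l - 4) * 2 ^ a) * sPoly n l ∈ Ia n a := E_pow_mem _ hB _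
  have : xvar n - evar n l ^ 2 ^ a =
      hrel n l - evar n 1 ^ ((2 * l - 4) * 2 ^ a) * sPoly n l - 2 * evar n l ^ 2 ^ a := by
    rw [hrel_l D]; ring
  rw [this, h2, zero_mul, sub_zero]
  exact sub_mem hh h3

theorem sub_iota_rho (hK1 : xvar n - evar n l ^ 2 ^ a ∈ Ia n a) (q : FreeE n) :
    q - iota n (rho2 n l a q) ∈ Ia n a := by
  have : (Ideal.Quotient.mkₐ (ZMod 2) (Ia n a)) =
      (Ideal.Quotient.mkₐ (ZMod 2) (Ia n a)).comp ((iota n).comp (rho2 n l a)) := by
    apply MvPolynomial.algHom_ext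
    intro v
    cases v with
    | some i => simp [rho2, rhoF, iota]
    | none =>
      simp only [AlgHom.comp_apply, Ideal.Quotient.mkₐ_eq_mk]
      rw [Ideal.Quotient.eq]
      have : rho2 n l a (X none) = evarE n l ^ 2 ^ a := by simp [rho2, rhoF]
      rw [this, map_pow, iota_evarE]
      exact hK1
  have h := DFunLike.congr_fun this q
  simp only [AlgHom.comp_apply, Ideal.Quotient.mkₐ_eq_mk] at h
  exact Ideal.Quotient.eq.mp h

/-! ### memberships in `evenI` -/

theorem g0_mem : evarE n 1 * evarE n l ^ 2 ^ a ∈ evenI n a l :=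
  Ideal.subset_span (Or.inl rfl)

theorem gen_mem (i : Fin (numVars n)) :
    evarE n (i.val + 1) ^ 2 ^ kprime n (i.val + 1) ∈ evenI n a l :=
  Ideal.subset_span (Or.inr ⟨i, rfl⟩)

theorem gen_mem' (j : ℕ) (hj1 : 1 ≤ j) (hjs : j ≤ numVars n) :
    evarE n j ^ 2 ^ kprime n j ∈ evenI n a l := by
  have := gen_mem (n := n) (a := a) (l := l) ⟨j - 1, by omega⟩
  simp only [] at this
  have e : j - 1 + 1 = j := by omega
  rwa [e] at this

theorem e1a_mem (D : EvenData n a l) : evarE n 1 ^ 2 ^ a ∈ evenI n a l := by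
  have hl3 := D.hl3
  have hls := D.hls
  have := gen_mem' (n := n) (a := a) (l := l) 1 le_rfl (by omega)
  rwa [D.hk1] at this

theorem e1_pow_mem (D : EvenData n a l) (B : ℕ) (h : 2 ^ a ≤ B) (g : FreeP n) :
    evarE n 1 ^ B * g ∈ evenI n a l := by
  obtain ⟨B', rfl⟩ : ∃ B', B = 2 ^ a + B' := ⟨B - 2 ^ a, by omega⟩
  rw [pow_add, mul_assoc]
  exact Ideal.mul_mem_right _ _ (e1a_mem D)

theorem e1l_pow_mem (A : ℕ) (hA : 1 ≤ A) :
    evarE n 1 ^ A * evarE n l ^ 2 ^ a ∈ evenI n a l := by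
  obtain ⟨A', rfl⟩ : ∃ A', A = A' + 1 := ⟨A - 1, by omega⟩
  rw [pow_succ, mul_assoc]
  exact Ideal.mul_mem_left _ _ g0_mem

theorem map_rho2_le (D : EvenData n a l) :
    Ideal.map (rho2 n l a) (Ia n a) ≤ evenI n a l := by
  have hl3 := D.hl3
  have hls := D.hls
  unfold Ia
  rw [Ideal.map_sup]
  apply sup_le
  · unfold presIdeal
    rw [Ideal.map_span]
    apply Ideal.span_le.mpr
    rintro _ ⟨g, hg, rfl⟩
    have h2 := two_zero (FreeP n)
    rcases hg with hg | ⟨i, rfl⟩
    · simp only [Set.mem_insert_iff, Set.mem_singleton_iff] at hg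
      rcases hg with rfl | rfl | rfl
      · show rho2 n l a (evar n 1 ^ n) ∈ _
        rw [map_pow, rho2_evar]
        have := e1_pow_mem D n D.han 1
        rwa [mul_one] at this
      · show rho2 n l a (evar n 1 * xvar n) ∈ _
        rw [map_mul, rho2_evar, rho2_xvar]; exact g0_mem
      · show rho2 n l a (xvar n ^ 2) ∈ _
        rw [map_pow, rho2_xvar, ← pow_mul, ← pow_succ]
        have := gen_mem' (n := n) (a := a) (l := l) l (by omega) D.hls
        rwa [D.hkl'] at this
    · show rho2 n l a (hrel n (i.val + 1)) ∈ _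
      rcases Nat.lt_or_ge i.val 1 with h0 | h1
      · have : i.val = 0 := by omega
        rw [this, hrel_one, map_zero]; exact zero_mem _
      · rcases Nat.lt_or_ge i.val 2 with h1' | h2'
        · have hi : i.val = 1 := by omega
          rw [hi]
          have : (1 : ℕ) + 1 = 2 := rfl
          rw [this]
          have h : hrel n 2 = evar n 1 ^ (2 ^ klog n 2 - n) * xvar n + sPoly n 2 := by
            unfold hrel; rw [if_pos rfl]
          rw [h, map_add, map_mul, map_pow, rho2_evar, rho2_xvar, rho2_sPoly]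
          apply add_mem
          · exact e1l_pow_mem _ (by have := D.hgt2; omega)
          · have hd := S_sub (evarE n 1) (evarE n 2) a (kprime n 2) D.hak
            have hS : sPolyE n 2 = ∑ t ∈ Finset.range (kprime n 2 + 1),
                evarE n 1 ^ (2 ^ (kprime n 2 + 1) - 2 ^ (t + 1)) * evarE n 2 ^ 2 ^ t := by
              unfold sPolyE; rw [D.h5]
            rw [← hS] at hd
            obtain ⟨c, hc⟩ := hd
            have h1 : sPolyE n 2 - evarE n 2 ^ 2 ^ kprime n 2 ∈ evenI n a l := by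
              rw [hc]; exact Ideal.mul_mem_right _ _ (e1a_mem D)
            have h3 := gen_mem' (n := n) (a := a) (l := l) 2 (by omega) (by omega)
            have := add_mem h1 h3
            rwa [sub_add_cancel] at this
        · have hj3 : 3 ≤ i.val + 1 := by omega
          have hjs : i.val + 1 ≤ numVars n := i.isLt
          have hB := D.h7 (i.val + 1) hj3 hjs
          rw [hrel_ge3 _ hj3 hjs, map_add, map_add, map_mul, map_mul, map_pow, map_pow, map_pow,
            rho2_evar, rho2_evar, rho2_xvar, rho2_sPoly]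
          by_cases hjl : i.val + 1 = l
          · rw [hjl, D.hkl, D.hnl, Nat.sub_self, pow_zero, one_mul]
            have : evarE n l ^ 2 ^ a + evarE n l ^ 2 ^ a +
                evarE n 1 ^ ((2 * l - 4) * 2 ^ a) * sPolyE n l =
                evarE n 1 ^ ((2 * l - 4) * 2 ^ a) * sPolyE n l := by
              linear_combination (evarE n l ^ 2 ^ a) * h2
            rw [this]
            rw [hjl, D.hkl] at hB
            exact e1_pow_mem D _ hB _
          · obtain ⟨hkk, hA⟩ := D.h6 _ hj3 hjs hjl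
            refine add_mem (add_mem ?_ ?_) ?_
            · rw [hkk]; exact gen_mem i
            · exact e1l_pow_mem _ (by omega)
            · exact e1_pow_mem D _ hB _
  · rw [Ideal.map_span, Set.image_singleton, Ideal.span_le, Set.singleton_subset_iff, map_pow,
      rho2_evar]
    exact e1a_mem D

theorem map_iota_le (D : EvenData n a l) :
    Ideal.map (iota n) (evenI n a l) ≤ Ia n a := by
  have hl3 := D.hl3
  have hls := D.hls
  unfold evenI
  rw [Ideal.map_span]
  apply Ideal.span_le.mpr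
  rintro _ ⟨g, hg, rfl⟩
  have h2 := two_zero (FreeE n)
  have hK1 := K1 D
  rcases hg with hg | ⟨i, rfl⟩
  · rw [Set.mem_singleton_iff] at hg
    subst hg
    show iota n (evarE n 1 * evarE n l ^ 2 ^ a) ∈ _
    rw [map_mul, map_pow, iota_evarE, iota_evarE]
    have : evar n 1 * evar n l ^ 2 ^ a =
        evar n 1 * xvar n - evar n 1 * (xvar n - evar n l ^ 2 ^ a) := by ring
    rw [this]
    exact sub_mem (pres_le_Ia Ex_mem) (Ideal.mul_mem_left _ _ hK1)
  · show iota n (evarE n (i.val + 1) ^ 2 ^ kprime n (i.val + 1)) ∈ _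
    rw [map_pow, iota_evarE]
    rcases Nat.lt_or_ge i.val 1 with h0 | h1
    · have : i.val = 0 := by omega
      rw [this]; simp only [zero_add]
      rw [D.hk1]; exact Ea_mem
    · rcases Nat.lt_or_ge i.val 2 with h1' | h2'
      · have hi : i.val = 1 := by omega
        rw [hi]
        have : (1 : ℕ) + 1 = 2 := rfl
        rw [this]
        have h : hrel n 2 = evar n 1 ^ (2 ^ klog n 2 - n) * xvar n + sPoly n 2 := by
          unfold hrel; rw [if_pos rfl]
        have hd := S_sub (evar n 1) (evar n 2) a (kprime n 2) D.hak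
        have hS : sPoly n 2 = ∑ t ∈ Finset.range (kprime n 2 + 1),
            evar n 1 ^ (2 ^ (kprime n 2 + 1) - 2 ^ (t + 1)) * evar n 2 ^ 2 ^ t := by
          unfold sPoly; rw [D.h5]
        rw [← hS] at hd
        obtain ⟨c, hc⟩ := hd
        have h1 : sPoly n 2 - evar n 2 ^ 2 ^ kprime n 2 ∈ Ia n a := by
          rw [hc]; exact Ideal.mul_mem_right _ _ Ea_mem
        have h3 : evar n 1 ^ (2 ^ klog n 2 - n) * xvar n ∈ Ia n a :=
          pres_le_Ia (E_pow_x_mem _ (by have := D.hgt2; omega))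
        have h4 : hrel n 2 ∈ Ia n a := pres_le_Ia (hrel_two_mem D.hn)
        have : evar n 2 ^ 2 ^ kprime n 2 = hrel n 2 - evar n 1 ^ (2 ^ klog n 2 - n) * xvar n -
            (sPoly n 2 - evar n 2 ^ 2 ^ kprime n 2) := by rw [h]; ring
        rw [this]
        exact sub_mem (sub_mem h4 h3) h1
      · have hj3 : 3 ≤ i.val + 1 := by omega
        have hjs : i.val + 1 ≤ numVars n := i.isLt
        have hB := D.h7 (i.val + 1) hj3 hjs
        by_cases hjl : i.val + 1 = l
        · rw [hjl, D.hkl']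
          have : evar n l ^ 2 ^ (a + 1) = xvar n ^ 2 -
              (xvar n - evar n l ^ 2 ^ a) * (xvar n + evar n l ^ 2 ^ a) := by
            rw [pow_succ, pow_mul]; ring
          rw [this]
          exact sub_mem (pres_le_Ia xx_mem) (Ideal.mul_mem_right _ _ hK1)
        · obtain ⟨hkk, hA⟩ := D.h6 _ hj3 hjs hjl
          have hh : hrel n (i.val + 1) ∈ Ia n a := pres_le_Ia (hrel_mem i)
          rw [hrel_ge3 _ hj3 hjs] at hh
          rw [← hkk]
          have hsecond : evar n 1 ^ ((2 * (i.val + 1) - 3) * 2 ^ klog n (i.val + 1) - n) * xvar n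
              ∈ Ia n a := pres_le_Ia (E_pow_x_mem _ (by omega))
          have hthird : evar n 1 ^ ((2 * (i.val + 1) - 4) * 2 ^ klog n (i.val + 1)) *
              sPoly n (i.val + 1) ∈ Ia n a := E_pow_mem _ hB _
          have := sub_mem (sub_mem hh hsecond) hthird
          have e : evar n (i.val + 1) ^ 2 ^ klog n (i.val + 1) +
              evar n 1 ^ ((2 * (i.val + 1) - 3) * 2 ^ klog n (i.val + 1) - n) * xvar n +
              evar n 1 ^ ((2 * (i.val + 1) - 4) * 2 ^ klog n (i.val + 1)) * sPoly n (i.val + 1) -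
              evar n 1 ^ ((2 * (i.val + 1) - 3) * 2 ^ klog n (i.val + 1) - n) * xvar n -
              evar n 1 ^ ((2 * (i.val + 1) - 4) * 2 ^ klog n (i.val + 1)) * sPoly n (i.val + 1) =
              evar n (i.val + 1) ^ 2 ^ klog n (i.val + 1) := by ring
          rwa [e] at this

theorem mem_Ia_iff (p : FreeE n) :
    p ∈ Ia n a ↔ ∃ p0 ∈ presIdeal n, ∃ r, p = p0 + r * evar n 1 ^ 2 ^ a := by
  unfold Ia
  rw [Submodule.mem_sup]
  constructor
  · rintro ⟨p0, hp0, y, hy, rfl⟩
    obtain ⟨r, rfl⟩ := Ideal.mem_span_singleton'.mp hy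
    exact ⟨p0, hp0, r, rfl⟩
  · rintro ⟨p0, hp0, r, rfl⟩
    exact ⟨p0, hp0, _, Ideal.mem_span_singleton'.mpr ⟨r, rfl⟩, rfl⟩

theorem even_main (hn : 2 ≤ n)
    (τ : P n →ₐ[ZMod 2] P n)
    (hrange : (phi n).range = AlgHom.equalizer τ (AlgHom.id (ZMod 2) (P n)))
    (hker : RingHom.ker (phi n) = presIdeal n)
    (ha : 1 ≤ twoExp n) (hne : n ≠ 2 ^ twoExp n) :
    (∀ q : FreeP n,
      (∃ w : P n, τ w = w ∧ psi n q = eps n 1 ^ 2 ^ twoExp n * w) ↔ q ∈ evenIdeal n) ∧
    (∀ z : P n, τ z = z → ∃ q : FreeP n, ∃ w : P n,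
      τ w = w ∧ z = psi n q + eps n 1 ^ 2 ^ twoExp n * w) := by
  have D := evenData hn ha hne
  rw [evenIdeal_eq D]
  generalize twoExp n = a at D ⊢
  generalize lIdx n = l at D ⊢
  have hφE : phi n (evar n 1) = eps n 1 := phi_evar_one hn
  constructor
  · intro q
    constructor
    · rintro ⟨w, hw, hq⟩
      have hwr : w ∈ (phi n).range := by rw [hrange]; exact hw
      obtain ⟨r, hr⟩ := hwr
      have hr' : phi n r = w := hr
      have h0 : iota n q - r * evar n 1 ^ 2 ^ a ∈ presIdeal n := by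
        rw [← hker, RingHom.mem_ker, map_sub, map_mul, map_pow, hφE, ← psi_eq, hq, hr']; ring
      have h1 : iota n q ∈ Ia n a := (mem_Ia_iff _).mpr ⟨_, h0, r, by ring⟩
      have := map_rho2_le D (Ideal.mem_map_of_mem (rho2 n l a) h1)
      rwa [rho2_iota] at this
    · intro hq
      have := map_iota_le D (Ideal.mem_map_of_mem (iota n) hq)
      obtain ⟨p0, hp0, r, hr⟩ := (mem_Ia_iff _).mp this
      rw [← hker, RingHom.mem_ker] at hp0
      refine ⟨phi n r, ?_, ?_⟩
      · have : phi n r ∈ (phi n).range := ⟨r, rfl⟩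
        rw [hrange] at this; exact this
      · rw [psi_eq, hr, map_add, hp0, zero_add, map_mul, map_pow, hφE, mul_comm]
  · intro z hz
    have hzr : z ∈ (phi n).range := by rw [hrange]; exact hz
    obtain ⟨q0, hq0⟩ := hzr
    have hq0' : phi n q0 = z := hq0
    have := sub_iota_rho (K1 D) q0
    obtain ⟨p0, hp0, r, hr⟩ := (mem_Ia_iff _).mp this
    rw [← hker, RingHom.mem_ker] at hp0
    refine ⟨rho2 n l a q0, phi n r, ?_, ?_⟩
    · have : phi n r ∈ (phi n).range := ⟨r, rfl⟩
      rw [hrange] at this; exact this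
    · have : q0 = iota n (rho2 n l a q0) + (p0 + r * evar n 1 ^ 2 ^ a) := by rw [← hr]; ring
      rw [← hq0', psi_eq]
      conv_lhs => rw [this]
      rw [map_add, map_add, hp0, zero_add, map_mul, map_pow, hφE, mul_comm]

end Groth.Agent.Lib.Helper64.QsChowG
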