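import Mathlib

/-!
# Extension of flag-compatible linear maps (helper64)

`extend_flags`: a linear map injective on a subspace `U`, compatible with two flags of
subspaces of equal dimensions, extends to a linear equivalence carrying one flag to the other.
-/

set_option autoImplicit false

namespace Groth.Agent.Lib.Helper64.QuivA

open Module Submodule

variable {k : Type*} [Field k] {X X' : Type*} [AddCommGroup X] [Module k X]
  [AddCommGroup X'] [Module k X']

lemma glue (L : X →ₗ[k] X') (Z C : Submodule k X) (hd : Disjoint Z C) (c : C →ₗ[k] X') :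
    ∃ L₂ : X →ₗ[k] X', (∀ z ∈ Z, L₂ z = L z) ∧ ∀ x (hx : x ∈ C), L₂ x = c ⟨x, hx⟩ := by
  obtain ⟨Q, hZQ, hQC⟩ := hd.exists_isCompl
  refine ⟨LinearMap.ofIsCompl hQC (L.comp Q.subtype) c, ?_, ?_⟩
  · intro z hz
    have := LinearMap.ofIsCompl_apply_left hQC (φ := L.comp Q.subtype) (ψ := c) ⟨z, hZQ hz⟩
    simpa using this
  · intro x hx
    exact LinearMap.ofIsCompl_apply_right hQC (φ := L.comp Q.subtype) (ψ := c) ⟨x, hx⟩

lemma finrank_map_of_injOn [FiniteDimensional k X] (L : X →ₗ[k] X') (J : Submodule k X)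
    (hinj : ∀ u ∈ J, L u = 0 → u = 0) : finrank k ↥(J.map L) = finrank k ↥J := by
  have h1 : Function.Injective (L.domRestrict J) := by
    rw [← LinearMap.ker_eq_bot, LinearMap.ker_eq_bot']
    intro x hx
    apply Subtype.ext
    exact hinj x.1 x.2 hx
  rw [← LinearMap.range_domRestrict]
  exact LinearMap.finrank_range_of_inj h1

lemma step [FiniteDimensional k X] [FiniteDimensional k X']
    (L : X →ₗ[k] X') (U : Submodule k X) (hinj : ∀ u ∈ U, L u = 0 → u = 0)
    (K : Submodule k X) (K' : Submodule k X') (hdim : finrank k ↥K = finrank k ↥K')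
    (hc : ∀ u ∈ U, (u ∈ K ↔ L u ∈ K')) :
    ∃ L₂ : X →ₗ[k] X', (∀ u ∈ U, L₂ u = L u) ∧ (∀ x ∈ U ⊔ K, L₂ x = 0 → x = 0) ∧
      K.map L₂ = K' := by
  set J : Submodule k X := U ⊓ K with hJ
  set J' : Submodule k X' := U.map L ⊓ K' with hJ'
  have hJmap : J.map L = J' := by
    ext y
    constructor
    · rintro ⟨u, ⟨huU, huK⟩, rfl⟩
      exact ⟨⟨u, huU, rfl⟩, (hc u huU).mp huK⟩
    · rintro ⟨⟨u, huU, rfl⟩, hy⟩
      exact ⟨u, ⟨huU, (hc u huU).mpr hy⟩, rfl⟩
  have hJdim : finrank k ↥J' = finrank k ↥J := by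
    rw [← hJmap]
    exact finrank_map_of_injOn L J (fun u hu => hinj u hu.1)
  obtain ⟨C, hJC, hsup⟩ := IsModularLattice.exists_disjoint_and_sup_eq (inf_le_right : J ≤ K)
  obtain ⟨C', hJC', hsup'⟩ := IsModularLattice.exists_disjoint_and_sup_eq (inf_le_right : J' ≤ K')
  have hCdim : finrank k ↥C = finrank k ↥C' := by
    have h1 := Submodule.finrank_sup_add_finrank_inf_eq J C
    have h2 := Submodule.finrank_sup_add_finrank_inf_eq J' C'
    rw [hsup, hJC.eq_bot, finrank_bot] at h1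
    rw [hsup', hJC'.eq_bot, finrank_bot] at h2
    omega
  let c : ↥C ≃ₗ[k] ↥C' := LinearEquiv.ofFinrankEq _ _ hCdim
  have hCK : C ≤ K := hsup ▸ le_sup_right
  have hC'K' : C' ≤ K' := hsup' ▸ le_sup_right
  have hUC : Disjoint U C := by
    rw [Submodule.disjoint_def]
    intro x hxU hxC
    have : x ∈ J ⊓ C := ⟨⟨hxU, hCK hxC⟩, hxC⟩
    rw [hJC.eq_bot] at this
    exact (Submodule.mem_bot k).mp this
  obtain ⟨L₂, hL₂U, hL₂C⟩ := glue L U C hUC (C'.subtype.comp c.toLinearMap)
  have hL₂C' : ∀ x (hx : x ∈ C), L₂ x = ((c ⟨x, hx⟩ : ↥C') : X') := fun x hx => hL₂C x hx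
  refine ⟨L₂, hL₂U, ?_, ?_⟩
  · intro x hx hx0
    have hUK : U ⊔ K = U ⊔ C := by
      rw [← hsup, ← sup_assoc]
      congr 1
      exact sup_eq_left.mpr inf_le_left
    rw [hUK] at hx
    obtain ⟨u, hu, w, hw, rfl⟩ := Submodule.mem_sup.mp hx
    rw [map_add, hL₂U u hu, hL₂C' w hw] at hx0
    have hLu : L u = -((c ⟨w, hw⟩ : ↥C') : X') := eq_neg_of_add_eq_zero_left hx0
    have hLuC' : L u ∈ C' := by rw [hLu]; exact C'.neg_mem (c ⟨w, hw⟩).2
    have hLuJ' : L u ∈ J' := ⟨⟨u, hu, rfl⟩, hC'K' hLuC'⟩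
    have h0 : L u ∈ J' ⊓ C' := ⟨hLuJ', hLuC'⟩
    rw [hJC'.eq_bot] at h0
    have hLu0 : L u = 0 := (Submodule.mem_bot k).mp h0
    have hu0 : u = 0 := hinj u hu hLu0
    have hcw : ((c ⟨w, hw⟩ : ↥C') : X') = 0 := by
      rw [hLu0] at hLu
      exact neg_eq_zero.mp hLu.symm
    have hcw' : c ⟨w, hw⟩ = 0 := Subtype.ext hcw
    have hw0 : (⟨w, hw⟩ : ↥C) = 0 := c.map_eq_zero_iff.mp hcw'
    have hw0' : w = 0 := congrArg Subtype.val hw0
    rw [hu0, hw0', add_zero]
  · rw [← hsup, Submodule.map_sup, ← hsup']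
    congr 1
    · refine Eq.trans ?_ hJmap
      ext y
      constructor
      · rintro ⟨u, hu, rfl⟩
        exact ⟨u, hu, (hL₂U u hu.1).symm⟩
      · rintro ⟨u, hu, rfl⟩
        exact ⟨u, hu, hL₂U u hu.1⟩
    · ext y
      constructor
      · rintro ⟨x, hx, rfl⟩
        rw [hL₂C' x hx]
        exact (c ⟨x, hx⟩).2
      · intro hy
        refine ⟨(c.symm ⟨y, hy⟩ : ↥C), (c.symm ⟨y, hy⟩).2, ?_⟩
        rw [hL₂C' _ (c.symm ⟨y, hy⟩).2]
        simp

theorem extend_flags [FiniteDimensional k X] [FiniteDimensional k X']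
    (hXX' : finrank k X = finrank k X') :
    ∀ (s : ℕ) (U : Submodule k X) (L : X →ₗ[k] X') (K : ℕ → Submodule k X)
      (K' : ℕ → Submodule k X'),
      (∀ u ∈ U, L u = 0 → u = 0) →
      (∀ m, m + 1 < s → K m ≤ K (m + 1)) → (∀ m, m + 1 < s → K' m ≤ K' (m + 1)) →
      (∀ m, m < s → finrank k ↥(K m) = finrank k ↥(K' m)) →
      (∀ m, m < s → ∀ u ∈ U, (u ∈ K m ↔ L u ∈ K' m)) →
      ∃ G : X ≃ₗ[k] X', (∀ u ∈ U, G u = L u) ∧
        ∀ m, m < s → (K m).map (G : X →ₗ[k] X') = K' m := by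
  intro s
  induction s with
  | zero =>
    intro U L K K' hinj _ _ _ _
    obtain ⟨L₂, h1, h2, _⟩ := step L U hinj ⊤ ⊤ (by rw [finrank_top, finrank_top]; exact hXX')
      (fun u _ => by simp)
    have hinj2 : Function.Injective L₂ := by
      rw [injective_iff_map_eq_zero]
      intro x hx
      exact h2 x (by simp) hx
    refine ⟨L₂.linearEquivOfInjective hinj2 hXX', fun u hu => ?_, fun m hm => absurd hm (by omega)⟩
    rw [LinearMap.linearEquivOfInjective_apply]
    exact h1 u hu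
  | succ s ih =>
    intro U L K K' hinj hmono hmono' hdim hc
    obtain ⟨L₂, h1, h2, h3⟩ := step L U hinj (K 0) (K' 0) (hdim 0 (by omega)) (hc 0 (by omega))
    have hK0 : ∀ m, m < s + 1 → K 0 ≤ K m := by
      intro m
      induction m with
      | zero => intro _; exact le_rfl
      | succ m ihm => intro h; exact (ihm (by omega)).trans (hmono m (by omega))
    have hK0' : ∀ m, m < s + 1 → K' 0 ≤ K' m := by
      intro m
      induction m with
      | zero => intro _; exact le_rfl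
      | succ m ihm => intro h; exact (ihm (by omega)).trans (hmono' m (by omega))
    obtain ⟨G, hG1, hG2⟩ := ih (U ⊔ K 0) L₂ (fun m => K (m + 1)) (fun m => K' (m + 1)) h2
      (fun m hm => hmono (m + 1) (by omega)) (fun m hm => hmono' (m + 1) (by omega))
      (fun m hm => hdim (m + 1) (by omega))
      (by
        intro m hm u hu
        obtain ⟨u₀, hu₀, k₀, hk₀, rfl⟩ := Submodule.mem_sup.mp hu
        have hk1 : k₀ ∈ K (m + 1) := hK0 (m + 1) (by omega) hk₀
        have hk2 : L₂ k₀ ∈ K' (m + 1) := by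
          apply hK0' (m + 1) (by omega)
          rw [← h3]
          exact ⟨k₀, hk₀, rfl⟩
        rw [map_add, h1 u₀ hu₀]
        constructor
        · intro h
          have : u₀ ∈ K (m + 1) := by
            have := (K (m + 1)).sub_mem h hk1
            simpa using this
          exact (K' (m + 1)).add_mem ((hc (m + 1) (by omega) u₀ hu₀).mp this) hk2
        · intro h
          have : L u₀ ∈ K' (m + 1) := by
            have := (K' (m + 1)).sub_mem h hk2
            simpa using this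
          exact (K (m + 1)).add_mem ((hc (m + 1) (by omega) u₀ hu₀).mpr this) hk1)
    refine ⟨G, fun u hu => ?_, fun m hm => ?_⟩
    · rw [hG1 u (Submodule.mem_sup_left hu), h1 u hu]
    · cases m with
      | zero =>
        rw [← h3]
        ext y
        constructor
        · rintro ⟨x, hx, rfl⟩
          exact ⟨x, hx, (hG1 x (Submodule.mem_sup_right hx)).symm⟩
        · rintro ⟨x, hx, rfl⟩
          exact ⟨x, hx, hG1 x (Submodule.mem_sup_right hx)⟩
      | succ m => exact hG2 m (by omega)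

end Groth.Agent.Lib.Helper64.QuivA
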