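import Groth.Agent.Lib.Helper64.QuivA

/-!
# Chains of linear maps with equal rank arrays are isomorphic (helper64)
-/

set_option autoImplicit false

namespace Groth.Agent.Lib.Helper64.QuivB

open Module Submodule

universe u v

variable {k : Type u} [Field k]

section general

variable {X X' : Type*} [AddCommGroup X] [Module k X] [AddCommGroup X'] [Module k X']

lemma finrank_inf_ker_add [FiniteDimensional k X] (φ : X →ₗ[k] X') (A : Submodule k X) :
    finrank k ↥(A ⊓ LinearMap.ker φ) + finrank k ↥(A.map φ) = finrank k ↥A := by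
  have h := LinearMap.finrank_range_add_finrank_ker (φ.domRestrict A)
  rw [LinearMap.range_domRestrict, LinearMap.ker_domRestrict] at h
  rw [← Submodule.map_comap_subtype A (LinearMap.ker φ), Submodule.finrank_map_subtype_eq]
  omega

lemma finrank_inf_comap [FiniteDimensional k X] (φ : X →ₗ[k] X') (A : Submodule k X)
    (B : Submodule k X') :
    finrank k ↥(A ⊓ B.comap φ) =
      finrank k ↥(A ⊓ LinearMap.ker φ) + finrank k ↥(A.map φ ⊓ B) := by
  have h := finrank_inf_ker_add φ (A ⊓ B.comap φ)
  have h1 : A ⊓ B.comap φ ⊓ LinearMap.ker φ = A ⊓ LinearMap.ker φ := by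
    ext x
    simp only [mem_inf, mem_comap, LinearMap.mem_ker]
    constructor
    · rintro ⟨⟨ha, _⟩, hk⟩; exact ⟨ha, hk⟩
    · rintro ⟨ha, hk⟩; exact ⟨⟨ha, by rw [hk]; exact B.zero_mem⟩, hk⟩
  have h2 : (A ⊓ B.comap φ).map φ = A.map φ ⊓ B := by
    ext y
    constructor
    · rintro ⟨x, ⟨ha, hb⟩, rfl⟩; exact ⟨⟨x, ha, rfl⟩, hb⟩
    · rintro ⟨⟨x, ha, rfl⟩, hb⟩; exact ⟨x, ⟨ha, hb⟩, rfl⟩
  rw [h1, h2] at h
  omega

/-- A linear map through which `ψ` factors along `φ`. -/
lemma exists_factor (φ : X →ₗ[k] X') {Y : Type*} [AddCommGroup Y] [Module k Y] (ψ : X →ₗ[k] Y)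
    (hker : LinearMap.ker φ ≤ LinearMap.ker ψ) :
    ∃ L : X' →ₗ[k] Y, ∀ v, L (φ v) = ψ v := by
  obtain ⟨σ, hσ⟩ := LinearMap.exists_rightInverse_of_surjective φ.rangeRestrict
    (LinearMap.range_rangeRestrict φ)
  obtain ⟨τ, hτ⟩ := LinearMap.exists_extend σ
  refine ⟨ψ.comp τ, fun v => ?_⟩
  have h1 : τ (φ v) = σ ⟨φ v, LinearMap.mem_range_self φ v⟩ := by
    have := LinearMap.congr_fun hτ ⟨φ v, LinearMap.mem_range_self φ v⟩
    simpa using this
  have h2 : φ (σ ⟨φ v, LinearMap.mem_range_self φ v⟩) = φ v := by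
    have := LinearMap.congr_fun hσ ⟨φ v, LinearMap.mem_range_self φ v⟩
    have := congrArg Subtype.val this
    simpa using this
  have h3 : τ (φ v) - v ∈ LinearMap.ker ψ := by
    apply hker
    rw [LinearMap.mem_ker, map_sub, h1, h2, sub_self]
  rw [LinearMap.mem_ker, map_sub, sub_eq_zero] at h3
  simpa using h3

end general

variable {W : ℕ → Type v} [∀ j, AddCommGroup (W j)] [∀ j, Module k (W j)]

/-- Image of `W i` in `W j` (for `i ≤ j`; `⊤` otherwise). -/
def Im (φ : ∀ j, W j →ₗ[k] W (j + 1)) (i : ℕ) : ∀ j, Submodule k (W j)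
  | 0 => ⊤
  | (j + 1) => if i ≤ j then (Im φ i j).map (φ j) else ⊤

lemma Im_self (φ : ∀ j, W j →ₗ[k] W (j + 1)) (i : ℕ) : Im φ i i = ⊤ := by
  cases i <;> simp [Im]

lemma Im_succ (φ : ∀ j, W j →ₗ[k] W (j + 1)) {i j : ℕ} (h : i ≤ j) :
    Im φ i (j + 1) = (Im φ i j).map (φ j) := by
  simp [Im, h]

variable {W' : ℕ → Type v} [∀ j, AddCommGroup (W' j)] [∀ j, Module k (W' j)]
variable [∀ j, FiniteDimensional k (W j)] [∀ j, FiniteDimensional k (W' j)]

theorem exists_iso (φ : ∀ j, W j →ₗ[k] W (j + 1)) (φ' : ∀ j, W' j →ₗ[k] W' (j + 1)) (R : ℕ)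
    (hdim : ∀ j, finrank k (W j) = finrank k (W' j))
    (hra : ∀ i j, 1 ≤ i → i ≤ j → j ≤ R →
      finrank k ↥(Im φ i j) = finrank k ↥(Im φ' i j)) :
    ∃ g : ∀ j, W j ≃ₗ[k] W' j,
      ∀ j, 1 ≤ j → j + 1 ≤ R → ∀ x, g (j + 1) (φ j x) = φ' j (g j x) := by
  have main : ∀ r, 1 ≤ r → r ≤ R → ∀ (s : ℕ) (K : ℕ → Submodule k (W r))
      (K' : ℕ → Submodule k (W' r)),
      (∀ m, m + 1 < s → K m ≤ K (m + 1)) → (∀ m, m + 1 < s → K' m ≤ K' (m + 1)) →
      (∀ i, 1 ≤ i → i ≤ r → ∀ m, m < s →
        finrank k ↥(Im φ i r ⊓ K m) = finrank k ↥(Im φ' i r ⊓ K' m)) →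
      ∃ g : ∀ j, W j ≃ₗ[k] W' j,
        (∀ j, 1 ≤ j → j < r → ∀ x, g (j + 1) (φ j x) = φ' j (g j x)) ∧
        ∀ m, m < s → (K m).map ((g r : W r ≃ₗ[k] W' r) : W r →ₗ[k] W' r) = K' m := by
    intro r hr
    induction r, hr using Nat.le_induction with
    | base =>
      intro _ s K K' hm hm' hinv
      obtain ⟨G, _, hG⟩ := QuivA.extend_flags (hdim 1) s ⊥ 0 K K'
        (by intro u hu _; exact (mem_bot k).mp hu) hm hm'
        (fun m hms => by
          have := hinv 1 le_rfl le_rfl m hms
          rwa [Im_self, Im_self, top_inf_eq, top_inf_eq] at this)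
        (by
          intro m _ u hu
          rw [(mem_bot k).mp hu]
          simp)
      refine ⟨Function.update (fun j => LinearEquiv.ofFinrankEq (W j) (W' j) (hdim j)) 1 G,
        fun j h1 h2 => absurd h2 (by omega), fun m hms => ?_⟩
      simp only [Function.update_self]
      exact hG m hms
    | succ r hr ih =>
      intro hrR s K K' hm hm' hinv
      let Kt : ℕ → Submodule k (W r) := fun m =>
        Nat.rec (LinearMap.ker (φ r)) (fun m _ => (K m).comap (φ r)) m
      let Kt' : ℕ → Submodule k (W' r) := fun m =>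
        Nat.rec (LinearMap.ker (φ' r)) (fun m _ => (K' m).comap (φ' r)) m
      have hKt0 : Kt 0 = LinearMap.ker (φ r) := rfl
      have hKtS : ∀ m, Kt (m + 1) = (K m).comap (φ r) := fun _ => rfl
      have hKt0' : Kt' 0 = LinearMap.ker (φ' r) := rfl
      have hKtS' : ∀ m, Kt' (m + 1) = (K' m).comap (φ' r) := fun _ => rfl
      have hker_eq : ∀ i, 1 ≤ i → i ≤ r →
          finrank k ↥(Im φ i r ⊓ LinearMap.ker (φ r)) =
            finrank k ↥(Im φ' i r ⊓ LinearMap.ker (φ' r)) := by
        intro i hi hir
        have e1 := finrank_inf_ker_add (φ r) (Im φ i r)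
        have e1' := finrank_inf_ker_add (φ' r) (Im φ' i r)
        rw [← Im_succ φ hir] at e1
        rw [← Im_succ φ' hir] at e1'
        have := hra i r hi hir (by omega)
        have := hra i (r + 1) hi (by omega) hrR
        omega
      obtain ⟨g, hgc, hgK⟩ := ih (by omega) (s + 1) Kt Kt'
        (by
          intro m hms
          cases m with
          | zero =>
            rw [hKt0, hKtS]
            intro x hx
            show φ r x ∈ K 0
            rw [LinearMap.mem_ker.mp hx]
            exact zero_mem _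
          | succ m =>
            rw [hKtS, hKtS]
            exact Submodule.comap_mono (hm m (by omega)))
        (by
          intro m hms
          cases m with
          | zero =>
            rw [hKt0', hKtS']
            intro x hx
            show φ' r x ∈ K' 0
            rw [LinearMap.mem_ker.mp hx]
            exact zero_mem _
          | succ m =>
            rw [hKtS', hKtS']
            exact Submodule.comap_mono (hm' m (by omega)))
        (by
          intro i hi hir m hms
          cases m with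
          | zero =>
            rw [hKt0, hKt0']
            exact hker_eq i hi hir
          | succ m =>
            rw [hKtS, hKtS', finrank_inf_comap, finrank_inf_comap, ← Im_succ φ hir,
              ← Im_succ φ' hir, hker_eq i hi hir, hinv i hi (by omega) m (by omega)])
      have hker : (LinearMap.ker (φ r)).map ((g r : W r ≃ₗ[k] W' r) : W r →ₗ[k] W' r) =
          LinearMap.ker (φ' r) := hgK 0 (by omega)
      have hcomap : ∀ m, m < s →
          ((K m).comap (φ r)).map ((g r : W r ≃ₗ[k] W' r) : W r →ₗ[k] W' r) =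
            (K' m).comap (φ' r) := fun m hms => hgK (m + 1) (by omega)
      -- the partial map on the range of `φ r`
      let ψ : W r →ₗ[k] W' (r + 1) := (φ' r).comp ((g r : W r ≃ₗ[k] W' r) : W r →ₗ[k] W' r)
      have hkerψ : LinearMap.ker (φ r) ≤ LinearMap.ker ψ := by
        intro x hx
        have : (g r) x ∈ LinearMap.ker (φ' r) := by
          rw [← hker]
          exact ⟨x, hx, rfl⟩
        rw [LinearMap.mem_ker] at this ⊢
        exact this
      obtain ⟨L, hL⟩ := exists_factor (φ r) ψ hkerψ
      have hL' : ∀ v, L (φ r v) = φ' r (g r v) := fun v => hL v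
      obtain ⟨G, hG1, hG2⟩ := QuivA.extend_flags (hdim (r + 1)) s (LinearMap.range (φ r)) L K K'
        (by
          rintro u ⟨v, rfl⟩ hu
          rw [hL'] at hu
          have h1 : (g r) v ∈ LinearMap.ker (φ' r) := hu
          rw [← hker] at h1
          obtain ⟨v', hv', heq⟩ := h1
          have : v' = v := (g r).injective heq
          rw [← this]
          exact hv')
        hm hm'
        (fun m hms => by
          have := hinv (r + 1) (by omega) le_rfl m hms
          rwa [Im_self, Im_self, top_inf_eq, top_inf_eq] at this)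
        (by
          rintro m hms u ⟨v, rfl⟩
          rw [hL']
          constructor
          · intro h
            have h1 : (g r) v ∈ ((K m).comap (φ r)).map
                ((g r : W r ≃ₗ[k] W' r) : W r →ₗ[k] W' r) := ⟨v, h, rfl⟩
            rw [hcomap m hms] at h1
            exact h1
          · intro h
            have h1 : (g r) v ∈ (K' m).comap (φ' r) := h
            rw [← hcomap m hms] at h1
            obtain ⟨v', hv', heq⟩ := h1
            have : v' = v := (g r).injective heq
            rw [← this]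
            exact hv')
      refine ⟨Function.update g (r + 1) G, ?_, ?_⟩
      · intro j hj1 hj2 x
        by_cases hjr : j = r
        · subst hjr
          rw [Function.update_self, Function.update_of_ne (by omega : j ≠ j + 1)]
          rw [hG1 _ (LinearMap.mem_range_self _ x), hL']
        · rw [Function.update_of_ne (by omega : j + 1 ≠ r + 1),
            Function.update_of_ne (by omega : j ≠ r + 1)]
          exact hgc j hj1 (by omega) x
      · intro m hms
        simp only [Function.update_self]
        exact hG2 m hms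
  by_cases hR : 1 ≤ R
  · obtain ⟨g, hg, _⟩ := main R hR le_rfl 0 (fun _ => ⊥) (fun _ => ⊥)
      (fun m h => absurd h (by omega)) (fun m h => absurd h (by omega))
      (fun i _ _ m h => absurd h (by omega))
    exact ⟨g, fun j h1 h2 x => hg j h1 (by omega) x⟩
  · exact ⟨fun j => LinearEquiv.ofFinrankEq (W j) (W' j) (hdim j),
      fun j h1 h2 => absurd h2 (by omega)⟩

end Groth.Agent.Lib.Helper64.QuivB
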