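import Groth.Prelude.Def_W4c1btstackcountsChain
import Groth.Agent.Lib.Helper64.QuivB

/-!
# Matrix chains: invariance, admissibility and separation of orbits by the rank array (helper64)
-/

set_option autoImplicit false

namespace Groth.Agent.Lib.Helper64.QuivC

open Module Submodule W4c1btstackcounts
open Groth.Agent.Lib.Helper64

universe u

variable {k : Type u} [Field k] {d : ℕ → ℕ}

/-- The linear maps of a matrix chain. -/
noncomputable def phi (f : (i : ℕ) → Matrix (Fin (d (i + 1))) (Fin (d i)) k) (j : ℕ) :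
    (Fin (d j) → k) →ₗ[k] (Fin (d (j + 1)) → k) := Matrix.toLin' (f j)

lemma iterImage_eq (f : (i : ℕ) → Matrix (Fin (d (i + 1))) (Fin (d i)) k) (i n : ℕ) :
    iterImage f i n = QuivB.Im (W := fun j => Fin (d j) → k) (phi f) i (i + n) := by
  induction n with
  | zero =>
    show (⊤ : Submodule k (Fin (d i) → k)) = QuivB.Im (W := fun j => Fin (d j) → k) (phi f) i i
    rw [QuivB.Im_self]
  | succ n ih =>
    show (iterImage f i n).map (Matrix.toLin' (f (i + n))) =
      QuivB.Im (W := fun j => Fin (d j) → k) (phi f) i ((i + n) + 1)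
    rw [QuivB.Im_succ _ (Nat.le_add_right i n), ih]
    rfl

lemma rankArray_eq (f : (i : ℕ) → Matrix (Fin (d (i + 1))) (Fin (d i)) k) {i j : ℕ} (h : i ≤ j) :
    rankArray f i j =
      finrank k ↥(QuivB.Im (W := fun j => Fin (d j) → k) (phi f) i j) := by
  obtain ⟨n, rfl⟩ := Nat.exists_eq_add_of_le h
  unfold rankArray
  rw [if_pos h]
  have key : ∀ m n : ℕ, m = n →
      finrank k ↥(iterImage f i m) = finrank k ↥(iterImage f i n) := by
    intro m n h; subst h; rfl
  rw [key (i + n - i) n (by omega), iterImage_eq]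

/-! ### Part 1: invariance under conjugation -/

lemma toLin'_inj_of_unit {n : ℕ} (g : Matrix.GeneralLinearGroup (Fin n) k) (u : Fin n → k)
    (h : Matrix.toLin' (g : Matrix (Fin n) (Fin n) k) u = 0) : u = 0 := by
  have h1 : Matrix.toLin' ((g⁻¹ : Matrix.GeneralLinearGroup (Fin n) k) : Matrix (Fin n) (Fin n) k)
      (Matrix.toLin' (g : Matrix (Fin n) (Fin n) k) u) = u := by
    rw [← LinearMap.comp_apply, ← Matrix.toLin'_mul, Units.inv_mul, Matrix.toLin'_one]
    rfl
  rw [h, map_zero] at h1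
  exact h1.symm

lemma iterImage_conj (g : (j : ℕ) → Matrix.GeneralLinearGroup (Fin (d j)) k)
    (f : (i : ℕ) → Matrix (Fin (d (i + 1))) (Fin (d i)) k) (i n : ℕ) :
    iterImage (conj g f) i n =
      (iterImage f i n).map (Matrix.toLin' ((g (i + n)) : Matrix _ _ k)) := by
  induction n with
  | zero =>
    show (⊤ : Submodule k (Fin (d i) → k)) =
      (⊤ : Submodule k (Fin (d i) → k)).map (Matrix.toLin' ((g i) : Matrix _ _ k))
    rw [Submodule.map_top, eq_comm, LinearMap.range_eq_top]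
    intro y
    refine ⟨Matrix.toLin' (((g i)⁻¹ : Matrix.GeneralLinearGroup _ k) : Matrix _ _ k) y, ?_⟩
    rw [← LinearMap.comp_apply, ← Matrix.toLin'_mul, Units.mul_inv, Matrix.toLin'_one]
    rfl
  | succ n ih =>
    show (iterImage (conj g f) i n).map (Matrix.toLin' (conj g f (i + n))) =
      ((iterImage f i n).map (Matrix.toLin' (f (i + n)))).map
        (Matrix.toLin' ((g (i + n + 1)) : Matrix _ _ k))
    rw [ih, ← Submodule.map_comp, ← Submodule.map_comp, ← Matrix.toLin'_mul, ← Matrix.toLin'_mul]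
    congr 2
    unfold conj
    rw [Matrix.mul_assoc, Matrix.mul_assoc, Units.inv_mul, Matrix.mul_one]

theorem rankArray_conj (g : (j : ℕ) → Matrix.GeneralLinearGroup (Fin (d j)) k)
    (f : (i : ℕ) → Matrix (Fin (d (i + 1))) (Fin (d i)) k) (i j : ℕ) :
    rankArray (conj g f) i j = rankArray f i j := by
  unfold rankArray
  split_ifs with h
  · rw [iterImage_conj]
    exact QuivA.finrank_map_of_injOn _ _ (fun u _ hu => toLin'_inj_of_unit _ u hu)
  · rfl

/-! ### Part 2: the rank array is admissible -/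

lemma Im_mono {W : ℕ → Type u} [∀ j, AddCommGroup (W j)] [∀ j, Module k (W j)]
    (φ : ∀ j, W j →ₗ[k] W (j + 1)) {i i' j : ℕ} (h : i ≤ i') (h' : i' ≤ j) :
    QuivB.Im φ i j ≤ QuivB.Im φ i' j := by
  induction j, h' using Nat.le_induction with
  | base => rw [QuivB.Im_self]; exact le_top
  | succ j hj ih =>
    rw [QuivB.Im_succ φ (h.trans hj), QuivB.Im_succ φ hj]
    exact Submodule.map_mono ih

theorem isRankArray (f : (i : ℕ) → Matrix (Fin (d (i + 1))) (Fin (d i)) k) (r : ℕ) :
    IsRankArray d r (rankArray f) := by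
  refine ⟨?_, ?_, ?_, ?_⟩
  · intro j _ _
    rw [rankArray_eq f le_rfl, QuivB.Im_self, finrank_top]
    exact Module.finrank_fin_fun k
  · intro i j _ hij _
    rw [rankArray_eq f hij.le, rankArray_eq f (by omega : i + 1 ≤ j)]
    exact Submodule.finrank_mono (Im_mono _ (by omega) (by omega))
  · intro i j _ hij _
    rw [rankArray_eq f hij, rankArray_eq f (by omega : i ≤ j + 1), QuivB.Im_succ _ hij]
    exact Submodule.finrank_map_le _ _
  · intro i j hi hij _
    rw [rankArray_eq f hij, rankArray_eq f (by omega : i ≤ j + 1),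
      rankArray_eq f (by omega : i - 1 ≤ j), rankArray_eq f (by omega : i - 1 ≤ j + 1),
      QuivB.Im_succ _ hij, QuivB.Im_succ _ (by omega : i - 1 ≤ j)]
    have e1 := QuivB.finrank_inf_ker_add (phi f j)
      (QuivB.Im (W := fun j => Fin (d j) → k) (phi f) i j)
    have e2 := QuivB.finrank_inf_ker_add (phi f j)
      (QuivB.Im (W := fun j => Fin (d j) → k) (phi f) (i - 1) j)
    have e3 : finrank k ↥(QuivB.Im (W := fun j => Fin (d j) → k) (phi f) (i - 1) j ⊓
        LinearMap.ker (phi f j)) ≤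
        finrank k ↥(QuivB.Im (W := fun j => Fin (d j) → k) (phi f) i j ⊓
        LinearMap.ker (phi f j)) :=
      Submodule.finrank_mono (inf_le_inf_right _ (Im_mono _ (by omega) hij))
    omega

/-! ### Part 3: equal rank arrays give conjugate chains -/

/-- A linear automorphism of `k^n` as an invertible matrix. -/
noncomputable def toGL {n : ℕ} (e : (Fin n → k) ≃ₗ[k] (Fin n → k)) :
    Matrix.GeneralLinearGroup (Fin n) k :=
  ⟨LinearMap.toMatrix' (e : (Fin n → k) →ₗ[k] (Fin n → k)),
    LinearMap.toMatrix' (e.symm : (Fin n → k) →ₗ[k] (Fin n → k)),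
    by
      rw [← LinearMap.toMatrix'_comp]
      have : (e : (Fin n → k) →ₗ[k] (Fin n → k)) ∘ₗ (e.symm : (Fin n → k) →ₗ[k] (Fin n → k)) =
          LinearMap.id := by ext x; simp
      rw [this, LinearMap.toMatrix'_id],
    by
      rw [← LinearMap.toMatrix'_comp]
      have : (e.symm : (Fin n → k) →ₗ[k] (Fin n → k)) ∘ₗ (e : (Fin n → k) →ₗ[k] (Fin n → k)) =
          LinearMap.id := by ext x; simp
      rw [this, LinearMap.toMatrix'_id]⟩

lemma toGL_val {n : ℕ} (e : (Fin n → k) ≃ₗ[k] (Fin n → k)) :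
    ((toGL e : Matrix.GeneralLinearGroup (Fin n) k) : Matrix (Fin n) (Fin n) k) =
      LinearMap.toMatrix' (e : (Fin n → k) →ₗ[k] (Fin n → k)) := rfl

theorem exists_conj (f f' : (i : ℕ) → Matrix (Fin (d (i + 1))) (Fin (d i)) k) (r : ℕ)
    (h : ∀ i j : ℕ, 1 ≤ i → i ≤ j → j ≤ r → rankArray f i j = rankArray f' i j) :
    ∃ g : (j : ℕ) → Matrix.GeneralLinearGroup (Fin (d j)) k,
      ∀ i : ℕ, 1 ≤ i → i + 1 ≤ r → conj g f i = f' i := by
  obtain ⟨e, he⟩ := QuivB.exists_iso (W := fun j => Fin (d j) → k) (W' := fun j => Fin (d j) → k)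
    (phi f) (phi f') r (fun _ => rfl)
    (fun i j hi hij hjr => by rw [← rankArray_eq f hij, ← rankArray_eq f' hij]; exact h i j hi hij hjr)
  refine ⟨fun j => toGL (e j), fun i hi hir => ?_⟩
  have key : ((toGL (e (i + 1))).1 : Matrix (Fin (d (i + 1))) (Fin (d (i + 1))) k) * f i =
      f' i * ((toGL (e i)).1 : Matrix (Fin (d i)) (Fin (d i)) k) := by
    apply Matrix.toLin'.injective
    rw [Matrix.toLin'_mul, Matrix.toLin'_mul]
    show (Matrix.toLin' (LinearMap.toMatrix' ((e (i + 1)) : (Fin (d (i + 1)) → k) →ₗ[k] _))).comp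
        (Matrix.toLin' (f i)) =
      (Matrix.toLin' (f' i)).comp
        (Matrix.toLin' (LinearMap.toMatrix' ((e i) : (Fin (d i) → k) →ₗ[k] _)))
    rw [Matrix.toLin'_toMatrix', Matrix.toLin'_toMatrix']
    exact LinearMap.ext (fun x => he i hi hir x)
  show ((toGL (e (i + 1))).1 : Matrix (Fin (d (i + 1))) (Fin (d (i + 1))) k) * f i *
      (((toGL (e i))⁻¹ : Matrix.GeneralLinearGroup (Fin (d i)) k).1 :
        Matrix (Fin (d i)) (Fin (d i)) k) = f' i
  rw [key, Matrix.mul_assoc]
  have : ((toGL (e i)).1 : Matrix (Fin (d i)) (Fin (d i)) k) *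
      (((toGL (e i))⁻¹ : Matrix.GeneralLinearGroup (Fin (d i)) k).1 :
        Matrix (Fin (d i)) (Fin (d i)) k) = 1 := Units.mul_inv _
  rw [this, Matrix.mul_one]

end Groth.Agent.Lib.Helper64.QuivC
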