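import Groth.Agent.Lib.Helper64.QuivC

/-!
# Realising admissible rank arrays by partial-permutation matrices (helper64)
-/

set_option autoImplicit false

namespace Groth.Agent.Lib.Helper64.QuivD

open Module Submodule W4c1btstackcounts
open Groth.Agent.Lib.Helper64

universe u

variable {k : Type u} [Field k] {d : ℕ → ℕ}

/-- Vectors of `k^n` supported on the coordinates `< c`. -/
def EE (k : Type u) [Field k] (n c : ℕ) : Submodule k (Fin n → k) where
  carrier := {v | ∀ x : Fin n, c ≤ (x : ℕ) → v x = 0}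
  add_mem' := by
    intro a b ha hb x hx
    simp [ha x hx, hb x hx]
  zero_mem' := by
    intro x _
    rfl
  smul_mem' := by
    intro t a ha x hx
    simp [ha x hx]

lemma mem_EE {n c : ℕ} {v : Fin n → k} :
    v ∈ EE k n c ↔ ∀ x : Fin n, c ≤ (x : ℕ) → v x = 0 := Iff.rfl

/-- Extension by zero `k^c → k^n`. -/
noncomputable def iota (k : Type u) [Field k] (n c : ℕ) : (Fin c → k) →ₗ[k] (Fin n → k) where
  toFun u x := if h : (x : ℕ) < c then u ⟨x, h⟩ else 0
  map_add' u u' := by
    funext x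
    by_cases h : (x : ℕ) < c <;> simp [h]
  map_smul' t u := by
    funext x
    by_cases h : (x : ℕ) < c <;> simp [h]

lemma finrank_EE {n c : ℕ} (hc : c ≤ n) : finrank k ↥(EE k n c) = c := by
  have hinj : Function.Injective (iota k n c) := by
    intro u u' huu'
    funext t
    have := congrFun huu' ⟨t, lt_of_lt_of_le t.2 hc⟩
    simpa [iota] using this
  have hrange : LinearMap.range (iota k n c) = EE k n c := by
    ext v
    constructor
    · rintro ⟨u, rfl⟩ x hx
      have : ¬ (x : ℕ) < c := by omega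
      simp [iota, this]
    · intro hv
      refine ⟨fun t => v ⟨t, lt_of_lt_of_le t.2 hc⟩, ?_⟩
      funext x
      by_cases h : (x : ℕ) < c
      · simp [iota, h]
      · have := hv x (by omega)
        simp [iota, h, this]
  rw [← hrange, LinearMap.finrank_range_of_inj hinj]
  exact Module.finrank_fin_fun k

/-- `a` with the convention `a 0 j = 0`. -/
def bb (a : ℕ → ℕ → ℕ) (i j : ℕ) : ℕ := if i = 0 then 0 else a i j

/-- The partial bijection between coordinates of `k^{d j}` and `k^{d (j+1)}`. -/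
def PP (a : ℕ → ℕ → ℕ) (j x y : ℕ) : Prop :=
  ∃ i, 1 ≤ i ∧ i ≤ j ∧ bb a (i - 1) j ≤ x ∧ x < a i j ∧ bb a (i - 1) (j + 1) ≤ y ∧
    y < a i (j + 1) ∧ x - bb a (i - 1) j = y - bb a (i - 1) (j + 1)

open Classical in
/-- The normal-form matrices. -/
noncomputable def mat (k : Type u) [Field k] (d : ℕ → ℕ) (a : ℕ → ℕ → ℕ) (j : ℕ) :
    Matrix (Fin (d (j + 1))) (Fin (d j)) k :=
  fun y x => if PP a j x y then 1 else 0

variable {a : ℕ → ℕ → ℕ} {r : ℕ}

lemma a_mono (h : IsRankArray d r a) {i i' j : ℕ} (hi : 1 ≤ i) (hii' : i ≤ i') (hi'j : i' ≤ j)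
    (hjr : j ≤ r) : a i j ≤ a i' j := by
  induction i', hii' using Nat.le_induction with
  | base => exact le_rfl
  | succ i' hii' ih =>
    exact (ih (by omega)).trans (h.2.1 i' j (by omega) (by omega) hjr)

lemma bb_pos {i j : ℕ} (hi : 1 ≤ i) : bb a i j = a i j := by
  unfold bb
  rw [if_neg (by omega)]

lemma PP_lt (h : IsRankArray d r a) {j x y i₀ : ℕ} (hjr : j + 1 ≤ r)
    (hP : PP a j x y) (hi₀ : 1 ≤ i₀) (hi₀j : i₀ ≤ j) (hx : x < a i₀ j) : y < a i₀ (j + 1) := by
  obtain ⟨i, hi, hij, h1, h2, h3, h4, h5⟩ := hP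
  by_cases hii₀ : i ≤ i₀
  · exact lt_of_lt_of_le h4 (a_mono h hi hii₀ (by omega) hjr)
  · exfalso
    rw [bb_pos (by omega : 1 ≤ i - 1)] at h1
    have := a_mono h hi₀ (by omega : i₀ ≤ i - 1) (by omega : i - 1 ≤ j) (by omega : j ≤ r)
    omega

lemma PP_ge (h : IsRankArray d r a) {j x y i₀ : ℕ} (hjr : j + 1 ≤ r)
    (hP : PP a j x y) (hi₀ : 1 ≤ i₀) (hi₀j : i₀ ≤ j) (hx : a i₀ j ≤ x) : a i₀ (j + 1) ≤ y := by
  obtain ⟨i, hi, hij, h1, h2, h3, h4, h5⟩ := hP
  by_cases hii₀ : i ≤ i₀
  · exfalso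
    have := a_mono h hi hii₀ hi₀j (by omega : j ≤ r)
    omega
  · rw [bb_pos (by omega : 1 ≤ i - 1)] at h3
    have := a_mono h hi₀ (by omega : i₀ ≤ i - 1) (by omega : i - 1 ≤ j + 1) hjr
    omega

lemma PP_unique_y (h : IsRankArray d r a) {j x y y' : ℕ} (hjr : j + 1 ≤ r)
    (hP : PP a j x y) (hP' : PP a j x y') : y = y' := by
  obtain ⟨i, hi, hij, h1, h2, h3, h4, h5⟩ := hP
  obtain ⟨i', hi', hij', h1', h2', h3', h4', h5'⟩ := hP'
  have hii' : i = i' := by
    by_contra hne
    rcases Nat.lt_or_gt_of_ne hne with hlt | hlt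
    · rw [bb_pos (by omega : 1 ≤ i' - 1)] at h1'
      have := a_mono h hi (by omega : i ≤ i' - 1) (by omega : i' - 1 ≤ j) (by omega : j ≤ r)
      omega
    · rw [bb_pos (by omega : 1 ≤ i - 1)] at h1
      have := a_mono h hi' (by omega : i' ≤ i - 1) (by omega : i - 1 ≤ j) (by omega : j ≤ r)
      omega
  subst hii'
  omega

lemma PP_unique_x (h : IsRankArray d r a) {j x x' y : ℕ} (hjr : j + 1 ≤ r)
    (hP : PP a j x y) (hP' : PP a j x' y) : x = x' := by
  obtain ⟨i, hi, hij, h1, h2, h3, h4, h5⟩ := hP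
  obtain ⟨i', hi', hij', h1', h2', h3', h4', h5'⟩ := hP'
  have hii' : i = i' := by
    by_contra hne
    rcases Nat.lt_or_gt_of_ne hne with hlt | hlt
    · rw [bb_pos (by omega : 1 ≤ i' - 1)] at h3'
      have := a_mono h hi (by omega : i ≤ i' - 1) (by omega : i' - 1 ≤ j + 1) hjr
      omega
    · rw [bb_pos (by omega : 1 ≤ i - 1)] at h3
      have := a_mono h hi' (by omega : i' ≤ i - 1) (by omega : i - 1 ≤ j + 1) hjr
      omega
  subst hii'
  omega

lemma PP_exists (h : IsRankArray d r a) {j y : ℕ} (hj : 1 ≤ j) (hjr : j + 1 ≤ r)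
    (hy : y < a j (j + 1)) : ∃ x, x < d j ∧ PP a j x y := by
  classical
  have hex : ∃ i, 1 ≤ i ∧ y < a i (j + 1) := ⟨j, hj, hy⟩
  obtain ⟨i, ⟨hi1, hi2⟩, hmin'⟩ : ∃ i, (1 ≤ i ∧ y < a i (j + 1)) ∧
      ∀ i', i' < i → ¬ (1 ≤ i' ∧ y < a i' (j + 1)) :=
    ⟨Nat.find hex, Nat.find_spec hex, fun i' hi' => Nat.find_min hex hi'⟩
  have hij : i ≤ j := by
    by_contra hc
    exact hmin' j (by omega) ⟨hj, hy⟩
  have hmin : ∀ i', 1 ≤ i' → i' < i → a i' (j + 1) ≤ y := by
    intro i' h1 h2
    have := hmin' i' h2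
    by_contra hc
    exact this ⟨h1, by omega⟩
  have hb : bb a (i - 1) (j + 1) ≤ y := by
    by_cases h0 : i - 1 = 0
    · unfold bb; rw [if_pos h0]; exact Nat.zero_le _
    · rw [bb_pos (by omega)]
      exact hmin (i - 1) (by omega) (by omega)
  have hkey : bb a (i - 1) j + a i (j + 1) ≤ a i j + bb a (i - 1) (j + 1) := by
    by_cases h0 : i - 1 = 0
    · have hi_eq : i = 1 := by omega
      unfold bb
      rw [if_pos h0, if_pos h0, hi_eq]
      have := h.2.2.1 1 j le_rfl hj (by omega)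
      omega
    · rw [bb_pos (by omega), bb_pos (by omega)]
      have := h.2.2.2 i j (by omega) hij (by omega)
      omega
  have hd : a i j ≤ d j := by
    have := a_mono h hi1 hij le_rfl (by omega : j ≤ r)
    rw [h.1 j hj (by omega)] at this
    exact this
  refine ⟨bb a (i - 1) j + (y - bb a (i - 1) (j + 1)), by omega, i, hi1, hij, by omega, by omega,
    hb, hi2, by omega⟩

lemma map_EE (h : IsRankArray d r a) {i j : ℕ} (hi : 1 ≤ i) (hij : i ≤ j) (hjr : j + 1 ≤ r) :
    (EE k (d j) (a i j)).map (Matrix.toLin' (mat k d a j)) = EE k (d (j + 1)) (a i (j + 1)) := by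
  classical
  have happly : ∀ (v : Fin (d j) → k) (y : Fin (d (j + 1))),
      Matrix.toLin' (mat k d a j) v y = ∑ x, mat k d a j y x * v x := by
    intro v y
    rw [Matrix.toLin'_apply]
    rfl
  ext w
  constructor
  · rintro ⟨v, hv, rfl⟩ y hy
    rw [happly]
    refine Finset.sum_eq_zero fun x _ => ?_
    by_cases hP : PP a j x y
    · have hx : a i j ≤ (x : ℕ) := by
        by_contra hlt
        have := PP_lt h hjr hP hi hij (by omega)
        omega
      rw [hv x hx, mul_zero]
    · simp [mat, hP]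
  · intro hw
    refine ⟨fun x => ∑ y, mat k d a j y x * w y, ?_, ?_⟩
    · intro x hx
      refine Finset.sum_eq_zero fun y _ => ?_
      by_cases hP : PP a j x y
      · rw [hw y (PP_ge h hjr hP hi hij hx), mul_zero]
      · simp [mat, hP]
    · funext y
      rw [happly]
      by_cases hex : ∃ x₀ : Fin (d j), PP a j x₀ y
      · obtain ⟨x₀, hx₀⟩ := hex
        rw [Finset.sum_eq_single x₀]
        · have h1 : mat k d a j y x₀ = 1 := by simp [mat, hx₀]
          rw [h1, one_mul, Finset.sum_eq_single y]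
          · rw [h1, one_mul]
          · intro y' _ hne
            have : ¬ PP a j x₀ y' := fun hP =>
              hne (Fin.ext (PP_unique_y h hjr hP hx₀))
            simp [mat, this]
          · intro hy; exact absurd (Finset.mem_univ y) hy
        · intro x _ hne
          have : ¬ PP a j x y := fun hP => hne (Fin.ext (PP_unique_x h hjr hP hx₀))
          simp [mat, this]
        · intro hx; exact absurd (Finset.mem_univ x₀) hx
      · have h0 : ∀ x : Fin (d j), mat k d a j y x = 0 := by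
          intro x
          have : ¬ PP a j x y := fun hP => hex ⟨x, hP⟩
          simp [mat, this]
        have hy : a i (j + 1) ≤ (y : ℕ) := by
          have h1 : a j (j + 1) ≤ (y : ℕ) := by
            by_contra hlt
            obtain ⟨x, hx, hP⟩ := PP_exists h (by omega) hjr (by omega : (y : ℕ) < a j (j + 1))
            exact hex ⟨⟨x, hx⟩, hP⟩
          have := a_mono h hi hij (by omega : j ≤ j + 1) hjr
          omega
        rw [hw y hy]
        exact Finset.sum_eq_zero fun x _ => by rw [h0 x, zero_mul]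

lemma Im_mat (h : IsRankArray d r a) {i j : ℕ} (hi : 1 ≤ i) (hij : i ≤ j) (hjr : j ≤ r) :
    QuivB.Im (W := fun j => Fin (d j) → k) (QuivC.phi (mat k d a)) i j = EE k (d j) (a i j) := by
  induction j, hij using Nat.le_induction with
  | base =>
    rw [QuivB.Im_self, h.1 i hi hjr]
    ext v
    simp only [Submodule.mem_top, true_iff]
    intro x hx
    exact absurd x.2 (by omega)
  | succ j hij ih =>
    rw [QuivB.Im_succ _ hij, ih (by omega)]
    exact map_EE h hi hij hjr

theorem realize (k : Type u) [Field k] (h : IsRankArray d r a) :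
    ∃ f : (i : ℕ) → Matrix (Fin (d (i + 1))) (Fin (d i)) k,
      ∀ i j : ℕ, 1 ≤ i → i ≤ j → j ≤ r → rankArray f i j = a i j := by
  refine ⟨mat k d a, fun i j hi hij hjr => ?_⟩
  rw [QuivC.rankArray_eq _ hij, Im_mat h hi hij hjr]
  apply finrank_EE
  have := a_mono h hi hij le_rfl hjr
  rw [h.1 j (by omega) hjr] at this
  exact this

end Groth.Agent.Lib.Helper64.QuivD
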