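import Mathlib
import Groth.Agent.Lib.Helper64.NoPlane
import Groth.Agent.Lib.Helper13.PolyDer

/-!
# General hypersurfaces containing a coordinate subspace `k^S` (`2|S| ≤ n+1`) are smooth (helper64)

Core (coordinate) case.  The singular forms in the space `W₀` of forms of degree `d` without
monomials supported in `S` are covered by the images of `n+1` polynomial maps from affine spaces of
dimension `< dim W₀`.
-/

set_option autoImplicit false
universe u

open MvPolynomial

namespace Groth.Agent.Lib.Helper64.SmoothGen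

open Groth.Agent.Lib.Helper64.NoPlane

variable {k : Type u} [Field k]

/-! ### generalities on evaluation of homogeneous polynomials -/

lemma eval_single_eq_coeff {σ : Type*} [DecidableEq σ] (p : MvPolynomial σ k) (m : ℕ)
    (hp : ∀ μ : σ →₀ ℕ, μ.degree ≠ m → coeff μ p = 0) (j : σ) :
    eval (Pi.single j (1 : k)) p = coeff (Finsupp.single j m) p := by
  rw [eval_eq, Finset.sum_eq_single (Finsupp.single j m)]
  · have h1 : ∏ i ∈ (Finsupp.single j m).support,
        (Pi.single j (1 : k) : σ → k) i ^ (Finsupp.single j m) i = 1 := by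
      apply Finset.prod_eq_one
      intro i hi
      have hij : i = j := by
        by_contra hne
        rw [Finsupp.mem_support_iff, Finsupp.single_apply, if_neg (Ne.symm hne)] at hi
        exact hi rfl
      rw [hij, Pi.single_eq_same, one_pow]
    rw [h1, mul_one]
  · intro μ hμ hne
    have hdeg : μ.degree = m := by
      by_contra h
      exact (MvPolynomial.mem_support_iff.1 hμ) (hp μ h)
    have hex : ∃ i ∈ μ.support, i ≠ j := by
      by_contra hcon
      push_neg at hcon
      apply hne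
      have hμj : μ.degree = μ j := by
        rw [Finsupp.degree_apply]
        apply Finset.sum_eq_single j
        · intro x hx hxj
          exact absurd (hcon x hx) hxj
        · intro hj
          exact Finsupp.notMem_support_iff.1 hj
      ext i
      by_cases hij : i = j
      · rw [hij, Finsupp.single_eq_same, ← hμj, hdeg]
      · rw [Finsupp.single_apply, if_neg (Ne.symm hij)]
        by_contra h
        exact hij (hcon i (Finsupp.mem_support_iff.2 h))
    obtain ⟨i, hi, hij⟩ := hex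
    rw [Finset.prod_eq_zero hi, mul_zero]
    rw [Pi.single_eq_of_ne hij, zero_pow (Finsupp.mem_support_iff.1 hi)]
  · intro h
    rw [MvPolynomial.notMem_support_iff.1 h, zero_mul]

lemma eval_smul_of_degree {σ : Type*} (p : MvPolynomial σ k) (m : ℕ)
    (hp : ∀ μ : σ →₀ ℕ, μ.degree ≠ m → coeff μ p = 0) (c : k) (v : σ → k) :
    eval (c • v) p = c ^ m * eval v p := by
  rw [eval_eq, eval_eq, Finset.mul_sum]
  refine Finset.sum_congr rfl (fun μ hμ => ?_)
  have hdeg : μ.degree = m := by
    by_contra h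
    exact (MvPolynomial.mem_support_iff.1 hμ) (hp μ h)
  have h1 : ∏ i ∈ μ.support, (c • v) i ^ μ i = c ^ m * ∏ i ∈ μ.support, v i ^ μ i := by
    have h2 : ∀ i ∈ μ.support, (c • v) i ^ μ i = c ^ μ i * v i ^ μ i := fun i _ => by
      rw [Pi.smul_apply, smul_eq_mul, mul_pow]
    rw [Finset.prod_congr rfl h2, Finset.prod_mul_distrib, Finset.prod_pow_eq_pow_sum, ← hdeg,
      Finsupp.degree_apply]
  rw [h1]
  ring

lemma coeff_pderiv_eq_zero_of_degree {σ : Type*} (p : MvPolynomial σ k) (d : ℕ) (hd : 1 ≤ d)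
    (hp : ∀ μ : σ →₀ ℕ, μ.degree ≠ d → coeff μ p = 0) (i : σ) :
    ∀ μ : σ →₀ ℕ, μ.degree ≠ d - 1 → coeff μ (pderiv i p) = 0 := by
  classical
  intro μ hμ
  rw [coeff_pderiv, hp, zero_mul]
  rw [map_add, Finsupp.degree_single]
  omega

/-! ### vanishing on a coordinate subspace -/

section coord

variable {n : ℕ} (S : Finset (Fin (n + 1)))

lemma coeff_zero_of_vanish [Infinite k] (H : MvPolynomial (Fin (n + 1)) k)
    (hvan : ∀ x : Fin (n + 1) → k, eval (fun i => if i ∈ S then x i else 0) H = 0)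
    (μ : Fin (n + 1) →₀ ℕ) (hμ : μ.support ⊆ S) : coeff μ H = 0 := by
  have h0 : res S H = 0 := by
    apply MvPolynomial.funext
    intro x
    rw [map_zero, eval_res]
    exact hvan x
  rw [← coeff_res S _ μ hμ, h0, coeff_zero]

lemma vanish_of_support (H : MvPolynomial (Fin (n + 1)) k)
    (hH : ∀ μ ∈ H.support, ¬ μ.support ⊆ S) (x : Fin (n + 1) → k)
    (hx : ∀ i, i ∉ S → x i = 0) : eval x H = 0 := by
  rw [eval_eq]
  apply Finset.sum_eq_zero
  intro μ hμ
  obtain ⟨i, hi, hiS⟩ := Finset.not_subset.1 (hH μ hμ)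
  rw [Finset.prod_eq_zero hi, mul_zero]
  rw [hx i hiS, zero_pow (Finsupp.mem_support_iff.1 hi)]

end coord

/-! ### the shear substitution -/

section shear

variable {n : ℕ} (j : Fin (n + 1)) (a : Fin (n + 1) → k)

/-- the substitution `x ↦ x + x_j a`. -/
noncomputable def sh (i : Fin (n + 1)) : MvPolynomial (Fin (n + 1)) k := X i + C (a i) * X j

lemma sh_isHomogeneous (i : Fin (n + 1)) : (sh j a i).IsHomogeneous 1 :=
  (isHomogeneous_X _ _).add ((isHomogeneous_X _ _).C_mul _)

lemma eval_sh (x : Fin (n + 1) → k) (i : Fin (n + 1)) :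
    eval x (sh j a i) = x i + a i * x j := by
  unfold sh
  rw [map_add, eval_X, map_mul, eval_C, eval_X]

lemma aeval_sh_neg (ha : a j = 0) (i : Fin (n + 1)) :
    aeval (sh j (fun l => - a l)) (sh j a i) = X i := by
  simp only [sh, map_add, map_mul, aeval_X, aeval_C, algebraMap_eq, ha, neg_zero, C_0, zero_mul,
    add_zero, C_neg]
  ring

lemma aeval_aeval_sh (ha : a j = 0) (H : MvPolynomial (Fin (n + 1)) k) :
    aeval (sh j (fun l => - a l)) (aeval (sh j a) H) = H := by
  induction H using MvPolynomial.induction_on with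
  | C c => rw [aeval_C, algebraMap_eq, aeval_C, algebraMap_eq]
  | add p q hp hq => rw [map_add, map_add, hp, hq]
  | mul_X p i hp => rw [map_mul, map_mul, hp, aeval_X, aeval_sh_neg j a ha]

end shear

/-! ### the universal family of the chart `v_j ≠ 0` -/

section universal

variable (k) (n d : ℕ) (S : Finset (Fin (n + 1))) (j : Fin (n + 1))

/-- free coordinates of the singular point. -/
def Pj : Finset (Fin (n + 1)) := Finset.univ.filter (fun i => i ≠ j ∧ (j ∈ S → i ∈ S))

lemma mem_Pj {i : Fin (n + 1)} : i ∈ Pj n S j ↔ i ≠ j ∧ (j ∈ S → i ∈ S) := by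
  unfold Pj
  rw [Finset.mem_filter]
  exact ⟨fun h => h.2, fun h => ⟨Finset.mem_univ _, h⟩⟩

/-- directions of the killed monomials. -/
def Qj : Finset (Fin (n + 1)) := if j ∈ S then Sᶜ else Finset.univ

/-- the killed monomials `x_j^(d-1) x_i`. -/
noncomputable def Kj : Finset (Fin (n + 1) →₀ ℕ) :=
  (Qj n S j).image (fun i => Finsupp.single j (d - 1) + Finsupp.single i 1)

/-- the remaining monomials. -/
noncomputable def Tj : Finset (Fin (n + 1) →₀ ℕ) := (Md n d \ Pu n d S) \ Kj n d S j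

/-- parameters of the chart. -/
abbrev Varj : Type := {x // x ∈ Pj n S j} ⊕ {x // x ∈ Tj n d S j}

lemma Kj_subset (hd : 2 ≤ d) : Kj n d S j ⊆ Md n d \ Pu n d S := by
  intro μ hμ
  rw [Kj, Finset.mem_image] at hμ
  obtain ⟨i, hi, rfl⟩ := hμ
  rw [Finset.mem_sdiff, mem_Md, mem_Pu]
  have hdeg : (Finsupp.single j (d - 1) + Finsupp.single i 1 : Fin (n + 1) →₀ ℕ).degree = d := by
    rw [map_add, Finsupp.degree_single, Finsupp.degree_single]
    omega
  refine ⟨hdeg, fun h => ?_⟩
  by_cases hj : j ∈ S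
  · rw [Qj, if_pos hj, Finset.mem_compl] at hi
    apply hi
    apply h.2
    rw [Finsupp.mem_support_iff, Finsupp.add_apply, Finsupp.single_eq_same]
    omega
  · apply hj
    apply h.2
    rw [Finsupp.mem_support_iff, Finsupp.add_apply, Finsupp.single_eq_same]
    omega

lemma card_Pj_lt (hS : 2 * S.card ≤ n + 1) : (Pj n S j).card < (Qj n S j).card := by
  by_cases hj : j ∈ S
  · have h1 : Pj n S j = S.erase j := by
      ext i
      rw [mem_Pj, Finset.mem_erase]
      exact ⟨fun h => ⟨h.1, h.2 hj⟩, fun h => ⟨h.1, fun _ => h.2⟩⟩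
    rw [h1, Finset.card_erase_of_mem hj, Qj, if_pos hj, Finset.card_compl, Fintype.card_fin]
    have : 0 < S.card := Finset.card_pos.2 ⟨j, hj⟩
    omega
  · have h1 : Pj n S j = Finset.univ.erase j := by
      ext i
      rw [mem_Pj, Finset.mem_erase]
      exact ⟨fun h => ⟨h.1, Finset.mem_univ _⟩, fun h => ⟨h.1, fun h' => absurd h' hj⟩⟩
    rw [h1, Finset.card_erase_of_mem (Finset.mem_univ j), Qj, if_neg hj, Finset.card_univ,
      Fintype.card_fin]
    omega

lemma card_Varj_lt (hd : 2 ≤ d) (hS : 2 * S.card ≤ n + 1) :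
    Fintype.card (Varj n d S j) < Fintype.card {x // x ∈ Md n d \ Pu n d S} := by
  rw [Fintype.card_sum, Fintype.card_coe, Fintype.card_coe, Fintype.card_coe]
  have hK : Kj n d S j ⊆ Md n d \ Pu n d S := Kj_subset n d S j hd
  rw [Tj, Finset.card_sdiff_of_subset hK]
  have h1 : (Kj n d S j).card = (Qj n S j).card := by
    unfold Kj
    apply Finset.card_image_of_injective
    intro i i' h
    exact (Finsupp.single_left_inj one_ne_zero).1 (add_left_cancel h)
  have h2 : (Kj n d S j).card ≤ (Md n d \ Pu n d S).card := Finset.card_le_card hK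
  have h3 := card_Pj_lt n S j hS
  omega

/-- universal shear. -/
noncomputable def σu (i : Fin (n + 1)) :
    MvPolynomial (Fin (n + 1)) (MvPolynomial (Varj n d S j) k) :=
  if h : i ∈ Pj n S j then X i + C (X (Sum.inl ⟨i, h⟩)) * X j else X i

/-- universal singular form. -/
noncomputable def GGj : MvPolynomial (Fin (n + 1)) (MvPolynomial (Varj n d S j) k) :=
  ∑ μ : {x // x ∈ Tj n d S j}, C (X (Sum.inr μ)) * ∏ i, (σu k n d S j i) ^ (μ.1 i)

/-- its coefficients. -/
noncomputable def FFj (ν : {x // x ∈ Md n d \ Pu n d S}) : MvPolynomial (Varj n d S j) k :=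
  coeff ν.1 (GGj k n d S j)

variable {k}

/-- a point of the parameter space. -/
def ptj (a : Fin (n + 1) → k) (c : (Fin (n + 1) →₀ ℕ) → k) : Varj n d S j → k :=
  Sum.elim (fun i => a i.1) (fun μ => c μ.1)

lemma map_σu (a : Fin (n + 1) → k) (ha : ∀ i, i ∉ Pj n S j → a i = 0)
    (c : (Fin (n + 1) →₀ ℕ) → k) (i : Fin (n + 1)) :
    map (eval (ptj n d S j a c)) (σu k n d S j i) = sh j a i := by
  unfold σu sh
  by_cases h : i ∈ Pj n S j
  · rw [dif_pos h, map_add, map_X, map_mul, map_C, map_X, eval_X]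
    rfl
  · rw [dif_neg h, map_X, ha i h, C_0, zero_mul, add_zero]

lemma map_GGj (a : Fin (n + 1) → k) (ha : ∀ i, i ∉ Pj n S j → a i = 0)
    (c : (Fin (n + 1) →₀ ℕ) → k) :
    map (eval (ptj n d S j a c)) (GGj k n d S j) =
      aeval (sh j a) (∑ μ ∈ Tj n d S j, monomial μ (c μ)) := by
  unfold GGj
  rw [map_sum, map_sum, ← Finset.sum_coe_sort (Tj n d S j)]
  refine Finset.sum_congr rfl (fun μ _ => ?_)
  rw [map_mul, map_C, eval_X, map_prod, aeval_monomial, algebraMap_eq, Finsupp.prod_fintype]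
  · congr 1
    refine Finset.prod_congr rfl (fun i _ => ?_)
    rw [map_pow, map_σu n d S j a ha]
  · intro i
    rw [pow_zero]

lemma chart_param [Infinite k] (hd : 2 ≤ d) (H : MvPolynomial (Fin (n + 1)) k)
    (hH : H.IsHomogeneous d) (hsupp : ∀ μ ∈ H.support, ¬ μ.support ⊆ S)
    (v : Fin (n + 1) → k) (hvj : v j ≠ 0) (hvS : j ∈ S → ∀ i, i ∉ S → v i = 0)
    (h0 : eval v H = 0) (h1 : ∀ i, eval v (pderiv i H) = 0) :
    ∃ p : Varj n d S j → k, ∀ ν : {x // x ∈ Md n d \ Pu n d S},
      coeff ν.1 H = eval p (FFj k n d S j ν) := by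
  classical
  have hdeg : ∀ μ : Fin (n + 1) →₀ ℕ, μ.degree ≠ d → coeff μ H = 0 :=
    fun μ h => hH.coeff_eq_zero h
  have hv'j : ((v j)⁻¹ • v) j = 1 := by
    rw [Pi.smul_apply, smul_eq_mul, inv_mul_cancel₀ hvj]
  have h0' : eval ((v j)⁻¹ • v) H = 0 := by
    rw [eval_smul_of_degree H d hdeg, h0, mul_zero]
  have h1' : ∀ i, eval ((v j)⁻¹ • v) (pderiv i H) = 0 := fun i => by
    rw [eval_smul_of_degree (pderiv i H) (d - 1)
      (coeff_pderiv_eq_zero_of_degree H d (by omega) hdeg i), h1, mul_zero]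
  obtain ⟨v', hv'⟩ : ∃ v' : Fin (n + 1) → k, v' = (v j)⁻¹ • v := ⟨_, rfl⟩
  rw [← hv'] at hv'j h0' h1'
  have hv'S : j ∈ S → ∀ i, i ∉ S → v' i = 0 := by
    intro hj i hi
    rw [hv', Pi.smul_apply, hvS hj i hi, smul_zero]
  obtain ⟨a, ha⟩ : ∃ a : Fin (n + 1) → k, a = fun i => if i = j then 0 else v' i := ⟨_, rfl⟩
  have haj : a j = 0 := by
    rw [ha]
    exact if_pos rfl
  have hane : ∀ i, i ≠ j → a i = v' i := by
    intro i hi
    rw [ha]
    exact if_neg hi
  have haP : ∀ i, i ∉ Pj n S j → a i = 0 := by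
    intro i hi
    by_cases hij : i = j
    · rw [hij]
      exact haj
    · have h2 : j ∈ S ∧ i ∉ S := by
        by_contra hcon
        apply hi
        rw [mem_Pj]
        refine ⟨hij, fun hjS => ?_⟩
        by_contra hiS
        exact hcon ⟨hjS, hiS⟩
      rw [hane i hij, hv'S h2.1 i h2.2]
  have hpt : (fun i => (Pi.single j (1 : k) : Fin (n + 1) → k) i +
      a i * (Pi.single j (1 : k) : Fin (n + 1) → k) j) = v' := by
    funext i
    rw [Pi.single_eq_same, mul_one]
    by_cases hij : i = j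
    · rw [hij, Pi.single_eq_same, haj, add_zero, hv'j]
    · rw [Pi.single_eq_of_ne hij, zero_add, hane i hij]
  have hevalG : ∀ (P : MvPolynomial (Fin (n + 1)) k) (x : Fin (n + 1) → k),
      eval x (aeval (sh j a) P) = eval (fun i => x i + a i * x j) P := by
    intro P x
    rw [eval_aeval_mv]
    have e : (fun i => eval x (sh j a i)) = fun i => x i + a i * x j :=
      funext (fun i => eval_sh j a x i)
    rw [e]
  have hevalH' : ∀ x : Fin (n + 1) → k,
      eval x (aeval (sh j a) H) = eval (fun i => x i + a i * x j) H := hevalG H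
  have hsing0 : eval (Pi.single j (1 : k)) (aeval (sh j a) H) = 0 := by
    rw [hevalH', hpt, h0']
  have hsing1 : ∀ i, eval (Pi.single j (1 : k)) (pderiv i (aeval (sh j a) H)) = 0 := by
    intro i
    rw [Groth.Agent.Lib.Helper13.PolyDer.derivation_aeval (pderiv i) (sh j a) H, map_sum]
    apply Finset.sum_eq_zero
    intro l _
    rw [smul_eq_mul, map_mul, hevalG, hpt, h1' l, zero_mul]
  have hH'hom : (aeval (sh j a) H).IsHomogeneous d := by
    have := hH.aeval (sh j a) (fun i => sh_isHomogeneous j a i)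
    rwa [one_mul] at this
  have hdeg' : ∀ μ : Fin (n + 1) →₀ ℕ, μ.degree ≠ d → coeff μ (aeval (sh j a) H) = 0 :=
    fun μ h => hH'hom.coeff_eq_zero h
  have hpure' : ∀ μ : Fin (n + 1) →₀ ℕ, μ.support ⊆ S → coeff μ (aeval (sh j a) H) = 0 := by
    intro μ hμ
    apply coeff_zero_of_vanish S _ _ μ hμ
    intro x
    rw [hevalH']
    apply vanish_of_support S H hsupp
    intro i hi
    show (if i ∈ S then x i else 0) + a i * (if j ∈ S then x j else 0) = 0
    rw [if_neg hi, zero_add]
    by_cases hjS : j ∈ S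
    · have h2 : a i = 0 := haP i (by
        rw [mem_Pj]
        intro h
        exact hi (h.2 hjS))
      rw [h2, zero_mul]
    · rw [if_neg hjS, mul_zero]
  have hK' : ∀ i, coeff (Finsupp.single j (d - 1) + Finsupp.single i 1)
      (aeval (sh j a) H) = 0 := by
    intro i
    by_cases hij : i = j
    · rw [hij, ← Finsupp.single_add, Nat.sub_add_cancel (by omega : 1 ≤ d),
        ← eval_single_eq_coeff _ d hdeg' j]
      exact hsing0
    · have h2 := eval_single_eq_coeff (pderiv i (aeval (sh j a) H)) (d - 1)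
        (coeff_pderiv_eq_zero_of_degree _ d (by omega) hdeg' i) j
      rw [hsing1 i, coeff_pderiv, Finsupp.single_apply, if_neg (Ne.symm hij)] at h2
      simpa using h2.symm
  have hsuppT : (aeval (sh j a) H).support ⊆ Tj n d S j := by
    intro μ hμ
    have hc : coeff μ (aeval (sh j a) H) ≠ 0 := MvPolynomial.mem_support_iff.1 hμ
    rw [Tj, Finset.mem_sdiff, Finset.mem_sdiff, mem_Md, mem_Pu]
    refine ⟨⟨by
      by_contra h
      exact hc (hdeg' μ h), fun h => hc (hpure' μ h.2)⟩, fun h => ?_⟩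
    rw [Kj, Finset.mem_image] at h
    obtain ⟨i, _, rfl⟩ := h
    exact hc (hK' i)
  have hsum : ∑ μ ∈ Tj n d S j, monomial μ (coeff μ (aeval (sh j a) H)) = aeval (sh j a) H := by
    rw [← Finset.sum_subset hsuppT
      (fun μ _ hμ => by rw [MvPolynomial.notMem_support_iff.1 hμ, monomial_zero])]
    exact support_sum_monomial_coeff _
  refine ⟨ptj n d S j (fun i => - a i) (fun μ => coeff μ (aeval (sh j a) H)), fun ν => ?_⟩
  unfold FFj
  rw [← coeff_map, map_GGj n d S j _ (fun i hi => by rw [haP i hi, neg_zero]), hsum,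
    aeval_aeval_sh j a haj]

theorem chart_dependence_j [Infinite k] (hd : 2 ≤ d) (hS : 2 * S.card ≤ n + 1) :
    ∃ Φ : MvPolynomial {x // x ∈ Md n d \ Pu n d S} k, Φ ≠ 0 ∧
      ∀ H : MvPolynomial (Fin (n + 1)) k, H.IsHomogeneous d →
      (∀ μ ∈ H.support, ¬ μ.support ⊆ S) →
      ∀ v : Fin (n + 1) → k, v j ≠ 0 → (j ∈ S → ∀ i, i ∉ S → v i = 0) →
      eval v H = 0 → (∀ i, eval v (pderiv i H) = 0) →
      eval (fun ν : {x // x ∈ Md n d \ Pu n d S} => coeff ν.1 H) Φ = 0 := by
  obtain ⟨Φ, hΦ, hdep⟩ := exists_dependence (card_Varj_lt n d S j hd hS) (FFj k n d S j)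
  refine ⟨Φ, hΦ, fun H hH hsupp v hvj hvS h0 h1 => ?_⟩
  obtain ⟨p, hp⟩ := chart_param n d S j hd H hH hsupp v hvj hvS h0 h1
  have e : (fun ν : {x // x ∈ Md n d \ Pu n d S} => coeff ν.1 H) =
      fun ν => eval p (FFj k n d S j ν) := funext hp
  rw [e, ← eval_aeval_mv, hdep, map_zero]

/-- Core theorem: the singular forms without pure-`S` monomials lie in a hypersurface. -/
theorem core [Infinite k] (hd : 2 ≤ d) (hS : 2 * S.card ≤ n + 1) :
    ∃ Φ : MvPolynomial {x // x ∈ Md n d \ Pu n d S} k, Φ ≠ 0 ∧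
      ∀ H : MvPolynomial (Fin (n + 1)) k, H.IsHomogeneous d →
      (∀ μ ∈ H.support, ¬ μ.support ⊆ S) →
      ∀ v : Fin (n + 1) → k, v ≠ 0 →
      eval v H = 0 → (∀ i, eval v (pderiv i H) = 0) →
      eval (fun ν : {x // x ∈ Md n d \ Pu n d S} => coeff ν.1 H) Φ = 0 := by
  classical
  choose Φ hΦ0 hΦ using fun j => chart_dependence_j (k := k) n d S j hd hS
  refine ⟨∏ j, Φ j, Finset.prod_ne_zero_iff.2 (fun j _ => hΦ0 j),
    fun H hH hsupp v hv h0 h1 => ?_⟩
  rw [map_prod]
  by_cases hex : ∃ j, j ∉ S ∧ v j ≠ 0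
  · obtain ⟨j, hjS, hvj⟩ := hex
    exact Finset.prod_eq_zero (Finset.mem_univ j)
      (hΦ j H hH hsupp v hvj (fun h => absurd h hjS) h0 h1)
  · push_neg at hex
    obtain ⟨j, hvj⟩ : ∃ j, v j ≠ 0 := by
      by_contra hcon
      push_neg at hcon
      exact hv (funext hcon)
    have hvS : ∀ i, i ∉ S → v i = 0 := fun i hi => hex i hi
    exact Finset.prod_eq_zero (Finset.mem_univ j)
      (hΦ j H hH hsupp v hvj (fun _ => hvS) h0 h1)

end universal

end Groth.Agent.Lib.Helper64.SmoothGen
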