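import Mathlib
import Groth.Prelude.Def_LefPen
import Groth.Agent.Lib.Helper64.NoPlaneFin
import Groth.Agent.Lib.Helper64.SmoothGenA

/-!
# General hypersurfaces containing a linear subspace `U` (`2 dim U ≤ n+1`) are smooth (helper64)
Reduction to the coordinate case of `SmoothGenA` by a shear, and the final statement.
-/

set_option autoImplicit false
universe u

open MvPolynomial

namespace Groth.Agent.Lib.Helper64.SmoothGen

open Groth.Agent.Lib.Helper64.NoPlane

variable {k : Type u} [Field k]

theorem isPolyFun_eval_dual {V : Type u} [AddCommGroup V] [Module k V] {τ : Type*}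
    (L : τ → Module.Dual k V) (Φ : MvPolynomial τ k) :
    LefPen.IsPolyFun k (fun x : V => eval (fun ν => L ν x) Φ) := by
  unfold LefPen.IsPolyFun
  induction Φ using MvPolynomial.induction_on with
  | C a =>
    have e : (fun x : V => eval (fun ν => L ν x) (C a)) = algebraMap k (V → k) a := by
      funext x
      rw [eval_C]
      rfl
    rw [e]
    exact Subalgebra.algebraMap_mem _ _
  | add p q hp hq =>
    have e : (fun x : V => eval (fun ν => L ν x) (p + q)) =
        (fun x : V => eval (fun ν => L ν x) p) + (fun x : V => eval (fun ν => L ν x) q) := by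
      funext x
      rw [map_add]
      rfl
    rw [e]
    exact Subalgebra.add_mem _ hp hq
  | mul_X p ν hp =>
    have e : (fun x : V => eval (fun ν => L ν x) (p * X ν)) =
        (fun x : V => eval (fun ν => L ν x) p) * (fun x : V => L ν x) := by
      funext x
      rw [map_mul, eval_X]
      rfl
    rw [e]
    exact Subalgebra.mul_mem _ hp (Algebra.subset_adjoin ⟨L ν, rfl⟩)

theorem exists_chart0 {n : ℕ} (U : Submodule k (Fin (n + 1) → k)) :
    ∃ (S : Finset (Fin (n + 1))) (B : Fin (n + 1) → Fin (n + 1) → k),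
      S.card = Module.finrank k U ∧
      (∀ t : Fin (n + 1) → k, iot S B t ∈ U) ∧ ∀ u ∈ U, iot S B u = u := by
  rcases Nat.eq_zero_or_pos (Module.finrank k U) with h0 | hpos
  · have hbot : U = ⊥ := Submodule.finrank_eq_zero.1 h0
    refine ⟨∅, fun _ _ => 0, by rw [h0]; rfl, fun t => ?_, fun u hu => ?_⟩
    · have h1 : iot (∅ : Finset (Fin (n + 1))) (fun _ _ => (0 : k)) t = 0 := by
        funext i
        unfold iot
        simp
      rw [h1]
      exact U.zero_mem
    · rw [hbot, Submodule.mem_bot] at hu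
      rw [hu]
      funext i
      unfold iot
      simp
  · obtain ⟨m, hm⟩ := Nat.exists_eq_succ_of_ne_zero (Nat.pos_iff_ne_zero.1 hpos)
    obtain ⟨S, hS, B, h1, h2⟩ := exists_chart' U hm
    exact ⟨S, B, by rw [hS, hm], h1, h2⟩

lemma aeval_aeval_lin' {n : ℕ} (S : Finset (Fin (n + 1))) (B : Fin (n + 1) → Fin (n + 1) → k)
    (H : MvPolynomial (Fin (n + 1)) k) :
    aeval (lin S B) (aeval (lin S (fun a b => - B a b)) H) = H := by
  have h := aeval_aeval_lin S (fun a b => - B a b) H
  simp only [neg_neg] at h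
  exact h

theorem main_smooth (k : Type u) [Field k] [Infinite k] (n d : ℕ) (hd : 2 ≤ d)
    (U : Submodule k (Fin (n + 1) → k)) (hU : 2 * Module.finrank k ↥U ≤ n + 1)
    (W : Submodule k (LefPen.Form n k d))
    (hW : ∀ G : LefPen.Form n k d, G ∈ W ↔ ∀ u ∈ U, MvPolynomial.eval u G.1 = 0) :
    LefPen.IsGeneric k {G : ↥W | ∀ v : Fin (n + 1) → k, v ≠ 0 →
      MvPolynomial.eval v G.1.1 = 0 →
      ∃ i : Fin (n + 1), MvPolynomial.eval v (MvPolynomial.pderiv i G.1.1) ≠ 0} := by
  classical
  obtain ⟨S, B, hScard, hB1, hB2⟩ := exists_chart0 U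
  have hS : 2 * S.card ≤ n + 1 := by
    rw [hScard]
    exact hU
  obtain ⟨Φ, hΦ0, hΦ⟩ := core (k := k) n d S hd hS
  let L : {x // x ∈ Md n d \ Pu n d S} → Module.Dual k ↥W := fun ν =>
    (lcoeff k ν.1).comp ((aeval (lin S B)).toLinearMap.comp
      ((Submodule.subtype (homogeneousSubmodule (Fin (n + 1)) k d)).comp (Submodule.subtype W)))
  have hL : ∀ (ν : {x // x ∈ Md n d \ Pu n d S}) (G : ↥W),
      L ν G = coeff ν.1 (aeval (lin S B) G.1.1) := fun ν G => rfl
  have hpf := isPolyFun_eval_dual (V := ↥W) L Φ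
  refine ⟨fun G => eval (fun ν => L ν G) Φ, hpf, ?_, ?_⟩
  · obtain ⟨c, hc⟩ := exists_eval_ne_zero Φ hΦ0
    obtain ⟨H₀, hH₀⟩ : ∃ H₀ : MvPolynomial (Fin (n + 1)) k,
        H₀ = ∑ μ : {x // x ∈ Md n d \ Pu n d S}, monomial μ.1 (c μ) := ⟨_, rfl⟩
    have hcoeff : ∀ ν : {x // x ∈ Md n d \ Pu n d S}, coeff ν.1 H₀ = c ν := by
      intro ν
      rw [hH₀, coeff_sum, Finset.sum_eq_single ν]
      · rw [coeff_monomial, if_pos rfl]
      · intro μ _ hμ
        rw [coeff_monomial, if_neg]
        intro h
        exact hμ (Subtype.ext h)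
      · intro h
        exact absurd (Finset.mem_univ _) h
    have hH₀hom : H₀.IsHomogeneous d := by
      rw [hH₀]
      exact IsHomogeneous.sum _ _ _ (fun μ _ =>
        isHomogeneous_monomial _ ((mem_Md n d).1 (Finset.mem_sdiff.1 μ.2).1))
    have hH₀supp : ∀ μ ∈ H₀.support, ¬ μ.support ⊆ S := by
      intro μ hμ hsub
      have hc0 : coeff μ H₀ ≠ 0 := MvPolynomial.mem_support_iff.1 hμ
      apply hc0
      rw [hH₀, coeff_sum]
      apply Finset.sum_eq_zero
      intro ν _
      rw [coeff_monomial, if_neg]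
      intro h
      have h1 := Finset.mem_sdiff.1 ν.2
      apply h1.2
      rw [mem_Pu, h]
      exact ⟨by rw [← h]; exact (mem_Md n d).1 h1.1, hsub⟩
    have hG₀hom : (aeval (lin S (fun a b => - B a b)) H₀).IsHomogeneous d := by
      have := hH₀hom.aeval (lin S (fun a b => - B a b)) (lin_isHomogeneous S _)
      rwa [one_mul] at this
    have hG₀W : (⟨aeval (lin S (fun a b => - B a b)) H₀,
        (mem_homogeneousSubmodule _ _).2 hG₀hom⟩ : LefPen.Form n k d) ∈ W := by
      rw [hW]
      intro u hu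
      show eval u (aeval (lin S (fun a b => - B a b)) H₀) = 0
      rw [eval_aeval_mv]
      apply vanish_of_support S H₀ hH₀supp
      intro i hi
      rw [eval_lin, if_neg hi]
      show u i + ∑ j ∈ S, (- B i j) * u j = 0
      have h2 := congrFun (hB2 u hu) i
      unfold iot at h2
      rw [if_neg hi] at h2
      have h3 : u i + ∑ j ∈ S, (- B i j) * u j =
          ∑ j ∈ S, B i j * u j + ∑ j ∈ S, (- B i j) * u j := by rw [h2]
      rw [h3, ← Finset.sum_add_distrib]
      apply Finset.sum_eq_zero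
      intro j _
      ring
    refine ⟨⟨⟨_, _⟩, hG₀W⟩, ?_⟩
    have e : (fun ν => L ν ⟨⟨_, _⟩, hG₀W⟩) = c := by
      funext ν
      rw [hL]
      show coeff ν.1 (aeval (lin S B) (aeval (lin S (fun a b => - B a b)) H₀)) = c ν
      rw [aeval_aeval_lin', hcoeff]
    show eval (fun ν => L ν ⟨⟨_, _⟩, hG₀W⟩) Φ ≠ 0
    rw [e]
    exact hc
  · intro G hG
    rw [Set.mem_setOf_eq]
    intro v hv hv0
    by_contra hcon
    push_neg at hcon
    apply hG
    show eval (fun ν => L ν G) Φ = 0
    have e : (fun ν => L ν G) = fun ν : {x // x ∈ Md n d \ Pu n d S} =>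
        coeff ν.1 (aeval (lin S B) G.1.1) := funext (fun ν => hL ν G)
    rw [e]
    have hGhom : G.1.1.IsHomogeneous d := (mem_homogeneousSubmodule _ _).1 G.1.2
    have hGvan : ∀ u ∈ U, eval u G.1.1 = 0 := (hW G.1).1 G.2
    have hHhom : (aeval (lin S B) G.1.1).IsHomogeneous d := by
      have := hGhom.aeval (lin S B) (lin_isHomogeneous S B)
      rwa [one_mul] at this
    have hHsupp : ∀ μ ∈ (aeval (lin S B) G.1.1).support, ¬ μ.support ⊆ S := by
      intro μ hμ hsub
      exact (MvPolynomial.mem_support_iff.1 hμ)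
        (pure_coeff_zero S B G.1.1 (fun t => hGvan _ (hB1 t)) μ hsub)
    have hyv : (fun i => eval (fun l => eval v (lin S (fun a b => - B a b) l)) (lin S B i)) = v := by
      funext i
      have h3 := congrArg (eval v) (aeval_lin_neg S B i)
      rw [eval_aeval_mv, eval_X] at h3
      exact h3
    have hevalH : ∀ P : MvPolynomial (Fin (n + 1)) k,
        eval (fun l => eval v (lin S (fun a b => - B a b) l)) (aeval (lin S B) P) = eval v P := by
      intro P
      rw [eval_aeval_mv, hyv]
    have hy0 : (fun l => eval v (lin S (fun a b => - B a b) l)) ≠ 0 := by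
      intro h0
      apply hv
      rw [← hyv, h0]
      funext i
      rw [eval_lin]
      split_ifs <;> simp
    refine hΦ _ hHhom hHsupp _ hy0 (by rw [hevalH]; exact hv0) (fun i => ?_)
    rw [Groth.Agent.Lib.Helper13.PolyDer.derivation_aeval (pderiv i) (lin S B) G.1.1, map_sum]
    apply Finset.sum_eq_zero
    intro l _
    rw [smul_eq_mul, map_mul, hevalH, hcon l, zero_mul]

end Groth.Agent.Lib.Helper64.SmoothGen
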